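import Cfsg.Agent.Omega.OmThm.SP
import Mathlib.Algebra.Group.Subgroup.Pointwise
import Mathlib.GroupTheory.Index
import Mathlib.GroupTheory.Subgroup.Centralizer
import Mathlib.Tactic.Group
import Mathlib.Tactic.Set

/-!
# LEMMA TT and LEMMA SP for subgroups (bb OMEGA #17612, #19952 (1))

`N` is an elementary abelian 2-group, `Pt` a set of subgroups of `N` of order `q ≥ 3` (points) which meet pairwise
trivially and generate `N`, `X p` (for a point `p`) a group with `[N, X p] ≤ p`, `[p, X p] = 1` which permutes the points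
(and the groups `X x`), regular in the sense of `reg`.

`GD.mem_point` : if no product `a b ≠ 1` of elements of two points centralises all `X p`, the (symmetrised) graph
'some element of `X p` moves `x`' is connected, and some `X p` moves `N`, then **every element `≠ 1` of `N` lies in a
point**.
-/

set_option autoImplicit false
set_option linter.unusedSectionVars false

namespace Cfsg.Agent.Omega.OmThm.Grp

open Subgroup
open scoped Pointwise IsMulCommutative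

universe u

variable {G : Type u} [Group G]

/-- The group-theoretic data common to TT, SP and PtGeo. -/
structure GB (N : Subgroup G) (Pt : Set (Subgroup G)) (X : Subgroup G → Subgroup G) (q : ℕ) : Prop where
  comm : ∀ x ∈ N, ∀ y ∈ N, x * y = y * x
  sq : ∀ x ∈ N, x * x = 1
  le : ∀ p ∈ Pt, p ≤ N
  card : ∀ p ∈ Pt, Nat.card p = q
  ti : ∀ p ∈ Pt, ∀ x ∈ Pt, ∀ v ∈ p, v ∈ x → v ≠ 1 → p = x
  XN : ∀ p ∈ Pt, ∀ w ∈ X p, ∀ v ∈ N, w * v * w⁻¹ * v⁻¹ ∈ p
  Xp : ∀ p ∈ Pt, ∀ w ∈ X p, ∀ v ∈ p, w * v = v * w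
  mv : ∀ p ∈ Pt, ∀ w ∈ X p, ∀ x ∈ Pt, MulAut.conj w • x ∈ Pt
  Xc : ∀ p ∈ Pt, ∀ w ∈ X p, ∀ x ∈ Pt, X (MulAut.conj w • x) = MulAut.conj w • X x
  cardT : ∀ p ∈ Pt, ∀ x ∈ Pt, (centralizer (N : Set G)).relIndex (X p) = (centralizer (N : Set G)).relIndex (X x)
  span : N ≤ sSup Pt

/-- The group-theoretic data of TT / SP. -/
structure GD (N : Subgroup G) (Pt : Set (Subgroup G)) (X : Subgroup G → Subgroup G) (q : ℕ) : Prop
    extends GB N Pt X q where
  hq : 3 ≤ q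
  reg : ∀ x ∈ Pt, ∀ w ∈ X x, ∀ b ∈ N, w * b ≠ b * w → ∀ z ∈ x, ∃ w' ∈ X x, w' * b * w'⁻¹ * b⁻¹ = z ∧
    ∀ v ∈ N, w * v = v * w → w' * v = v * w'

section pt

variable (N : Subgroup G) [IsMulCommutative N]

/-- the additive subgroup of `p` -/
def pt (p : Subgroup G) : AddSubgroup (Additive N) := Subgroup.toAddSubgroup (p.subgroupOf N)

variable {N}

theorem mem_pt {p : Subgroup G} {v : Additive N} : v ∈ pt N p ↔ ((v.toMul : N) : G) ∈ p := Iff.rfl

theorem pt_inj {p x : Subgroup G} (hp : p ≤ N) (hx : x ≤ N) (h : pt N p = pt N x) : p = x := by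
  have key : ∀ {p x : Subgroup G}, p ≤ N → pt N p = pt N x → p ≤ x := by
    intro p x hp h v hv
    have h1 : Additive.ofMul (⟨v, hp hv⟩ : N) ∈ pt N p := hv
    rw [h] at h1
    exact h1
  exact le_antisymm (key hp h) (key hx h.symm)

/-- `η` is the commutator map of `w` -/
def IsC (w : G) (η : Additive N →+ Additive N) : Prop :=
  ∀ v : Additive N, (((η v).toMul : N) : G) = w * ((v.toMul : N) : G) * w⁻¹ * ((v.toMul : N) : G)⁻¹

/-- the commutator maps of the elements of `X p` -/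
def SS (Pt : Set (Subgroup G)) (X : Subgroup G → Subgroup G) (A : AddSubgroup (Additive N)) :
    Set (Additive N →+ Additive N) := {η | ∃ p ∈ Pt, A = pt N p ∧ ∃ w ∈ X p, IsC w η}

/-- the group `T p` -/
def TT (Pt : Set (Subgroup G)) (X : Subgroup G → Subgroup G) (A : AddSubgroup (Additive N)) :
    AddSubgroup (Additive N →+ Additive N) := AddSubgroup.closure (SS Pt X A)

theorem exists_isC (w : G) (hw : ∀ v ∈ N, w * v * w⁻¹ * v⁻¹ ∈ N) : ∃ η : Additive N →+ Additive N, IsC w η := by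
  refine ⟨MonoidHom.toAdditive
    { toFun := fun v => ⟨w * v * w⁻¹ * (v : G)⁻¹, hw v v.2⟩
      map_one' := Subtype.ext (by simp)
      map_mul' := fun a b => Subtype.ext ?_ }, fun v => rfl⟩
  change w * ((a : G) * b) * w⁻¹ * ((a : G) * b)⁻¹ = w * (a : G) * w⁻¹ * (a : G)⁻¹ * (w * (b : G) * w⁻¹ * (b : G)⁻¹)
  have h1 : (a : G)⁻¹ * (w * (b : G) * w⁻¹ * (b : G)⁻¹) = (w * (b : G) * w⁻¹ * (b : G)⁻¹) * (a : G)⁻¹ :=
    congrArg Subtype.val (mul_comm (a⁻¹ : N) ⟨_, hw b b.2⟩)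
  calc w * ((a : G) * b) * w⁻¹ * ((a : G) * b)⁻¹ = w * (a : G) * w⁻¹ * ((w * (b : G) * w⁻¹ * (b : G)⁻¹) * (a : G)⁻¹) := by
        group
    _ = w * (a : G) * w⁻¹ * ((a : G)⁻¹ * (w * (b : G) * w⁻¹ * (b : G)⁻¹)) := by rw [h1]
    _ = _ := by group

theorem isC_uniq {w : G} {η η' : Additive N →+ Additive N} (h : IsC w η) (h' : IsC w η') : η = η' := by
  exact DFunLike.ext _ _ fun v => Subtype.ext ((h v).trans (h' v).symm)

theorem isC_conj {w : G} {η : Additive N →+ Additive N} (h : IsC w η) (v : Additive N) :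
    (((v + η v).toMul : N) : G) = w * ((v.toMul : N) : G) * w⁻¹ := by
  have h1 : (((v + η v).toMul : N) : G) = (((η v + v).toMul : N) : G) := by rw [add_comm]
  rw [h1]
  change (((η v).toMul : N) : G) * ((v.toMul : N) : G) = _
  rw [h v]
  group

theorem isC_zero {w : G} {η : Additive N →+ Additive N} (h : IsC w η) {v : Additive N} :
    η v = 0 ↔ w * ((v.toMul : N) : G) = ((v.toMul : N) : G) * w := by
  have h1 : η v = 0 ↔ (((η v).toMul : N) : G) = 1 := by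
    constructor
    · intro e; rw [e]; rfl
    · intro e; exact Subtype.ext e
  rw [h1, h v, mul_inv_eq_one, mul_inv_eq_iff_eq_mul]

end pt

namespace GB

variable {N : Subgroup G} {Pt : Set (Subgroup G)} {X : Subgroup G → Subgroup G} {q : ℕ}

variable [IsMulCommutative N] (D : GB N Pt X q)
include D

theorem two (v : Additive N) : v + v = 0 := Subtype.ext (D.sq _ (v.toMul : N).2)

/-- `T p` consists of the commutator maps of `X p`. -/
theorem mem_TT {p : Subgroup G} (hp : p ∈ Pt) {η : Additive N →+ Additive N} :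
    η ∈ TT Pt X (pt N p) ↔ ∃ w ∈ X p, IsC w η := by
  let K : AddSubgroup (Additive N →+ Additive N) :=
    { carrier := {η | ∃ w ∈ X p, IsC w η}
      zero_mem' := ⟨1, one_mem _, fun v => by simp⟩
      add_mem' := by
        rintro η η' ⟨w, hw, h1⟩ ⟨w', hw', h2⟩
        refine ⟨w * w', mul_mem hw hw', fun v => ?_⟩
        change (((η v).toMul : N) : G) * (((η' v).toMul : N) : G) = _
        have h3 : w * (((η' v).toMul : N) : G) = (((η' v).toMul : N) : G) * w := by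
          refine D.Xp p hp w hw _ ?_
          rw [h2 v]
          exact D.XN p hp w' hw' _ (v.toMul : N).2
        have h4 : (((η v).toMul : N) : G) * (((η' v).toMul : N) : G) = (((η' v).toMul : N) : G) * (((η v).toMul : N) : G) :=
          congrArg Subtype.val (mul_comm ((η v).toMul : N) ((η' v).toMul : N))
        rw [h4]
        have h5 : w * w' * ((v.toMul : N) : G) * (w * w')⁻¹ * ((v.toMul : N) : G)⁻¹ =
            (w * (w' * ((v.toMul : N) : G) * w'⁻¹ * ((v.toMul : N) : G)⁻¹)) * ((v.toMul : N) : G) * w⁻¹ *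
              ((v.toMul : N) : G)⁻¹ := by group
        rw [h5, ← h2 v, h3, h1 v]
        group
      neg_mem' := by
        rintro η ⟨w, hw, h1⟩
        have e : -η = η := by
          exact DFunLike.ext _ _ fun v => neg_eq_of_add_eq_zero_left (D.two _)
        exact ⟨w, hw, by rw [e]; exact h1⟩ }
  constructor
  · intro h
    have h1 : TT Pt X (pt N p) ≤ K := by
      refine (AddSubgroup.closure_le K).2 ?_
      rintro η ⟨p', hp', he, w, hw, h2⟩
      have := pt_inj (D.le p hp) (D.le p' hp') he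
      subst this
      exact ⟨w, hw, h2⟩
    exact h1 h
  · rintro ⟨w, hw, h1⟩
    exact AddSubgroup.subset_closure ⟨p, hp, rfl, w, hw, h1⟩

theorem exists_of {p : Subgroup G} (hp : p ∈ Pt) {w : G} (hw : w ∈ X p) :
    ∃ η ∈ TT Pt X (pt N p), IsC w η := by
  obtain ⟨η, h⟩ := exists_isC w fun v hv => D.le p hp (D.XN p hp w hw v hv)
  exact ⟨η, (D.mem_TT hp).2 ⟨w, hw, h⟩, h⟩

/-- `η (η v) = 0` -/
theorem etaeta {p : Subgroup G} (hp : p ∈ Pt) {w : G} (hw : w ∈ X p) {η : Additive N →+ Additive N}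
    (h : IsC w η) (v : Additive N) : η (η v) = 0 := by
  rw [isC_zero h]
  refine D.Xp p hp w hw _ ?_
  rw [h v]
  exact D.XN p hp w hw _ (v.toMul : N).2

/-- `w⁻¹ v w = w v w⁻¹` -/
theorem inv_conj {p : Subgroup G} (hp : p ∈ Pt) {w : G} (hw : w ∈ X p) {v : G} (hv : v ∈ N) :
    w⁻¹ * v * w = w * v * w⁻¹ := by
  have h1 := D.XN p hp w hw v hv
  set e := w * v * w⁻¹ * v⁻¹ with he
  have h2 := D.Xp p hp w hw e h1
  have h3 : w * v * w⁻¹ = e * v := by rw [he]; group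
  have h4 := D.sq e (D.le p hp h1)
  have h5 : w * (e * v) * w⁻¹ = v := by
    calc w * (e * v) * w⁻¹ = (w * e) * v * w⁻¹ := by group
      _ = e * (w * v * w⁻¹) := by rw [h2]; group
      _ = (e * e) * v := by rw [h3]; group
      _ = v := by rw [h4, one_mul]
  rw [h3]
  calc w⁻¹ * v * w = w⁻¹ * (w * (e * v) * w⁻¹) * w := by rw [h5]
    _ = e * v := by group

theorem im {p : Subgroup G} (hp : p ∈ Pt) {η : Additive N →+ Additive N} (hη : η ∈ TT Pt X (pt N p))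
    (v : Additive N) : η v ∈ pt N p := by
  obtain ⟨w, hw, h⟩ := (D.mem_TT hp).1 hη
  rw [mem_pt, h v]
  exact D.XN p hp w hw _ (v.toMul : N).2

theorem ker {p : Subgroup G} (hp : p ∈ Pt) {η : Additive N →+ Additive N} (hη : η ∈ TT Pt X (pt N p))
    {v : Additive N} (hv : v ∈ pt N p) : η v = 0 := by
  obtain ⟨w, hw, h⟩ := (D.mem_TT hp).1 hη
  rw [isC_zero h]
  exact D.Xp p hp w hw _ hv

theorem ti' {p x : Subgroup G} (hp : p ∈ Pt) (hx : x ∈ Pt) {v : Additive N} (h1 : v ∈ pt N p) (h2 : v ∈ pt N x)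
    (h0 : v ≠ 0) : pt N p = pt N x := by
  rw [D.ti p hp x hx _ h1 h2 fun e => h0 (Subtype.ext e)]

theorem move {p : Subgroup G} (hp : p ∈ Pt) {η : Additive N →+ Additive N} (hη : η ∈ TT Pt X (pt N p))
    {x : Subgroup G} (hx : x ∈ Pt) : ∃ y ∈ Pt, (∀ u ∈ pt N x, u + η u ∈ pt N y) ∧ (∀ v ∈ pt N y, v + η v ∈ pt N x) ∧
    (∀ τ ∈ TT Pt X (pt N x), ∃ τ' ∈ TT Pt X (pt N y), ∀ v, τ' v = τ (v + η v) + η (τ (v + η v))) ∧
    ∀ τ ∈ TT Pt X (pt N y), ∃ τ' ∈ TT Pt X (pt N x), ∀ v, τ' v = τ (v + η v) + η (τ (v + η v)) := by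
  obtain ⟨w, hw, h⟩ := (D.mem_TT hp).1 hη
  have hy := D.mv p hp w hw x hx
  have hX := D.Xc p hp w hw x hx
  -- `(1 + η) τ (1 + η)` is the commutator map of `w t w⁻¹` and of `w⁻¹ t w`
  have key : ∀ {τ τ' : Additive N →+ Additive N} {t : G}, IsC t τ → IsC (w * t * w⁻¹) τ' → ∀ v,
      τ' v = τ (v + η v) + η (τ (v + η v)) := by
    intro τ τ' t h1 h2 v
    refine Subtype.ext ?_
    change ((τ' v).toMul : G) = (((τ (v + η v) + η (τ (v + η v))).toMul : N) : G)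
    rw [h2 v, isC_conj h, h1, isC_conj h, ← D.inv_conj hp hw (v.toMul : N).2]
    group
  have key' : ∀ {τ τ' : Additive N →+ Additive N} {t : G}, IsC t τ → IsC (w⁻¹ * t * w) τ' → ∀ v,
      τ' v = τ (v + η v) + η (τ (v + η v)) := by
    intro τ τ' t h1 h2 v
    refine Subtype.ext ?_
    change ((τ' v).toMul : G) = (((τ (v + η v) + η (τ (v + η v))).toMul : N) : G)
    have h3 : ((((τ (v + η v))).toMul : N) : G) = t * (w * ((v.toMul : N) : G) * w⁻¹) * t⁻¹ *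
        (w * ((v.toMul : N) : G) * w⁻¹)⁻¹ := by rw [h1, isC_conj h]
    rw [h2 v, isC_conj h, ← D.inv_conj hp hw (((τ (v + η v))).toMul : N).2, h3]
    group
  refine ⟨_, hy, ?_, ?_, ?_, ?_⟩
  · intro u hu
    rw [mem_pt, isC_conj h]
    exact ⟨_, hu, rfl⟩
  · intro v hv
    rw [mem_pt] at hv ⊢
    obtain ⟨x0, hx0, e⟩ := hv
    replace e : w * x0 * w⁻¹ = ((v.toMul : N) : G) := e
    rw [isC_conj h, ← D.inv_conj hp hw (v.toMul : N).2, ← e]
    have e2 : w⁻¹ * (w * x0 * w⁻¹) * w = x0 := by group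
    rw [e2]
    exact hx0
  · intro τ hτ
    obtain ⟨t, ht, h1⟩ := (D.mem_TT hx).1 hτ
    obtain ⟨τ', hτ', h2⟩ := D.exists_of hy (w := w * t * w⁻¹) (by rw [hX]; exact ⟨t, ht, rfl⟩)
    exact ⟨τ', hτ', key h1 h2⟩
  · intro τ hτ
    obtain ⟨t, ht, h1⟩ := (D.mem_TT hy).1 hτ
    rw [hX] at ht
    obtain ⟨t0, ht0, e⟩ := ht
    replace e : w * t0 * w⁻¹ = t := e
    have e2 : t0 = w⁻¹ * t * w := by rw [← e]; group
    obtain ⟨τ', hτ', h2⟩ := D.exists_of hx ht0
    rw [e2] at h2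
    exact ⟨τ', hτ', key' h1 h2⟩

theorem cl {p x : Subgroup G} (hp : p ∈ Pt) (hx : x ∈ Pt) {φ ψ : Additive N →+ Additive N}
    (hφ : φ ∈ TT Pt X (pt N p)) (hψ : ψ ∈ TT Pt X (pt N x)) (h0 : ∀ v ∈ pt N p, ψ v = 0) :
    φ.comp ψ ∈ TT Pt X (pt N p) := by
  obtain ⟨w, hw, h1⟩ := (D.mem_TT hp).1 hφ
  obtain ⟨t, ht, h2⟩ := (D.mem_TT hx).1 hψ
  have htp : MulAut.conj t • p = p := by
    have h3 : ∀ v ∈ p, t * v = v * t := by
      intro v hv
      exact (isC_zero h2 (v := Additive.ofMul (⟨v, D.le p hp hv⟩ : N))).1 (h0 _ hv)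
    ext v
    constructor
    · rintro ⟨u, hu, rfl⟩
      change t * u * t⁻¹ ∈ p
      rw [h3 u hu, mul_inv_cancel_right]
      exact hu
    · intro hv
      refine ⟨v, hv, ?_⟩
      change t * v * t⁻¹ = v
      rw [h3 v hv, mul_inv_cancel_right]
  have h3 : t * w⁻¹ * t⁻¹ ∈ X p := by
    have h4 := D.Xc x hx t ht p hp
    rw [htp] at h4
    rw [h4]
    exact ⟨w⁻¹, inv_mem hw, rfl⟩
  refine (D.mem_TT hp).2 ⟨w * (t * w⁻¹ * t⁻¹), mul_mem hw h3, fun v => ?_⟩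
  -- conjugation by `w t w⁻¹ t⁻¹`
  have e1 : ψ (φ v) = 0 := h0 _ (D.im hp hφ v)
  set v1 := v + ψ v with hv1
  set v2 := v1 + φ v1 with hv2
  set v3 := v2 + ψ v2 with hv3
  set v4 := v3 + φ v3 with hv4
  have f1 : ((v1.toMul : N) : G) = t⁻¹ * ((v.toMul : N) : G) * t := by
    rw [hv1, isC_conj h2, D.inv_conj hx ht (v.toMul : N).2]
  have f2 : ((v2.toMul : N) : G) = w⁻¹ * ((v1.toMul : N) : G) * w := by
    rw [hv2, isC_conj h1, D.inv_conj hp hw (v1.toMul : N).2]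
  have f3 : ((v3.toMul : N) : G) = t * ((v2.toMul : N) : G) * t⁻¹ := by rw [hv3, isC_conj h2]
  have f4 : ((v4.toMul : N) : G) = w * ((v3.toMul : N) : G) * w⁻¹ := by rw [hv4, isC_conj h1]
  have e2 : v4 = v + φ (ψ v) := by
    have a1 : ψ (ψ v) = 0 := D.etaeta hx ht h2 v
    have a2 : φ (φ v) = 0 := D.etaeta hp hw h1 v
    have a3 : φ (φ (ψ v)) = 0 := D.etaeta hp hw h1 (ψ v)
    have a4 : ψ (φ (ψ v)) = 0 := h0 _ (D.im hp hφ _)
    have b2 : v2 = v + ψ v + φ v + φ (ψ v) := by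
      rw [hv2, hv1, map_add]; abel
    have b3 : v3 = v + φ v + φ (ψ v) := by
      rw [hv3, b2]
      simp only [map_add, a1, e1, a4, add_zero]
      calc v + ψ v + φ v + φ (ψ v) + ψ v = v + φ v + φ (ψ v) + (ψ v + ψ v) := by abel
        _ = _ := by rw [D.two, add_zero]
    rw [hv4, b3]
    simp only [map_add, a2, a3, add_zero]
    calc v + φ v + φ (ψ v) + φ v = v + φ (ψ v) + (φ v + φ v) := by abel
      _ = _ := by rw [D.two, add_zero]
  have e3 : (((v + φ (ψ v)).toMul : N) : G) = w * (t * w⁻¹ * t⁻¹) * ((v.toMul : N) : G) * (w * (t * w⁻¹ * t⁻¹))⁻¹ := by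
    rw [← e2, f4, f3, f2, f1]
    group
  have e4 : (((v + φ (ψ v)).toMul : N) : G) = (((φ (ψ v)).toMul : N) : G) * ((v.toMul : N) : G) := by
    rw [add_comm]; rfl
  change (((φ (ψ v)).toMul : N) : G) = _
  rw [← e3, e4]
  group

/-- `|T p| = |X p : C_{X p}(N)|` -/
theorem card_TT {p : Subgroup G} (hp : p ∈ Pt) :
    Nat.card (TT Pt X (pt N p)) = (centralizer (N : Set G)).relIndex (X p) := by
  set K := (centralizer (N : Set G)).subgroupOf (X p) with hK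
  have hex : ∀ w : X p, ∃ η : TT Pt X (pt N p), IsC (w : G) η.1 := fun w => by
    obtain ⟨η, hη, h⟩ := D.exists_of hp w.2
    exact ⟨⟨η, hη⟩, h⟩
  choose f hf using hex
  have hfe : ∀ w w' : X p, w⁻¹ * w' ∈ K ↔ f w = f w' := by
    intro w w'
    constructor
    · intro h
      have h1 : (w : G)⁻¹ * (w' : G) ∈ centralizer (N : Set G) := h
      refine Subtype.ext (isC_uniq (hf w) ?_)
      intro v
      rw [hf w' v]
      have h2 := mem_centralizer_iff.1 h1 _ (v.toMul : N).2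
      have h3 : (w' : G) * ((v.toMul : N) : G) * (w' : G)⁻¹ = (w : G) * ((v.toMul : N) : G) * (w : G)⁻¹ := by
        calc (w' : G) * ((v.toMul : N) : G) * (w' : G)⁻¹ =
            (w : G) * (((w : G)⁻¹ * (w' : G)) * ((v.toMul : N) : G)) * (w' : G)⁻¹ := by group
          _ = (w : G) * (((v.toMul : N) : G) * ((w : G)⁻¹ * (w' : G))) * (w' : G)⁻¹ := by rw [h2]
          _ = _ := by group
      rw [h3]
    · intro h
      change (w : G)⁻¹ * (w' : G) ∈ centralizer (N : Set G)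
      refine mem_centralizer_iff.2 fun v hv => ?_
      have h1 := hf w (Additive.ofMul (⟨v, hv⟩ : N))
      have h2 := hf w' (Additive.ofMul (⟨v, hv⟩ : N))
      rw [← h, h1] at h2
      have h3 : (w : G) * v * (w : G)⁻¹ = (w' : G) * v * (w' : G)⁻¹ := mul_right_cancel h2
      calc v * ((w : G)⁻¹ * (w' : G)) = (w : G)⁻¹ * ((w : G) * v * (w : G)⁻¹) * (w' : G) := by group
        _ = (w : G)⁻¹ * ((w' : G) * v * (w' : G)⁻¹) * (w' : G) := by rw [h3]
        _ = _ := by group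
  let g : X p ⧸ K → TT Pt X (pt N p) := fun c => f c.out
  have hg : Function.Bijective g := by
    constructor
    · intro c c' h
      rw [← QuotientGroup.out_eq' c, ← QuotientGroup.out_eq' c']
      exact QuotientGroup.eq.2 ((hfe _ _).2 h)
    · intro η
      obtain ⟨w, hw, h⟩ := (D.mem_TT hp).1 η.2
      refine ⟨QuotientGroup.mk ⟨w, hw⟩, ?_⟩
      have h1 : f (⟨w, hw⟩ : X p) = η := Subtype.ext (isC_uniq (hf ⟨w, hw⟩) h)
      rw [← h1]
      refine ((hfe _ _).1 ?_).symm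
      exact QuotientGroup.eq.1 (QuotientGroup.out_eq' _).symm
  rw [← Nat.card_eq_of_bijective g hg]
  rfl

theorem card' {p : Subgroup G} (hp : p ∈ Pt) : Nat.card (pt N p) = q := by
  rw [← D.card p hp]
  exact Nat.card_congr
    { toFun := fun v => ⟨((v.1.toMul : N) : G), v.2⟩
      invFun := fun v => ⟨Additive.ofMul (⟨v, D.le p hp v.2⟩ : N), v.2⟩
      left_inv := fun v => rfl
      right_inv := fun v => rfl }

theorem span' : (⨆ p ∈ (pt N '' Pt), p) = (⊤ : AddSubgroup (Additive N)) := by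
  rw [eq_top_iff]
  set A : AddSubgroup (Additive N) := ⨆ p ∈ (pt N '' Pt), p with hA
  have h1 : N ≤ (AddSubgroup.toSubgroup' A).map N.subtype := by
    refine D.span.trans (sSup_le fun p hp v hv => ?_)
    refine ⟨⟨v, D.le p hp hv⟩, ?_, rfl⟩
    have h2 : pt N p ≤ A := by
      rw [hA]
      exact le_iSup₂_of_le (pt N p) ⟨p, hp, rfl⟩ le_rfl
    exact h2 (x := Additive.ofMul (⟨v, D.le p hp hv⟩ : N)) hv
  intro v _
  obtain ⟨u, hu, e⟩ := h1 (v.toMul : N).2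
  have e' : u = (v.toMul : N) := Subtype.ext e
  rw [e'] at hu
  exact hu

/-- the graph of the points -/
def _root_.Cfsg.Agent.Omega.OmThm.Grp.Mv (X : Subgroup G → Subgroup G) (p x : Subgroup G) : Prop :=
  ¬ X p ≤ centralizer (x : Set G)

theorem adj_of {p x : Subgroup G} (hp : p ∈ Pt) (hx : x ∈ Pt) (h : Mv X p x) :
    OmThm.TT.Adj (TT Pt X) (pt N p) (pt N x) := by
  obtain ⟨w, hw, hwx⟩ := SetLike.not_le_iff_exists.1 h
  obtain ⟨η, hη, h1⟩ := D.exists_of hp hw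
  obtain ⟨v, hv, hne⟩ : ∃ v ∈ x, w * v ≠ v * w := by
    by_contra hcon
    push Not at hcon
    exact hwx (mem_centralizer_iff.2 fun v hv => (hcon v hv).symm)
  exact ⟨η, hη, Additive.ofMul (⟨v, D.le x hx hv⟩ : N), hv, fun e => hne ((isC_zero h1).1 e)⟩

end GB

namespace GD

variable {N : Subgroup G} {Pt : Set (Subgroup G)} {X : Subgroup G → Subgroup G} {q : ℕ}

variable [IsMulCommutative N] (D : GD N Pt X q)
include D

theorem reg' {x : Subgroup G} (hx : x ∈ Pt) {ψ : Additive N →+ Additive N} (hψ : ψ ∈ TT Pt X (pt N x))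
    {b : Additive N} (hb : ψ b ≠ 0) {a : Additive N} (ha : a ∈ pt N x) :
    ∃ ψ' ∈ TT Pt X (pt N x), ψ' b = a ∧ ∀ v, ψ v = 0 → ψ' v = 0 := by
  obtain ⟨w, hw, h⟩ := (D.mem_TT hx).1 hψ
  have h1 : w * ((b.toMul : N) : G) ≠ ((b.toMul : N) : G) * w := fun e => hb ((isC_zero h).2 e)
  obtain ⟨w', hw', h2, h3⟩ := D.reg x hx w hw _ (b.toMul : N).2 h1 _ ha
  obtain ⟨ψ', hψ', h4⟩ := D.exists_of hx hw'
  refine ⟨ψ', hψ', Subtype.ext ?_, fun v hv => ?_⟩
  · exact (h4 b).trans h2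
  · rw [isC_zero h4]
    exact h3 _ (v.toMul : N).2 ((isC_zero h).1 hv)

theorem mem_point_aux [Finite G]
    (conn : ∀ p ∈ Pt, ∀ x ∈ Pt, Relation.ReflTransGen (fun a b => a ∈ Pt ∧ b ∈ Pt ∧ (Mv X a b ∨ Mv X b a)) p x)
    (nk : ∀ p ∈ Pt, ∀ x ∈ Pt, ∀ a ∈ p, ∀ b ∈ x, a * b ≠ 1 → ∃ w ∈ Pt, ∃ g ∈ X w, g * (a * b) ≠ (a * b) * g)
    (hne : ∃ p ∈ Pt, ¬ X p ≤ centralizer (N : Set G)) {v : G} (hv : v ∈ N) (hv1 : v ≠ 1) : ∃ p ∈ Pt, v ∈ p := by
  have hfin0 : Finite (Additive N) := inferInstanceAs (Finite N)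
  have hfin : Finite (Additive N →+ Additive N) :=
    Finite.of_injective (fun f : Additive N →+ Additive N => (f : Additive N → Additive N)) DFunLike.coe_injective
  have hv0 : Additive.ofMul (⟨v, hv⟩ : N) ≠ 0 := fun e => hv1 (congrArg (fun t : Additive N => ((t.toMul : N) : G)) e)
  have conn' : (∀ p ∈ pt N '' Pt, ∀ x ∈ pt N '' Pt, OmThm.TT.Adj (TT Pt X) p x → OmThm.TT.Adj (TT Pt X) x p) →
      ∀ p ∈ pt N '' Pt, ∀ x ∈ pt N '' Pt, Relation.ReflTransGen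
      (fun a b => a ∈ pt N '' Pt ∧ b ∈ pt N '' Pt ∧ OmThm.TT.Adj (TT Pt X) a b) p x := by
    rintro hsym _ ⟨p, hp, rfl⟩ _ ⟨x, hx, rfl⟩
    refine Relation.ReflTransGen.lift (pt N) (fun a b h => ?_) _ _ (conn p hp x hx)
    refine ⟨⟨a, h.1, rfl⟩, ⟨b, h.2.1, rfl⟩, ?_⟩
    rcases h.2.2 with h1 | h1
    · exact D.adj_of h.1 h.2.1 h1
    · exact hsym _ ⟨b, h.2.1, rfl⟩ _ ⟨a, h.1, rfl⟩ (D.adj_of h.2.1 h.1 h1)
  -- `a + b` is not killed
  have nk' : ∀ p ∈ Pt, ∀ x ∈ Pt, ∀ a ∈ pt N p, ∀ b ∈ pt N x, a + b ≠ 0 →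
      ∃ w ∈ Pt, ∃ η ∈ TT Pt X (pt N w), η (a + b) ≠ 0 := by
    intro p hp x hx a ha b hb hab
    obtain ⟨w, hw, g, hg, h⟩ := nk p hp x hx _ ha _ hb fun e => hab (Subtype.ext e)
    obtain ⟨η, hη, h1⟩ := D.exists_of hw hg
    exact ⟨w, hw, η, hη, fun e => h ((isC_zero h1).1 e)⟩
  -- `|T p| ≥ q`
  obtain ⟨p₀, hp₀, hne₀⟩ := hne
  have hge : q ≤ (centralizer (N : Set G)).relIndex (X p₀) := by
    obtain ⟨w, hw, hwN⟩ := SetLike.not_le_iff_exists.1 hne₀
    obtain ⟨η, hη, h1⟩ := D.exists_of hp₀ hw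
    obtain ⟨b, hb⟩ : ∃ b, η b ≠ 0 := by
      by_contra hcon
      push Not at hcon
      refine hwN (mem_centralizer_iff.2 fun v hv => ?_)
      exact ((isC_zero h1 (v := Additive.ofMul (⟨v, hv⟩ : N))).1 (hcon _)).symm
    rw [← D.card_TT hp₀, ← D.card' hp₀]
    refine Nat.card_le_card_of_surjective (fun τ : TT Pt X (pt N p₀) => (⟨τ.1 b, D.im hp₀ τ.2 b⟩ : pt N p₀)) ?_
    intro a
    obtain ⟨ψ', hψ', h2, -⟩ := D.reg' hp₀ hη hb a.2
    exact ⟨⟨ψ', hψ'⟩, Subtype.ext h2⟩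
  have hcard : ∀ p ∈ Pt, Nat.card (TT Pt X (pt N p)) = (centralizer (N : Set G)).relIndex (X p₀) :=
    fun p hp => (D.card_TT hp).trans (D.cardT p hp p₀ hp₀)
  have hfinal : ∃ x ∈ pt N '' Pt, Additive.ofMul (⟨v, hv⟩ : N) ∈ x := by
    rcases hge.eq_or_lt with heq | hlt
    · -- `|T p| = q`
      have E : SP.Dat (pt N '' Pt) (TT Pt X) q :=
        { two := D.two
          hq := D.hq
          card := by rintro _ ⟨p, hp, rfl⟩; exact D.card' hp
          ti := by rintro _ ⟨p, hp, rfl⟩ _ ⟨x, hx, rfl⟩ v h1 h2 h0; exact D.ti' hp hx h1 h2 h0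
          im := by rintro _ ⟨p, hp, rfl⟩ η hη v; exact D.im hp hη v
          ker := by rintro _ ⟨p, hp, rfl⟩ η hη v hv; exact D.ker hp hη hv
          move := by
            rintro _ ⟨p, hp, rfl⟩ η hη _ ⟨x, hx, rfl⟩
            obtain ⟨y, hy, h⟩ := D.move hp hη hx
            exact ⟨_, ⟨y, hy, rfl⟩, h⟩
          cl := by rintro _ ⟨p, hp, rfl⟩ _ ⟨x, hx, rfl⟩ φ hφ ψ hψ h0; exact D.cl hp hx hφ hψ h0
          reg := by rintro _ ⟨x, hx, rfl⟩ ψ hψ b hb a ha; exact D.reg' hx hψ hb ha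
          cardT := by rintro _ ⟨p, hp, rfl⟩; exact (hcard p hp).trans heq.symm }
      refine E.mem_point (conn' fun p hp x hx h => E.symm hp hx h) ?_ (by rw [D.span']; exact AddSubgroup.mem_top _) hv0
      rintro _ ⟨p, hp, rfl⟩ _ ⟨x, hx, rfl⟩ hpx a ha ha0 b hb hb0
      obtain ⟨w, hw, η, hη, h⟩ := nk' p hp x hx a ha b hb fun h0 => hpx (D.ti' hp hx ha
        (by rw [E.eq_of_add h0]; exact hb) ha0)
      exact ⟨_, ⟨w, hw, rfl⟩, fun h1 => h (h1 η hη)⟩
    · -- `|T p| > q`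
      have E : OmThm.TT.Dat (pt N '' Pt) (TT Pt X) q :=
        { two := D.two
          card := by rintro _ ⟨p, hp, rfl⟩; exact D.card' hp
          ne := by
            rintro _ ⟨p, hp, rfl⟩
            by_contra hcon
            push Not at hcon
            have h1 : pt N p = ⊥ := (AddSubgroup.eq_bot_iff_forall _).2 hcon
            have h2 := D.card' hp
            rw [h1, AddSubgroup.card_bot] at h2
            have := D.hq
            omega
          ti := by rintro _ ⟨p, hp, rfl⟩ _ ⟨x, hx, rfl⟩ v h1 h2 h0; exact D.ti' hp hx h1 h2 h0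
          im := by rintro _ ⟨p, hp, rfl⟩ η hη v; exact D.im hp hη v
          ker := by rintro _ ⟨p, hp, rfl⟩ η hη v hv; exact D.ker hp hη hv
          move := by
            rintro _ ⟨p, hp, rfl⟩ η hη _ ⟨x, hx, rfl⟩
            obtain ⟨y, hy, h⟩ := D.move hp hη hx
            exact ⟨_, ⟨y, hy, rfl⟩, h⟩
          cl := by rintro _ ⟨p, hp, rfl⟩ _ ⟨x, hx, rfl⟩ φ hφ ψ hψ h0; exact D.cl hp hx hφ hψ h0
          reg := by rintro _ ⟨x, hx, rfl⟩ ψ hψ b hb a ha; exact D.reg' hx hψ hb ha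
          cardT := by rintro _ ⟨p, hp, rfl⟩ _ ⟨x, hx, rfl⟩; rw [hcard p hp, hcard x hx]
          big := by rintro _ ⟨p, hp, rfl⟩; rw [hcard p hp]; exact hlt
          span := D.span'
          rad := by
            rintro _ ⟨p, hp, rfl⟩ _ ⟨x, hx, rfl⟩ η hη η' hη' h v
            by_contra h0
            obtain ⟨w, hw, τ, hτ, h1⟩ := nk' p hp x hx _ (D.im hp hη v) _ (D.im hx hη' v) h0
            exact h1 (h v _ ⟨w, hw, rfl⟩ τ hτ) }
      have hcls : ∀ x ∈ pt N '' Pt, OmThm.TT.Cls (TT Pt X) (pt N p₀) x := by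
        intro x hx
        have h := conn' (fun p hp x hx h => E.symm hp hx h) (pt N p₀) ⟨p₀, hp₀, rfl⟩ x hx
        clear hx
        induction h with
        | refl => exact Or.inl rfl
        | tail _ h2 ih => exact E.cls_trans ⟨p₀, hp₀, rfl⟩ h2.1 h2.2.1 ih (Or.inr h2.2.2)
      have h1 : (⊤ : AddSubgroup (Additive N)) ≤ E.U (p := pt N p₀) ⟨p₀, hp₀, rfl⟩ := by
        rw [← E.span]
        exact iSup₂_le fun x hx => E.le_U _ hx (hcls x hx)
      obtain ⟨x, hx, h2, -⟩ := h1 (AddSubgroup.mem_top (Additive.ofMul (⟨v, hv⟩ : N)))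
      exact ⟨x, hx, h2⟩
  obtain ⟨_, ⟨x, hx, rfl⟩, h⟩ := hfinal
  exact ⟨x, hx, h⟩

omit [IsMulCommutative N] in
/-- **TT + SP: every element `≠ 1` of `N` lies in a point.** -/
theorem mem_point [Finite G]
    (conn : ∀ p ∈ Pt, ∀ x ∈ Pt, Relation.ReflTransGen (fun a b => a ∈ Pt ∧ b ∈ Pt ∧ (Mv X a b ∨ Mv X b a)) p x)
    (nk : ∀ p ∈ Pt, ∀ x ∈ Pt, ∀ a ∈ p, ∀ b ∈ x, a * b ≠ 1 → ∃ w ∈ Pt, ∃ g ∈ X w, g * (a * b) ≠ (a * b) * g)
    (hne : ∃ p ∈ Pt, ¬ X p ≤ centralizer (N : Set G)) {v : G} (hv : v ∈ N) (hv1 : v ≠ 1) : ∃ p ∈ Pt, v ∈ p := by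
  have : IsMulCommutative N := ⟨⟨fun a b => Subtype.ext (D.comm a a.2 b b.2)⟩⟩
  exact D.mem_point_aux conn nk hne hv hv1

end GD

end Cfsg.Agent.Omega.OmThm.Grp
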