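import Cfsg.Agent.ZN.ChoiceBase
import Cfsg.Agent.PLocal.ElemAbSup
import Cfsg.Agent.Lib.ProductSet

/-!
# THEOREM OM (NO-3S): one side of the critical pair

`W`, `W'` are elementary abelian, `W ≤ X'`, `Q' = O₂(X')`, `W' = ⟨U ν⟩` is normal in `X'`, the block `U ν` is
generated by the factors `F ν i`.  (Text: helper12, bb OMEGA 15139, blueprint OMEGA-NO3S-Om-helper12.)

* `Side`: the structure;
* `dw E = |E : C_E(W')|`, `comm_mem_of_index_two`, and the counting lemmas.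
-/

set_option autoImplicit false

namespace Cfsg.Agent.Omega.OmThm.SideBase

open Subgroup Cfsg Cfsg.Agent.ZN Cfsg.Agent.ZN.ChoiceBase
open Cfsg.Agent.PLocal.ElemAbSup
open scoped Pointwise

universe u v w

variable {G : Type u} [Group G]

/-! ### Generalities -/

theorem mem_sup_comm {A B : Subgroup G} (h : ∀ a ∈ A, ∀ b ∈ B, a * b = b * a) {x : G}
    (hx : x ∈ A ⊔ B) : ∃ a ∈ A, ∃ b ∈ B, x = a * b := by
  have hle : B ≤ centralizer (A : Set G) := fun b hb =>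
    mem_centralizer_iff.2 fun a ha => h a ha b hb
  have h1 : x ∈ (A : Set G) * (B : Set G) := by
    rw [← coe_sup_of_le_centralizer hle]; exact hx
  obtain ⟨a, ha, b, hb, rfl⟩ := Set.mem_mul.1 h1
  exact ⟨a, ha, b, hb, rfl⟩

theorem card_sup_comm {A B : Subgroup G} (h : ∀ a ∈ A, ∀ b ∈ B, a * b = b * a) :
    Nat.card ↥(A ⊔ B) * Nat.card ↥(A ⊓ B) = Nat.card A * Nat.card B :=
  card_sup_mul_card_inf fun b hb => mem_centralizer_iff.2 fun a ha => h a ha b hb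

/-- An automorphism acts trivially on a quotient of order two. -/
theorem comm_mem_of_index_two {K L : Subgroup G} (h2 : K.relIndex L = 2) {q : G}
    (hK : ∀ k, k ∈ K ↔ q * k * q⁻¹ ∈ K) (hL : ∀ l ∈ L, q * l * q⁻¹ ∈ L) :
    ∀ l ∈ L, q * l * q⁻¹ * l⁻¹ ∈ K := by
  intro l hl
  have h1 := hL l hl
  have h3 := Subgroup.mul_mem_iff_of_index_two (H := K.subgroupOf L) h2 (a := ⟨q * l * q⁻¹, h1⟩)
    (b := ⟨l⁻¹, inv_mem hl⟩)
  have h4 : q * l * q⁻¹ * l⁻¹ ∈ K ↔ (q * l * q⁻¹ ∈ K ↔ l⁻¹ ∈ K) := by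
    simpa [Subgroup.mem_subgroupOf] using h3
  rw [h4, inv_mem_iff]
  exact (hK l).symm

/-- an element of order two -/
theorem mem_zp {z x : G} (hz : z * z = 1) : x ∈ zpowers z ↔ x = 1 ∨ x = z := by
  constructor
  · intro h
    obtain ⟨n, rfl⟩ := mem_zpowers_iff.1 h
    rcases Int.even_or_odd' n with ⟨m, rfl | rfl⟩
    · left; rw [zpow_mul, zpow_two, hz, one_zpow]
    · right; rw [zpow_add, zpow_mul, zpow_two, hz, one_zpow, one_mul, zpow_one]
  · rintro (rfl | rfl)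
    · exact one_mem _
    · exact mem_zpowers _

theorem two_le_relIndex [Finite G] {K L : Subgroup G} {x : G} (hx : x ∈ L) (hxK : x ∉ K) :
    2 ≤ K.relIndex L := by
  have h0 : K.relIndex L ≠ 0 := by
    rw [Subgroup.relIndex]
    exact Subgroup.index_ne_zero_of_finite
  have h1 : K.relIndex L ≠ 1 := by
    intro h
    rw [Subgroup.relIndex_eq_one] at h
    exact hxK (h hx)
  omega

/-! ### The structure -/

/-- One side of the critical pair. -/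
structure Side (W W' X' Q' : Subgroup G) {N : Type v} {I : Type w} (U : N → Subgroup G)
    (F : N → I → Subgroup G) : Prop where
  QX : Q' ≤ X'
  WX : W ≤ X'
  Wc : ∀ w ∈ W, ∀ w' ∈ W, w * w' = w' * w
  Wsq : ∀ w ∈ W, w * w = 1
  Vc : ∀ v ∈ W', ∀ v' ∈ W', v * v' = v' * v
  Vsq : ∀ v ∈ W', v * v = 1
  cm : ∀ w ∈ W, ∀ v ∈ W', w * v * w⁻¹ * v⁻¹ ∈ W
  Vn : ∀ x ∈ X', ∀ v ∈ W', x * v * x⁻¹ ∈ W'
  UW : ∀ ν, U ν ≤ W'
  Wle : W' ≤ ⨆ ν, U ν
  FU : ∀ ν i, F ν i ≤ U ν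
  Ule : ∀ ν, U ν ≤ ⨆ i, F ν i
  Qn : ∀ q ∈ Q', ∀ ν, ∀ v ∈ U ν, q * v * q⁻¹ ∈ U ν
  Qp : ∀ q ∈ Q', ∀ ν i, ∃ j, ∀ u ∈ F ν i, q * u * q⁻¹ ∈ F ν j
  TI : ∀ ν i μ j u, u ∈ F ν i → u ∈ F μ j → u ≠ 1 → F ν i = F μ j
  inj : ∀ ν i j, F ν i = F ν j → i = j
  O1 : ∀ ν i u, u ∈ F ν i → u ≠ 1 → ∀ g, g * u = u * g → ∀ v ∈ F ν i, g * v * g⁻¹ ∈ F ν i
  cent : ∀ ν i, ∀ w ∈ W, (∀ u ∈ F ν i, w * u * w⁻¹ ∈ F ν i) → ∀ u ∈ F ν i, w * u = u * w
  mv : ∀ ν, (∀ w ∈ W, ∀ u ∈ U ν, w * u * w⁻¹ ∈ U ν) → ∀ w ∈ W, ∀ u ∈ U ν, w * u = u * w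

namespace Side

variable {W W' X' Q' : Subgroup G} {N : Type v} {I : Type w} {U : N → Subgroup G}
  {F : N → I → Subgroup G}

theorem Q_conj (h : Side W W' X' Q' U F) [Finite G] {q : G} (hq : q ∈ Q') (ν : N) (v : G) :
    v ∈ U ν ↔ q * v * q⁻¹ ∈ U ν := by
  constructor
  · exact h.Qn q hq ν v
  · intro hv
    have := h.Qn q⁻¹ (inv_mem hq) ν _ hv
    have e : q⁻¹ * (q * v * q⁻¹) * q⁻¹⁻¹ = v := by group
    rwa [e] at this

/-- commutators with `W'` are centralised by `W` -/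
theorem cm_cent (h : Side W W' X' Q' U F) {w v w' : G} (hw : w ∈ W) (hv : v ∈ W') (hw' : w' ∈ W) :
    w' * (w * v * w⁻¹ * v⁻¹) = (w * v * w⁻¹ * v⁻¹) * w' :=
  h.Wc w' hw' _ (h.cm w hw v hv)

/-- a subgroup which does not centralise `W'` moves a block -/
theorem exists_block (h : Side W W' X' Q' U F) {E : Subgroup G}
    (hE : ¬ E ≤ centralizer (W' : Set G)) : ∃ ν, ∃ c ∈ E, ∃ u ∈ U ν, c * u ≠ u * c := by
  by_contra hcon
  push Not at hcon
  apply hE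
  intro c hc
  have h1 : W' ≤ centralizer ({c} : Set G) := by
    refine h.Wle.trans (iSup_le fun ν => fun u hu => ?_)
    rw [mem_centralizer_iff]
    rintro y rfl
    exact hcon ν y hc u hu
  rw [mem_centralizer_iff]
  intro v hv
  exact (mem_centralizer_iff.1 (h1 hv) c rfl).symm

/-- an element moving a block moves a factor -/
theorem exists_factor (h : Side W W' X' Q' U F) {ν : N} {c u : G}
    (hu : u ∈ U ν) (hcu : c * u ≠ u * c) : ∃ i, ∃ y ∈ F ν i, c * y ≠ y * c := by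
  by_contra hcon
  push Not at hcon
  apply hcu
  have h1 : U ν ≤ centralizer ({c} : Set G) := by
    refine (h.Ule ν).trans (iSup_le fun i => fun y hy => ?_)
    rw [mem_centralizer_iff]
    rintro x rfl
    exact hcon i y hy
  exact mem_centralizer_iff.1 (h1 hu) c rfl

/-- `|E : C_E(W')|` -/
theorem relIndex_step {E E1 : Subgroup G} (hE : E1 ≤ E)
    (hc : E ⊓ centralizer (W' : Set G) ≤ E1) :
    (centralizer (W' : Set G)).relIndex E =
      (centralizer (W' : Set G)).relIndex E1 * E1.relIndex E := by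
  have h1 : (centralizer (W' : Set G) ⊓ E1).relIndex E = (centralizer (W' : Set G)).relIndex E := by
    have h2 : centralizer (W' : Set G) ⊓ E1 = centralizer (W' : Set G) ⊓ E :=
      le_antisymm (inf_le_inf_left _ hE) fun x hx => ⟨hx.1, hc ⟨hx.2, hx.1⟩⟩
    rw [h2, inf_relIndex_right]
  rw [← h1, ← relIndex_mul_relIndex _ _ _ inf_le_right hE, inf_relIndex_right]

end Side

end Cfsg.Agent.Omega.OmThm.SideBase
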