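import Cfsg.Agent.Omega.OmThm.GrpSP
import Cfsg.Agent.Omega.NO3S.EThree.PtGeo
import Cfsg.Agent.Omega.NO3S.EThree.TBig

/-!
# Points and lines in an elementary abelian 2-group: `PtGeo` / `TBig` for subgroups

`GG N Pt X q` : `N` elementary abelian, `Pt` points of order `q ≥ 2`, `X p` as in `GrpSP`, onto the points (`sur`), every
point on a line of pairwise perpendicular points, no `O_2` (`o2`), every `X p` moves `N`.

* `GG.card_TT_eq` : `|X p : C_{X p}(N)| = q`;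
* `GG.geoL` : `PtGeo.GeoL`;
* `GG.eq_one` : **no element `≠ 1` of `N` centralises all `X p`.**
-/

set_option autoImplicit false
set_option linter.unusedSectionVars false

namespace Cfsg.Agent.Omega.NO3S.EThree.PtGeo.GeoL

variable {M : Type*} [AddCommGroup M] {PP : Set (AddSubgroup M)} {T : AddSubgroup M → Set (M ≃+ M)} (g : GeoL PP T)
include g

theorem MC_eq {x y : AddSubgroup M} (hx : x ∈ PP) (hy : y ∈ PP) (h : Cn PP T x y) : MC PP T x = MC PP T y := by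
  have key : ∀ {x y : AddSubgroup M}, x ∈ PP → y ∈ PP → Cn PP T x y → MC PP T x ≤ MC PP T y := by
    intro x y hx hy h
    exact sSup_le fun r hr => le_MC hr.1 (g.cn_trans hy hx hr.1 h.symm hr.2)
  exact le_antisymm (key hx hy h) (key hy hx h.symm)

/-- **No vector `≠ 0` is killed by all `T r`.** -/
theorem eq_zero_of_killed [Finite M] {m : M} (hm : ∀ r ∈ PP, m ∈ pr T r) : m = 0 := by
  classical
  have main : ∀ n : ℕ, ∀ s : Finset (AddSubgroup M), s.card ≤ n → (∀ x ∈ s, x ∈ PP) → m ∈ ⨆ x ∈ s, MC PP T x → m = 0 := by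
    intro n
    induction n with
    | zero =>
      intro s hs _ hms
      have h0 : s = ∅ := Finset.card_eq_zero.1 (Nat.le_zero.1 hs)
      subst h0
      simpa using hms
    | succ n ih =>
      intro s hs hsP hms
      rcases s.eq_empty_or_nonempty with h0 | ⟨x, hx⟩
      · subst h0
        simpa using hms
      have hxP := hsP x hx
      set s' := s.filter fun y => ¬ Cn PP T x y with hs'
      have h1 : (⨆ y ∈ s, MC PP T y) ≤ MC PP T x ⊔ ⨆ y ∈ s', MC PP T y := by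
        refine iSup₂_le fun y hy => ?_
        by_cases h : Cn PP T x y
        · rw [← g.MC_eq hxP (hsP y hy) h]
          exact le_sup_left
        · have hy' : y ∈ s' := by
            rw [hs']
            exact Finset.mem_filter.2 ⟨hy, h⟩
          exact (le_iSup₂_of_le (f := fun y (_ : y ∈ s') => MC PP T y) y hy' le_rfl).trans le_sup_right
      obtain ⟨c, hc, d, hd, e⟩ := AddSubgroup.mem_sup.1 (h1 hms)
      -- `d` is killed by the `T z`, `z ∈ C`
      have h2 : ∀ z ∈ PP, Cn PP T x z → d ∈ pr T z := by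
        intro z hz hC
        have h3 : (⨆ y ∈ s', MC PP T y) ≤ pr T z := by
          refine iSup₂_le fun y hy => sSup_le fun r hr => ?_
          refine g.out hxP hz hr.1 hC fun hxr => ?_
          exact (Finset.mem_filter.1 hy).2 (g.cn_trans hxP hr.1 (hsP y (Finset.mem_filter.1 hy).1) hxr hr.2.symm)
        exact h3 hd
      have h4 : c = 0 := by
        by_contra hc0
        obtain ⟨r, hr, hC, hcr⟩ := g.vec hxP c hc hc0
        obtain ⟨a, ha, har⟩ := g.nbr r hr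
        have hCa : Cn PP T x a := g.cn_step hxP hr ha hC har
        have h5 : c ∈ pr T a := by
          exact (AddSubgroup.add_mem_cancel_right _ (h2 a ha hCa)).1 (by rw [e]; exact hm a ha)
        exact g.not_mem ha hr (g.nsym hr ha har) hcr hc0 h5
      subst h4
      rw [zero_add] at e
      subst e
      refine ih s' ?_ (fun y hy => hsP y (Finset.mem_filter.1 hy).1) hd
      have h6 : s'.card < s.card := Finset.card_lt_card (Finset.filter_ssubset.2 ⟨x, hx, fun h => h (g.cn_refl hxP)⟩)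
      omega
  have : Finite (AddSubgroup M) := Finite.of_injective (fun p : AddSubgroup M => (p : Set M)) SetLike.coe_injective
  have hfin : PP.Finite := Set.toFinite _
  refine main _ hfin.toFinset le_rfl (fun x hx => hfin.mem_toFinset.1 hx) ?_
  have h1 : sSup PP ≤ ⨆ x ∈ hfin.toFinset, MC PP T x := by
    refine sSup_le fun r hr => ?_
    exact (le_MC hr (g.cn_refl hr)).trans (le_iSup₂_of_le r (hfin.mem_toFinset.2 hr) le_rfl)
  exact h1 (g.top m)

end Cfsg.Agent.Omega.NO3S.EThree.PtGeo.GeoL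

namespace Cfsg.Agent.Omega.OmThm.Grp

open Subgroup
open Cfsg.Agent.Omega.NO3S.EThree (PtGeo.Geo PtGeo.GeoL PtGeo.pr PtGeo.mp PtGeo.Col)
open Cfsg.Agent.Omega.NO3S.EThree
open scoped Pointwise IsMulCommutative

universe u

variable {G : Type u} [Group G]

/-- a line of pairwise perpendicular points -/
structure LnG (N : Subgroup G) (Pt : Set (Subgroup G)) (X : Subgroup G → Subgroup G) (V : Subgroup G) : Prop where
  le : V ≤ N
  cov : ∀ v ∈ V, v ≠ 1 → ∃ p ∈ Pt, p ≤ V ∧ v ∈ p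
  perp : ∀ p ∈ Pt, p ≤ V → ∀ x ∈ Pt, x ≤ V → X p ≤ centralizer (x : Set G)
  gen : ∀ p ∈ Pt, p ≤ V → ∀ x ∈ Pt, x ≤ V → p ≠ x → V ≤ p ⊔ x
  two : ∀ p ∈ Pt, p ≤ V → ∃ x ∈ Pt, x ≤ V ∧ x ≠ p

/-- The group-theoretic data of `PtGeo`. -/
structure GG (N : Subgroup G) (Pt : Set (Subgroup G)) (X : Subgroup G → Subgroup G) (q : ℕ) : Prop
    extends GB N Pt X q where
  q2 : 2 ≤ q
  sur : ∀ p ∈ Pt, ∀ w ∈ X p, ∀ b ∈ N, w * b ≠ b * w → ∀ z ∈ p, ∃ w' ∈ X p, w' * b * w'⁻¹ * b⁻¹ = z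
  o2 : ∀ x ∈ Pt, ∀ z ∈ Pt, ∀ w ∈ X x, ∀ w' ∈ X z,
    (∀ n ∈ N, ∀ r ∈ Pt, ∀ y ∈ X r, y * (w' * w * n * (w' * w)⁻¹ * n⁻¹) = w' * w * n * (w' * w)⁻¹ * n⁻¹ * y) →
    ∀ n ∈ N, w' * w * n = n * (w' * w)
  line : ∀ x ∈ Pt, ∃ V : Subgroup G, x ≤ V ∧ LnG N Pt X V
  mov : ∀ p ∈ Pt, ¬ X p ≤ centralizer (N : Set G)

section ta

variable (N : Subgroup G) [IsMulCommutative N]

/-- the automorphisms of `N` induced by `X p` -/
def TA (Pt : Set (Subgroup G)) (X : Subgroup G → Subgroup G) (A : AddSubgroup (Additive N)) :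
    Set (Additive N ≃+ Additive N) :=
  {t | ∃ p ∈ Pt, A = pt N p ∧ ∃ w ∈ X p, ∀ v : Additive N, (((t v).toMul : N) : G) = w * ((v.toMul : N) : G) * w⁻¹}

end ta

namespace GG

variable {N : Subgroup G} {Pt : Set (Subgroup G)} {X : Subgroup G → Subgroup G} {q : ℕ}

variable [IsMulCommutative N] (D : GG N Pt X q)
include D

theorem mem_TA {p : Subgroup G} (hp : p ∈ Pt) {t : Additive N ≃+ Additive N} :
    t ∈ TA N Pt X (pt N p) ↔ ∃ w ∈ X p, ∀ v : Additive N, (((t v).toMul : N) : G) = w * ((v.toMul : N) : G) * w⁻¹ := by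
  constructor
  · rintro ⟨p', hp', he, w, hw, h⟩
    have := pt_inj (D.le p hp) (D.le p' hp') he
    subst this
    exact ⟨w, hw, h⟩
  · rintro ⟨w, hw, h⟩
    exact ⟨p, hp, rfl, w, hw, h⟩

theorem conj_mem {p : Subgroup G} (hp : p ∈ Pt) {w : G} (hw : w ∈ X p) {v : G} (hv : v ∈ N) : w * v * w⁻¹ ∈ N := by
  have h1 := mul_mem (D.le p hp (D.XN p hp w hw v hv)) hv
  have e : w * v * w⁻¹ * v⁻¹ * v = w * v * w⁻¹ := by group
  rwa [e] at h1

theorem exists_TA {p : Subgroup G} (hp : p ∈ Pt) {w : G} (hw : w ∈ X p) :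
    ∃ t ∈ TA N Pt X (pt N p), ∀ v : Additive N, (((t v).toMul : N) : G) = w * ((v.toMul : N) : G) * w⁻¹ := by
  have h1 : ∀ v : N, w * (v : G) * w⁻¹ ∈ N := fun v => D.conj_mem hp hw v.2
  have h2 : ∀ v : N, w⁻¹ * (v : G) * w⁻¹⁻¹ ∈ N := fun v => D.conj_mem hp (inv_mem hw) v.2
  let e : N ≃* N :=
    { toFun := fun v => ⟨w * (v : G) * w⁻¹, h1 v⟩
      invFun := fun v => ⟨w⁻¹ * (v : G) * w⁻¹⁻¹, h2 v⟩
      left_inv := fun v => Subtype.ext (by
        change w⁻¹ * (w * (v : G) * w⁻¹) * w⁻¹⁻¹ = v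
        group)
      right_inv := fun v => Subtype.ext (by
        change w * (w⁻¹ * (v : G) * w⁻¹⁻¹) * w⁻¹ = v
        group)
      map_mul' := fun a b => Subtype.ext (by
        change w * ((a : G) * b) * w⁻¹ = w * (a : G) * w⁻¹ * (w * (b : G) * w⁻¹)
        group) }
  have h3 : ∀ v : Additive N, ((((MulEquiv.toAdditive e : Additive N ≃+ Additive N) v).toMul : N) : G) =
      w * ((v.toMul : N) : G) * w⁻¹ := fun v => rfl
  exact ⟨MulEquiv.toAdditive e, (D.mem_TA hp).2 ⟨w, hw, h3⟩, h3⟩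

theorem mem_pr {p : Subgroup G} (hp : p ∈ Pt) {m : Additive N} :
    m ∈ PtGeo.pr (TA N Pt X) (pt N p) ↔ ∀ w ∈ X p, w * ((m.toMul : N) : G) = ((m.toMul : N) : G) * w := by
  constructor
  · intro h w hw
    obtain ⟨t, ht, e⟩ := D.exists_TA hp hw
    have h1 := e m
    rw [h t ht] at h1
    exact (mul_inv_eq_iff_eq_mul.1 h1.symm)
  · intro h t ht
    obtain ⟨w, hw, e⟩ := (D.mem_TA hp).1 ht
    refine Subtype.ext ((e m).trans ?_)
    rw [h w hw]
    exact mul_inv_cancel_right _ _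

theorem le_pr {p x : Subgroup G} (hp : p ∈ Pt) (hx : x ∈ Pt) :
    pt N x ≤ PtGeo.pr (TA N Pt X) (pt N p) ↔ X p ≤ centralizer (x : Set G) := by
  constructor
  · intro h w hw
    refine mem_centralizer_iff.2 fun v hv => ?_
    exact ((D.mem_pr hp).1 (h (x := Additive.ofMul (⟨v, D.le x hx hv⟩ : N)) hv) w hw).symm
  · intro h m hm
    exact (D.mem_pr hp).2 fun w hw => (mem_centralizer_iff.1 (h hw) _ hm).symm

theorem ne' {p : Subgroup G} (hp : p ∈ Pt) : ∃ v ∈ pt N p, v ≠ 0 := by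
  by_contra hcon
  push Not at hcon
  have h1 : pt N p = ⊥ := (AddSubgroup.eq_bot_iff_forall _).2 hcon
  have h2 := D.card' hp
  rw [h1, AddSubgroup.card_bot] at h2
  have := D.q2
  omega

theorem mv_adj {p x : Subgroup G} (hp : p ∈ Pt) (hx : x ∈ Pt) :
    Big.Adj (TT Pt X) (pt N p) (pt N x) ↔ ¬ X p ≤ centralizer (x : Set G) := by
  constructor
  · rintro ⟨η, hη, v, hv, h0⟩ hcon
    obtain ⟨w, hw, h⟩ := (D.mem_TT hp).1 hη
    exact h0 ((isC_zero h).2 (mem_centralizer_iff.1 (hcon hw) _ hv).symm)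
  · intro h
    obtain ⟨w, hw, hwx⟩ := SetLike.not_le_iff_exists.1 h
    obtain ⟨η, hη, h1⟩ := D.exists_of hp hw
    obtain ⟨v, hv, hne⟩ : ∃ v ∈ x, w * v ≠ v * w := by
      by_contra hcon
      push Not at hcon
      exact hwx (mem_centralizer_iff.2 fun v hv => (hcon v hv).symm)
    exact ⟨η, hη, Additive.ofMul (⟨v, D.le x hx hv⟩ : N), hv, fun e => hne ((isC_zero h1).1 e)⟩

theorem sur' {p : Subgroup G} (hp : p ∈ Pt) {η : Additive N →+ Additive N} (hη : η ∈ TT Pt X (pt N p))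
    {b : Additive N} (hb : η b ≠ 0) {a : Additive N} (ha : a ∈ pt N p) : ∃ η' ∈ TT Pt X (pt N p), η' b = a := by
  obtain ⟨w, hw, h⟩ := (D.mem_TT hp).1 hη
  obtain ⟨w', hw', h2⟩ := D.sur p hp w hw _ (b.toMul : N).2 (fun e => hb ((isC_zero h).2 e)) _ ha
  obtain ⟨η', hη', h4⟩ := D.exists_of hp hw'
  exact ⟨η', hη', Subtype.ext ((h4 b).trans h2)⟩

theorem one' {p x : Subgroup G} (hp : p ∈ Pt) (hx : x ∈ Pt) {η : Additive N →+ Additive N}
    (hη : η ∈ TT Pt X (pt N p)) {b : Additive N} (hb : b ∈ pt N x) (hb0 : b ≠ 0) (h : η b = 0) :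
    ∀ v ∈ pt N x, η v = 0 := by
  intro v hv
  by_cases hpx : p = x
  · subst hpx
    exact D.ker hp hη hv
  · obtain ⟨y, hy, h1, -⟩ := D.move hp hη hx
    have hby : b ∈ pt N y := by simpa [h] using h1 b hb
    have hxy : x = y := D.ti x hx y hy _ hb hby fun e => hb0 (Subtype.ext e)
    subst hxy
    have h2 : η v ∈ pt N x := by simpa using (pt N x).sub_mem (h1 v hv) hv
    by_contra h0
    exact hpx (D.ti p hp x hx _ (D.im hp hη v) h2 fun e => h0 (Subtype.ext e))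

theorem hom_ext {η : Additive N →+ Additive N} (h : ∀ p ∈ Pt, ∀ v ∈ pt N p, η v = 0) : η = 0 := by
  have h1 : (⊤ : AddSubgroup (Additive N)) ≤ η.ker := by
    rw [← D.span']
    refine iSup₂_le ?_
    rintro _ ⟨p, hp, rfl⟩ v hv
    exact h p hp v hv
  exact DFunLike.ext _ _ fun v => h1 (AddSubgroup.mem_top v)

/-- some `X p` moves a point -/
theorem nbr' {p : Subgroup G} (hp : p ∈ Pt) : ∃ x ∈ Pt, ¬ X p ≤ centralizer (x : Set G) := by
  by_contra hcon
  push Not at hcon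
  apply D.mov p hp
  intro w hw
  obtain ⟨η, hη, h⟩ := D.exists_of hp hw
  have h1 : η = 0 := D.hom_ext fun x hx v hv =>
    (isC_zero h).2 (mem_centralizer_iff.1 (hcon x hx hw) _ hv).symm
  refine mem_centralizer_iff.2 fun v hv => ?_
  exact ((isC_zero h (v := Additive.ofMul (⟨v, hv⟩ : N))).1 (by rw [h1]; rfl)).symm

theorem bd : Big.Bd (pt N '' Pt) (TT Pt X) where
  ne := by rintro _ ⟨p, hp, rfl⟩; exact D.ne' hp
  ti := by rintro _ ⟨p, hp, rfl⟩ _ ⟨x, hx, rfl⟩ v h1 h2 h0; exact D.ti' hp hx h1 h2 h0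
  im := by rintro _ ⟨p, hp, rfl⟩ η hη v; exact D.im hp hη v
  ker := by rintro _ ⟨p, hp, rfl⟩ η hη v hv; exact D.ker hp hη hv
  one := by rintro _ ⟨p, hp, rfl⟩ _ ⟨x, hx, rfl⟩ η hη b hb hb0 h; exact D.one' hp hx hη hb hb0 h
  cl := by rintro _ ⟨p, hp, rfl⟩ _ ⟨x, hx, rfl⟩ φ hφ ψ hψ h0; exact D.cl hp hx hφ hψ h0
  sur := by
    rintro _ ⟨p, hp, rfl⟩ _ ⟨x, hx, rfl⟩ ⟨η, hη, v, hv, h0⟩ b hb hb0 a ha
    exact D.sur' hp hη (fun h => h0 (D.one' hp hx hη hb hb0 h v hv)) ha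
  cardP := by rintro _ ⟨p, hp, rfl⟩ _ ⟨x, hx, rfl⟩; rw [D.card' hp, D.card' hx]
  cardT := by rintro _ ⟨p, hp, rfl⟩ _ ⟨x, hx, rfl⟩; rw [D.card_TT hp, D.card_TT hx]; exact D.cardT p hp x hx
  span := fun η h => D.hom_ext fun p hp v hv => h _ ⟨p, hp, rfl⟩ v hv
  nbr := by
    rintro _ ⟨p, hp, rfl⟩
    obtain ⟨x, hx, h⟩ := D.nbr' hp
    exact ⟨_, ⟨x, hx, rfl⟩, (D.mv_adj hp hx).2 h⟩

theorem pt_le_iff {p V : Subgroup G} (hp : p ≤ N) : pt N p ≤ pt N V ↔ p ≤ V := by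
  constructor
  · intro h v hv
    exact h (x := Additive.ofMul (⟨v, hp hv⟩ : N)) hv
  · intro h v hv
    exact h hv

theorem pt_sup {p x : Subgroup G} (hp : p ≤ N) (hx : x ≤ N) : pt N (p ⊔ x) = pt N p ⊔ pt N x := by
  unfold pt
  rw [subgroupOf_sup hp hx]
  exact (Subgroup.toAddSubgroup (G := N)).map_sup _ _

theorem ln {V : Subgroup G} (l : LnG N Pt X V) {x : Subgroup G} (hx : x ∈ Pt) (hxV : x ≤ V) :
    Big.Ln (pt N '' Pt) (TT Pt X) (pt N V) where
  cov := by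
    intro v hv hv0
    obtain ⟨p, hp, hpV, hvp⟩ := l.cov _ hv fun e => hv0 (Subtype.ext e)
    exact ⟨_, ⟨p, hp, rfl⟩, (D.pt_le_iff (D.le p hp)).2 hpV, hvp⟩
  perp := by
    rintro _ ⟨p, hp, rfl⟩ hpV _ ⟨x, hx, rfl⟩ hxV h
    exact (D.mv_adj hp hx).1 h (l.perp p hp ((D.pt_le_iff (D.le p hp)).1 hpV) x hx ((D.pt_le_iff (D.le x hx)).1 hxV))
  gen := by
    rintro _ ⟨p, hp, rfl⟩ hpV _ ⟨x, hx, rfl⟩ hxV hne
    have h1 := l.gen p hp ((D.pt_le_iff (D.le p hp)).1 hpV) x hx ((D.pt_le_iff (D.le x hx)).1 hxV)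
      fun e => hne (by rw [e])
    rw [← D.pt_sup (D.le p hp) (D.le x hx)]
    exact (D.pt_le_iff l.le).2 h1
  two := by
    rintro _ ⟨p, hp, rfl⟩ hpV
    obtain ⟨x, hx, hxV, hne⟩ := l.two p hp ((D.pt_le_iff (D.le p hp)).1 hpV)
    exact ⟨_, ⟨x, hx, rfl⟩, (D.pt_le_iff (D.le x hx)).2 hxV, fun e => hne (pt_inj (D.le x hx) (D.le p hp) e)⟩
  ex := ⟨_, ⟨x, hx, rfl⟩, (D.pt_le_iff (D.le x hx)).2 hxV⟩

variable [Finite G]

/-- `|T p| = q` -/
theorem card_TT_eq {p : Subgroup G} (hp : p ∈ Pt) : Nat.card (TT Pt X (pt N p)) = q := by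
  have hfin0 : Finite (Additive N) := inferInstanceAs (Finite N)
  have hfin : Finite (Additive N →+ Additive N) :=
    Finite.of_injective (fun f : Additive N →+ Additive N => (f : Additive N → Additive N)) DFunLike.coe_injective
  refine le_antisymm ?_ ?_
  · by_contra hlt
    obtain ⟨V, hpV, l⟩ := D.line p hp
    refine D.bd.false_of_line ?_ (D.ln l hp hpV)
    rintro _ ⟨x, hx, rfl⟩
    have h1 : Nat.card (TT Pt X (pt N x)) = Nat.card (TT Pt X (pt N p)) := by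
      rw [D.card_TT hx, D.card_TT hp]
      exact D.cardT x hx p hp
    rw [D.card' hx, h1]
    omega
  · obtain ⟨x, hx, h⟩ := D.nbr' hp
    obtain ⟨η, hη, b, hb, h0⟩ := (D.mv_adj hp hx).2 h
    have h1 := D.card' hp
    rw [← h1]
    refine Nat.card_le_card_of_surjective (fun τ : TT Pt X (pt N p) => (⟨τ.1 b, D.im hp τ.2 b⟩ : pt N p)) ?_
    intro a
    obtain ⟨ψ', hψ', h2⟩ := D.sur' hp hη h0 a.2
    exact ⟨⟨ψ', hψ'⟩, Subtype.ext h2⟩

/-- an element of `T p` killing `m` is zero, unless `T p` kills `m` -/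
theorem zero_of {p : Subgroup G} (hp : p ∈ Pt) {η η' : Additive N →+ Additive N} (hη : η ∈ TT Pt X (pt N p))
    (hη' : η' ∈ TT Pt X (pt N p)) {m : Additive N} (h : η m = 0) (h' : η' m ≠ 0) : η = 0 := by
  have hfin0 : Finite (Additive N) := inferInstanceAs (Finite N)
  have hfin : Finite (Additive N →+ Additive N) :=
    Finite.of_injective (fun f : Additive N →+ Additive N => (f : Additive N → Additive N)) DFunLike.coe_injective
  let f : TT Pt X (pt N p) → pt N p := fun τ => ⟨τ.1 m, D.im hp τ.2 m⟩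
  have hsurj : Function.Surjective f := by
    intro a
    obtain ⟨ψ', hψ', h2⟩ := D.sur' hp hη' h' a.2
    exact ⟨⟨ψ', hψ'⟩, Subtype.ext h2⟩
  have hbij : Function.Bijective f := hsurj.bijective_of_nat_card_le (by rw [D.card_TT_eq hp, D.card' hp])
  have h1 : f ⟨η, hη⟩ = f ⟨0, zero_mem _⟩ := Subtype.ext h
  exact congrArg Subtype.val (hbij.1 h1)

theorem mp_pt {p x : Subgroup G} (hp : p ∈ Pt) (hx : x ∈ Pt) {t : Additive N ≃+ Additive N} {w : G} (hw : w ∈ X p)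
    (e : ∀ v : Additive N, (((t v).toMul : N) : G) = w * ((v.toMul : N) : G) * w⁻¹) :
    PtGeo.mp t (pt N x) = pt N (MulAut.conj w • x) := by
  ext v
  rw [PtGeo.mem_mp]
  constructor
  · rintro ⟨y, hy, rfl⟩
    rw [mem_pt, e]
    exact ⟨_, hy, rfl⟩
  · rintro ⟨u, hu, hv⟩
    replace hv : w * u * w⁻¹ = ((v.toMul : N) : G) := hv
    refine ⟨Additive.ofMul (⟨u, D.le x hx hu⟩ : N), hu, Subtype.ext ((e _).trans ?_)⟩
    exact hv

theorem geoL : PtGeo.GeoL (pt N '' Pt) (TA N Pt X) where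
  ne := by rintro _ ⟨p, hp, rfl⟩; exact D.ne' hp
  ti := by rintro _ ⟨p, hp, rfl⟩ _ ⟨x, hx, rfl⟩ v h1 h2 h0; exact D.ti' hp hx h1 h2 h0
  mem := by
    rintro _ ⟨p, hp, rfl⟩ t ht m
    obtain ⟨w, hw, e⟩ := (D.mem_TA hp).1 ht
    have h1 := D.XN p hp w hw _ (m.toMul : N).2
    rw [← e m] at h1
    rw [sub_eq_add_neg]
    exact h1
  self := by
    rintro _ ⟨p, hp, rfl⟩
    exact (D.le_pr hp hp).2 fun w hw => mem_centralizer_iff.2 fun v hv => (D.Xp p hp w hw v hv).symm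
  act := by
    rintro _ ⟨p, hp, rfl⟩ t ht _ ⟨x, hx, rfl⟩
    obtain ⟨w, hw, e⟩ := (D.mem_TA hp).1 ht
    rw [D.mp_pt hp hx hw e]
    exact ⟨_, D.mv p hp w hw x hx, rfl⟩
  cj := by
    rintro _ ⟨p, hp, rfl⟩ t ht _ ⟨x, hx, rfl⟩ m
    obtain ⟨w, hw, e⟩ := (D.mem_TA hp).1 ht
    rw [D.mp_pt hp hx hw e, D.mem_pr (D.mv p hp w hw x hx), D.mem_pr hx, D.Xc p hp w hw x hx]
    constructor
    · intro h y hy
      have h1 := h (w * y * w⁻¹) ⟨y, hy, rfl⟩
      rw [e m] at h1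
      have h2 : w * (y * ((m.toMul : N) : G)) * w⁻¹ = w * (((m.toMul : N) : G) * y) * w⁻¹ := by
        calc w * (y * ((m.toMul : N) : G)) * w⁻¹ = w * y * w⁻¹ * (w * ((m.toMul : N) : G) * w⁻¹) := by group
          _ = w * ((m.toMul : N) : G) * w⁻¹ * (w * y * w⁻¹) := h1
          _ = _ := by group
      exact mul_left_cancel (mul_right_cancel h2)
    · rintro h _ ⟨y, hy, rfl⟩
      change w * y * w⁻¹ * (((t m).toMul : N) : G) = (((t m).toMul : N) : G) * (w * y * w⁻¹)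
      rw [e m]
      calc w * y * w⁻¹ * (w * ((m.toMul : N) : G) * w⁻¹) = w * (y * ((m.toMul : N) : G)) * w⁻¹ := by group
        _ = w * (((m.toMul : N) : G) * y) * w⁻¹ := by rw [h y hy]
        _ = _ := by group
  sur := by
    rintro _ ⟨p, hp, rfl⟩ m hm v hv
    rw [D.mem_pr hp] at hm
    push Not at hm
    obtain ⟨w, hw, h1⟩ := hm
    obtain ⟨w', hw', h2⟩ := D.sur p hp w hw _ (m.toMul : N).2 h1 _ hv
    obtain ⟨t, ht, e⟩ := D.exists_TA hp hw'
    refine ⟨t, ht, Subtype.ext ((e m).trans ?_)⟩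
    have h3 : (((m + v).toMul : N) : G) = (((v + m).toMul : N) : G) := by rw [add_comm]
    refine Eq.trans ?_ h3.symm
    change _ = ((v.toMul : N) : G) * ((m.toMul : N) : G)
    have h4 : w' * ((m.toMul : N) : G) * w'⁻¹ * ((m.toMul : N) : G)⁻¹ = ((v.toMul : N) : G) := h2
    rw [← h4]
    exact (inv_mul_cancel_right _ _).symm
  sym := by
    have hfin0 : Finite (Additive N) := inferInstanceAs (Finite N)
    rintro _ ⟨p, hp, rfl⟩ _ ⟨x, hx, rfl⟩ h
    rw [D.le_pr hp hx] at h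
    rw [D.le_pr hx hp]
    by_contra hcon
    exact (D.mv_adj hp hx).1 (D.bd.symm ⟨x, hx, rfl⟩ ⟨p, hp, rfl⟩ ((D.mv_adj hx hp).2 hcon)) h
  ix := by
    have hfin0 : Finite (Additive N) := inferInstanceAs (Finite N)
    rintro _ ⟨p, hp, rfl⟩ _ ⟨x, hx, rfl⟩ h m
    rw [D.le_pr hp hx] at h
    obtain ⟨η, hη, b, hb, h0⟩ := (D.mv_adj hp hx).2 h
    let f : pt N x → pt N p := fun v => ⟨η v, D.im hp hη v⟩
    have hinj : Function.Injective f := by
      intro u v he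
      have he' : η u = η v := congrArg Subtype.val he
      apply Subtype.ext
      by_contra hne
      exact h0 (D.one' hp hx hη ((pt N x).sub_mem u.2 v.2) (sub_ne_zero.2 hne) (by rw [map_sub, he', sub_self]) b hb)
    have hbij : Function.Bijective f := hinj.bijective_of_nat_card_le (by rw [D.card' hp, D.card' hx])
    obtain ⟨⟨y, hy⟩, e⟩ := hbij.2 ⟨η m, D.im hp hη m⟩
    have e' : η y = η m := congrArg Subtype.val e
    refine ⟨y, hy, (D.mem_pr hp).2 fun w hw => ?_⟩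
    by_contra hcon
    obtain ⟨η', hη', h'⟩ := D.exists_of hp hw
    have h1 : η' (m - y) ≠ 0 := fun e => hcon ((isC_zero h').1 e)
    have h2 := D.zero_of hp hη hη' (m := m - y) (by rw [map_sub, e', sub_self]) h1
    rw [h2] at h0
    exact h0 rfl
  o2 := by
    rintro _ ⟨x, hx, rfl⟩ _ ⟨z, hz, rfl⟩ t ht t' ht' h m
    obtain ⟨w, hw, e⟩ := (D.mem_TA hx).1 ht
    obtain ⟨w', hw', e'⟩ := (D.mem_TA hz).1 ht'
    have e2 : ∀ m : Additive N, (((t' (t m)).toMul : N) : G) = w' * w * ((m.toMul : N) : G) * (w' * w)⁻¹ := by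
      intro m
      rw [e', e]
      group
    have h1 := D.o2 x hx z hz w hw w' hw' (fun n hn r hr y hy => by
      have h2 := (D.mem_pr hr).1 (h (Additive.ofMul (⟨n, hn⟩ : N)) _ ⟨r, hr, rfl⟩) y hy
      have h3 : (((t' (t (Additive.ofMul (⟨n, hn⟩ : N))) - Additive.ofMul (⟨n, hn⟩ : N)).toMul : N) : G) =
          w' * w * n * (w' * w)⁻¹ * n⁻¹ := by
        rw [sub_eq_add_neg]
        change (((t' (t (Additive.ofMul (⟨n, hn⟩ : N)))).toMul : N) : G) * n⁻¹ = _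
        rw [e2]
        rfl
      rw [h3] at h2
      exact h2) _ (m.toMul : N).2
    refine Subtype.ext ((e2 m).trans ?_)
    rw [h1]
    exact mul_inv_cancel_right _ _
  line := by
    rintro _ ⟨x, hx, rfl⟩
    obtain ⟨V, hxV, l⟩ := D.line x hx
    obtain ⟨y, hy, hyV, hne⟩ := l.two x hx hxV
    refine ⟨_, ⟨y, hy, rfl⟩, fun e => hne (pt_inj (D.le x hx) (D.le y hy) e).symm, ?_, ?_⟩
    · exact (D.le_pr hx hy).2 (l.perp x hx hxV y hy hyV)
    · intro v hv hv0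
      rw [← D.pt_sup (D.le x hx) (D.le y hy)] at hv
      obtain ⟨s, hs, hsV, hvs⟩ := l.cov _ (sup_le hxV hyV hv) fun e => hv0 (Subtype.ext e)
      refine ⟨_, ⟨s, hs, rfl⟩, hvs, ?_⟩
      rw [← D.pt_sup (D.le x hx) (D.le y hy)]
      exact (D.pt_le_iff (D.le s hs)).2 (hsV.trans (l.gen x hx hxV y hy hyV (Ne.symm hne)))
  nbr := by
    rintro _ ⟨x, hx, rfl⟩
    obtain ⟨y, hy, h⟩ := D.nbr' hx
    exact ⟨_, ⟨y, hy, rfl⟩, fun h1 => h ((D.le_pr hx hy).1 h1)⟩
  top := by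
    intro m
    have h1 := D.span'
    rw [← sSup_eq_iSup] at h1
    rw [h1]
    exact AddSubgroup.mem_top m

omit [IsMulCommutative N] in
/-- **No element `≠ 1` of `N` centralises all `X p`.** -/
theorem eq_one {z : G} (hz : z ∈ N) (h : ∀ p ∈ Pt, ∀ w ∈ X p, w * z = z * w) : z = 1 := by
  have : IsMulCommutative N := ⟨⟨fun a b => Subtype.ext (D.comm a a.2 b b.2)⟩⟩
  have hfin0 : Finite (Additive N) := inferInstanceAs (Finite N)
  have h1 := D.geoL.eq_zero_of_killed (m := Additive.ofMul (⟨z, hz⟩ : N)) (by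
    rintro _ ⟨p, hp, rfl⟩
    exact (D.mem_pr hp).2 (h p hp))
  exact congrArg (fun t : Additive N => ((t.toMul : N) : G)) h1

end GG

end Cfsg.Agent.Omega.OmThm.Grp
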