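import Cfsg.Agent.Omega.OmThm.SideBase

/-!
# THEOREM OM (NO-3S): the chain, and part (C): four-groups, at least three factors

* `Many`: `Side` with independent factors and the full form of (O1);
* `stab`: if `c ∈ E₀ ≤ D` moves the factor `F ν i`, then `E₀ ∩ C(F ν i)` has index two in `E₀`;
* `chain`: `|E : C_E(W')| = 2 ^ a` and `q ^ a ≤ |W' : C_{W'}(E)|` for `E ≤ D = W ∩ Q'`;
* `main3`: (A), `|F ν i| ≥ 8`; `mainD`: (3.b); `mainC`: (C), (C').
(Text: helper12, bb OMEGA 15139, blueprint OMEGA-NO3S-Om-helper12.md, sections 2, 4, 5.)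
-/

set_option autoImplicit false

namespace Cfsg.Agent.Omega.OmThm.FourMany

open Subgroup Cfsg Cfsg.Agent.ZN Cfsg.Agent.ZN.ChoiceBase
open Cfsg.Agent.Omega.OmThm.SideBase
open scoped Pointwise commutatorElement

universe u v w

variable {G : Type u} [Group G]

/-! ### Indices -/

theorem relIndex_pos [Finite G] (K L : Subgroup G) : 0 < K.relIndex L := by
  rw [Subgroup.relIndex]
  exact Nat.pos_of_ne_zero Subgroup.index_ne_zero_of_finite

theorem relIndex_cent_step {E₀ E₁ : Subgroup G} (hE : E₁ ≤ E₀) (K : Subgroup G) :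
    (centralizer (E₀ : Set G)).relIndex K =
      (centralizer (E₀ : Set G)).relIndex (K ⊓ centralizer (E₁ : Set G)) *
        (centralizer (E₁ : Set G)).relIndex K := by
  have h1 : (K ⊓ centralizer (E₀ : Set G)).relIndex (K ⊓ centralizer (E₁ : Set G)) =
      (centralizer (E₀ : Set G)).relIndex (K ⊓ centralizer (E₁ : Set G)) := by
    rw [← inf_relIndex_right (K ⊓ centralizer (E₀ : Set G)),
      ← inf_relIndex_right (centralizer (E₀ : Set G))]
    congr 1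
    refine le_antisymm (fun x hx => ⟨hx.1.2, hx.2⟩) fun x hx => ⟨⟨hx.2.1, hx.1⟩, hx.2⟩
  have h2 := relIndex_mul_relIndex (K ⊓ centralizer (E₀ : Set G)) (K ⊓ centralizer (E₁ : Set G)) K
    (inf_le_inf_left _ (centralizer_le hE)) inf_le_left
  rw [h1, inf_relIndex_left, inf_relIndex_left] at h2
  exact h2.symm

theorem card_le_relIndex [Finite G] {R K C : Subgroup G} (hR : R ≤ K)
    (h : ∀ x ∈ R, x ∈ C → x = 1) : Nat.card R ≤ C.relIndex K := by
  have h1 : C.relIndex R = Nat.card R := by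
    rw [← inf_relIndex_right, ← relIndex_bot_left]
    congr 1
    exact eq_bot_iff.2 fun x hx => mem_bot.2 (h x hx.2 hx.1)
  rw [← h1]
  exact relIndex_le_of_le_right hR (relIndex_pos _ _).ne'

/-- `|W' : C_{W'}(W)| ≥ |W'/W₁ : C(W)| |W₁ : C_{W₁}(W)|` -/
theorem relIndex_two_factors [Finite G] {V V₁ C C₁ : Subgroup G} (h1 : V₁ ≤ V) (hC₁ : V₁ ≤ C₁)
    (hC : V ⊓ C ≤ C₁) : C₁.relIndex V * C.relIndex V₁ ≤ C.relIndex V := by
  have h5 : C.relIndex V = (V ⊓ C).relIndex (V₁ ⊔ (V ⊓ C)) * (V₁ ⊔ (V ⊓ C)).relIndex V := by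
    rw [relIndex_mul_relIndex _ _ _ le_sup_right (sup_le h1 inf_le_left)]
    exact (inf_relIndex_left _ _).symm
  have h6 : C.relIndex V₁ ≤ (V ⊓ C).relIndex (V₁ ⊔ (V ⊓ C)) := by
    have h7 : C.relIndex V₁ = (V ⊓ C).relIndex V₁ := by
      rw [← inf_relIndex_right C V₁, ← inf_relIndex_right (V ⊓ C) V₁]
      congr 1
      refine le_antisymm (fun x hx => ⟨⟨h1 hx.2, hx.1⟩, hx.2⟩) fun x hx => ⟨hx.1.2, hx.2⟩
    rw [h7]
    exact relIndex_le_of_le_right le_sup_left (relIndex_pos _ _).ne'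
  have h7 : C₁.relIndex V ≤ (V₁ ⊔ (V ⊓ C)).relIndex V :=
    relIndex_le_of_le_left (sup_le hC₁ hC) (relIndex_pos _ _).ne'
  rw [h5, mul_comm]
  exact Nat.mul_le_mul h6 h7

/-- Independent factors, and (O1). -/
structure Many (W W' X' Q' : Subgroup G) {N : Type v} {I : Type w} (U : N → Subgroup G)
    (F : N → I → Subgroup G) : Prop where
  side : Side W W' X' Q' U F
  ind : ∀ ν, iSupIndep (F ν)
  O1' : ∀ ν i u, u ∈ F ν i → u ≠ 1 → ∀ g, g * u = u * g → ∀ v ∈ U ν, g * v * g⁻¹ ∈ U ν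

namespace Many

variable {W W' X' Q' : Subgroup G} {N : Type v} {I : Type w} {U : N → Subgroup G}
  {F : N → I → Subgroup G}

theorem Uc (h : Many W W' X' Q' U F) {ν μ : N} {a b : G} (ha : a ∈ U ν) (hb : b ∈ U μ) :
    a * b = b * a := h.side.Vc a (h.side.UW ν ha) b (h.side.UW μ hb)

/-- independence for up to three other factors -/
theorem indep (h : Many W W' X' Q' U F) {ν : N} {i a b c : I} (hia : a ≠ i) (hib : b ≠ i)
    (hic : c ≠ i) {x xa xb xc : G} (hx : x ∈ F ν i) (hxa : xa ∈ F ν a) (hxb : xb ∈ F ν b)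
    (hxc : xc ∈ F ν c) (he : x = xa * xb * xc) : x = 1 := by
  have h1 := (h.ind ν i).le_bot
  have h2 : x ∈ ⨆ j, ⨆ (_ : j ≠ i), F ν j := by
    rw [he]
    refine mul_mem (mul_mem ?_ ?_) ?_
    · exact (le_iSup₂_of_le a hia le_rfl : F ν a ≤ ⨆ j, ⨆ (_ : j ≠ i), F ν j) hxa
    · exact (le_iSup₂_of_le b hib le_rfl : F ν b ≤ ⨆ j, ⨆ (_ : j ≠ i), F ν j) hxb
    · exact (le_iSup₂_of_le c hic le_rfl : F ν c ≤ ⨆ j, ⨆ (_ : j ≠ i), F ν j) hxc
  exact mem_bot.1 (h1 ⟨hx, h2⟩)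

theorem indep2 (h : Many W W' X' Q' U F) {ν : N} {i j : I} (hij : i ≠ j) {x : G}
    (hx : x ∈ F ν i) (hx' : x ∈ F ν j) : x = 1 :=
  h.indep hij.symm hij.symm hij.symm hx hx' (one_mem _) (one_mem _) (by rw [mul_one, mul_one])

/-- factors of the same order: conjugation by `q` is injective on the factors -/
theorem img_ne (h : Many W W' X' Q' U F) [Finite G] {n : ℕ} (hn : 2 ≤ n)
    (hcard : ∀ ν i, Nat.card (F ν i) = n) {ν : N} {q : G} {i j a b : I} (hij : i ≠ j)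
    (hi : ∀ u ∈ F ν i, q * u * q⁻¹ ∈ F ν a) (hj : ∀ u ∈ F ν j, q * u * q⁻¹ ∈ F ν b) : a ≠ b := by
  rintro rfl
  have key : ∀ l, (∀ u ∈ F ν l, q * u * q⁻¹ ∈ F ν a) → cj q (F ν l) = F ν a := by
    intro l hl
    refine Subgroup.eq_of_le_of_card_ge (fun y hy => ?_) (by rw [card_cj, hcard, hcard])
    rw [mem_cj] at hy
    have := hl _ hy
    have e : q * (q⁻¹ * y * q) * q⁻¹ = y := by group
    rwa [e] at this
  have h1 : F ν i = F ν j := by
    rw [← cj_inv_cj q (F ν i), ← cj_inv_cj q (F ν j), key i hi, key j hj]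
  exact hij (h.side.inj ν i j h1)

/-- **`D`-orbits on the factors have length at most two.** -/
theorem stab (h : Many W W' X' Q' U F) [Finite G] {n : ℕ} (hn : 2 ≤ n)
    (hcard : ∀ ν i, Nat.card (F ν i) = n) {E₀ : Subgroup G} (hE₀ : E₀ ≤ W ⊓ Q') {ν : N} {i : I}
    {c y : G} (hc : c ∈ E₀) (hy : y ∈ F ν i) (hcy : c * y ≠ y * c) :
    (E₀ ⊓ centralizer (F ν i : Set G)).relIndex E₀ = 2 := by
  rw [relIndex_eq_two_iff_exists_notMem_and]
  have hcW := (hE₀ hc).1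
  have hcQ := (hE₀ hc).2
  have hc1 : c ∉ E₀ ⊓ centralizer (F ν i : Set G) := fun h1 =>
    hcy (mem_centralizer_iff.1 h1.2 y hy).symm
  have move : ∀ b, b ∈ E₀ → b ∉ E₀ ⊓ centralizer (F ν i : Set G) → ∀ m,
      (∀ u ∈ F ν i, b * u * b⁻¹ ∈ F ν m) → m ≠ i := by
    intro b hb hb1 m hm hmi
    subst hmi
    have h1 := h.side.cent ν m b (hE₀ hb).1 hm
    exact hb1 (mem_inf.2 ⟨hb, mem_centralizer_iff.2 fun u hu => (h1 u hu).symm⟩)
  refine ⟨c, hc, hc1, fun b hb => ?_⟩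
  by_cases hb1 : b ∈ E₀ ⊓ centralizer (F ν i : Set G)
  · exact Or.inr hb1
  left
  have hbW := (hE₀ hb).1
  have hbQ := (hE₀ hb).2
  obtain ⟨j, hj⟩ := h.side.Qp c hcQ ν i
  obtain ⟨m, hm⟩ := h.side.Qp b hbQ ν i
  obtain ⟨m', hm'⟩ := h.side.Qp b hbQ ν j
  have hji := move c hc hc1 j hj
  have hmi := move b hb hb1 m hm
  have hm'i : m' = i := by
    by_contra hne
    -- a nontrivial element of `F ν i`
    obtain ⟨x, hx, hx1⟩ : ∃ x ∈ F ν i, x ≠ 1 := by
      by_contra hcon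
      push Not at hcon
      have h1 : F ν i = ⊥ := eq_bot_iff.2 fun y hy => mem_bot.2 (hcon y hy)
      have h2 := hcard ν i
      rw [h1, Subgroup.card_bot] at h2
      omega
    apply hx1
    have hxW := h.side.UW ν (h.side.FU ν i hx)
    have h1 := h.side.cm_cent hcW hxW hbW
    have h2 := h.side.UW ν (h.side.FU ν j (hj x hx))
    have hxi : x⁻¹ = x := inv_eq_of_mul_eq_one_left (h.side.Vsq x hxW)
    -- `b` fixes `x^c x⁻¹`
    have h3 : (b * (c * x * c⁻¹) * b⁻¹) * (b * x * b⁻¹)⁻¹ = (c * x * c⁻¹) * x⁻¹ := by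
      calc (b * (c * x * c⁻¹) * b⁻¹) * (b * x * b⁻¹)⁻¹ = b * (c * x * c⁻¹ * x⁻¹) * b⁻¹ := by group
        _ = (c * x * c⁻¹ * x⁻¹) * b * b⁻¹ := by rw [h1]
        _ = _ := by group
    have h4 : x = (b * x * b⁻¹) * (b * (c * x * c⁻¹) * b⁻¹)⁻¹ * (c * x * c⁻¹) := by
      have h5 : (c * x * c⁻¹)⁻¹ * ((b * (c * x * c⁻¹) * b⁻¹) * (b * x * b⁻¹)⁻¹) = x⁻¹ := by
        rw [h3]; group
      calc x = (x⁻¹)⁻¹ := by group
        _ = ((c * x * c⁻¹)⁻¹ * ((b * (c * x * c⁻¹) * b⁻¹) * (b * x * b⁻¹)⁻¹))⁻¹ := by rw [h5]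
        _ = _ := by group
    exact h.indep hmi hne hji hx (hm x hx) (inv_mem (hm' _ (hj x hx))) (hj x hx) h4
  subst hm'i
  have h5 : ∀ u ∈ F ν m', (b * c) * u * (b * c)⁻¹ ∈ F ν m' := by
    intro u hu
    have := hm' _ (hj u hu)
    have e : (b * c) * u * (b * c)⁻¹ = b * (c * u * c⁻¹) * b⁻¹ := by group
    rwa [e]
  have h6 := h.side.cent ν m' (b * c) (mul_mem hbW hcW) h5
  exact mem_inf.2 ⟨mul_mem hb hc, mem_centralizer_iff.2 fun u hu => (h6 u hu).symm⟩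

/-- an element of a moved factor is not fixed -/
theorem fix_one (h : Many W W' X' Q' U F) {c y : G} {ν : N} {i : I} (hcW : c ∈ W) (hcQ : c ∈ Q')
    (hy : y ∈ F ν i) (hcy : c * y ≠ y * c) {x : G} (hx : x ∈ F ν i) (hcx : c * x = x * c) :
    x = 1 := by
  by_contra hx1
  have h1 := h.side.cent ν i c hcW (h.side.O1 ν i x hx hx1 c hcx)
  exact hcy (h1 y hy)

/-- **The chain**: `|E : C_E(W')| = 2 ^ a` and `n ^ a ≤ |K : C_K(E)|` for `K ≤ W'`, provided every factor meets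
`K` in at least `n` elements. -/
theorem chain (h : Many W W' X' Q' U F) [Finite G] {m : ℕ} (hm : 2 ≤ m)
    (hcard : ∀ ν i, Nat.card (F ν i) = m) (K : Subgroup G) {n : ℕ}
    (hK : ∀ ν i, n ≤ Nat.card ↥(F ν i ⊓ K)) : ∀ (l : ℕ) (E₀ : Subgroup G), E₀ ≤ W ⊓ Q' →
      Nat.card E₀ ≤ l → ∃ a : ℕ, (centralizer (W' : Set G)).relIndex E₀ = 2 ^ a ∧
        n ^ a ≤ (centralizer (E₀ : Set G)).relIndex K := by
  intro l
  induction l with
  | zero =>
    intro E₀ _ hl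
    have : 0 < Nat.card E₀ := Nat.card_pos
    omega
  | succ l ih =>
    intro E₀ hE₀ hl
    by_cases hcen : E₀ ≤ centralizer (W' : Set G)
    · refine ⟨0, by rw [relIndex_eq_one.2 hcen, pow_zero], ?_⟩
      rw [pow_zero]
      exact relIndex_pos _ _
    · obtain ⟨ν, c, hc, u, hu, hcu⟩ := h.side.exists_block hcen
      obtain ⟨i, y, hy, hcy⟩ := h.side.exists_factor hu hcu
      have h2 := h.stab hm hcard hE₀ hc hy hcy
      set E₁ := E₀ ⊓ centralizer (F ν i : Set G) with hE₁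
      have hlt : Nat.card E₁ < Nat.card E₀ := by
        refine lt_of_le_of_ne (Subgroup.card_le_of_le inf_le_left) fun e => ?_
        have h3 : E₁ = E₀ := Subgroup.eq_of_le_of_card_ge inf_le_left e.ge
        have h5 : c ∈ E₁ := by rw [h3]; exact hc
        exact hcy (mem_centralizer_iff.1 h5.2 y hy).symm
      obtain ⟨a, ha, ha'⟩ := ih E₁ (inf_le_left.trans hE₀) (by omega)
      refine ⟨a + 1, ?_, ?_⟩
      · rw [Side.relIndex_step (W' := W') (E1 := E₁) inf_le_left fun x hx =>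
          ⟨hx.1, centralizer_le ((h.side.FU ν i).trans (h.side.UW ν)) hx.2⟩, ha, h2, pow_succ]
      · rw [relIndex_cent_step (E₀ := E₀) (E₁ := E₁) inf_le_left K, pow_succ, mul_comm]
        refine Nat.mul_le_mul ((hK ν i).trans (card_le_relIndex ?_ fun x hx hx' => ?_)) ha'
        · refine le_inf inf_le_right fun x hx => mem_centralizer_iff.2 fun d hd => ?_
          exact (mem_centralizer_iff.1 (mem_inf.1 hd).2 x hx.1).symm
        · exact h.fix_one (hE₀ hc).1 (hE₀ hc).2 hy hcy hx.1 (mem_centralizer_iff.1 hx' c hc)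

/-- the numbers `A`, `r`, `f'` -/
theorem numbers (h : Many W W' X' Q' U F) [Finite G] (hWQ : W ⊓ centralizer (W' : Set G) ≤ Q') :
    (centralizer (W' : Set G)).relIndex W =
      (centralizer (W' : Set G)).relIndex (W ⊓ Q') * (W ⊓ Q').relIndex W :=
  Side.relIndex_step inf_le_left fun x hx => ⟨hx.1, hWQ hx⟩

theorem cent_le [Finite G] (K : Subgroup G) : (centralizer ((W ⊓ Q' : Subgroup G) : Set G)).relIndex K ≤
    (centralizer (W : Set G)).relIndex K :=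
  relIndex_le_of_le_left (centralizer_le inf_le_left) (relIndex_pos _ _).ne'

/-- **(A)**: `|F ν i| ≥ 8`. -/
theorem main3 (h : Many W W' X' Q' U F) [Finite G] {m : ℕ} (hm : 8 ≤ m)
    (hcard : ∀ ν i, Nat.card (F ν i) = m) (hWQ : W ⊓ centralizer (W' : Set G) ≤ Q')
    (hne : ¬ W ≤ centralizer (W' : Set G))
    (h2 : (W ⊓ Q').relIndex W ^ 2 ≤ (centralizer (W : Set G)).relIndex W') :
    (centralizer (W' : Set G)).relIndex W < (centralizer (W : Set G)).relIndex W' := by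
  have h3 := h.numbers hWQ
  have hf : (centralizer (W' : Set G)).relIndex W ≠ 1 := fun e => hne (relIndex_eq_one.1 e)
  have hW : ∀ ν i, m ≤ Nat.card ↥(F ν i ⊓ W') := fun ν i => by
    rw [inf_eq_left.2 ((h.side.FU ν i).trans (h.side.UW ν)), hcard]
  obtain ⟨a, ha, ha'⟩ := h.chain (by omega) hcard W' hW _ _ le_rfl le_rfl
  have h4 := cent_le (W := W) (Q' := Q') W'
  set r := (W ⊓ Q').relIndex W with hr
  have hr0 : 0 < r := relIndex_pos _ _
  set f' := (centralizer (W : Set G)).relIndex W' with hf'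
  rw [ha] at h3
  rw [h3] at hf ⊢
  by_contra hcon
  push Not at hcon
  -- `f' ≤ 2^a r`, `r² ≤ f'`, `8^a ≤ f'`
  have h5 : 8 ^ a ≤ f' := (Nat.pow_le_pow_left hm a).trans (ha'.trans h4)
  have h6 : f' * f' ≤ (2 ^ a) ^ 2 * f' := by
    calc f' * f' ≤ (2 ^ a * r) * (2 ^ a * r) := Nat.mul_le_mul hcon hcon
      _ = (2 ^ a) ^ 2 * r ^ 2 := by ring
      _ ≤ _ := Nat.mul_le_mul_left _ h2
  have hf0 : 0 < f' := relIndex_pos _ _
  have h7 : f' ≤ (2 ^ a) ^ 2 := Nat.le_of_mul_le_mul_right h6 hf0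
  have h8 : (8 : ℕ) ^ a = (2 ^ a) ^ 2 * 2 ^ a := by
    rw [show (8 : ℕ) = 2 ^ 3 by norm_num, ← pow_mul, ← pow_mul, ← pow_add]
    congr 1
    ring
  have h9 : 2 ^ a ≤ 1 := by
    have h10 : (2 ^ a) ^ 2 * 2 ^ a ≤ (2 ^ a) ^ 2 * 1 := by rw [← h8, mul_one]; exact h5.trans h7
    exact Nat.le_of_mul_le_mul_left h10 (by positivity)
  have h11 : 2 ^ a = 1 := le_antisymm h9 Nat.one_le_two_pow
  rw [h11, one_mul] at hf hcon
  rw [h11, one_pow] at h7
  have h12 : r ^ 2 ≤ 1 := h2.trans h7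
  have h13 : r = 1 := by nlinarith
  exact hf h13

/-- **(D), (3.b)**: `O²(X')` does not centralise `C_{W'}(Q')`; also used for `C_{W'}(D) > C_{W'}(W)`. -/
theorem mainD (h : Many W W' X' Q' U F) [Finite G] {m : ℕ} (hm : 4 ≤ m)
    (hcard : ∀ ν i, Nat.card (F ν i) = m) (hWQ : W ⊓ centralizer (W' : Set G) ≤ Q')
    (hne : ¬ W ≤ centralizer (W' : Set G))
    (h1 : (W ⊓ Q').relIndex W ≤
      (centralizer (W : Set G)).relIndex (W' ⊓ centralizer (Q' : Set G)))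
    (h2 : (W ⊓ Q').relIndex W ^ 2 ≤ (centralizer (W : Set G)).relIndex W') :
    (centralizer (W' : Set G)).relIndex W < (centralizer (W : Set G)).relIndex W' := by
  have h3 := h.numbers hWQ
  have hf : (centralizer (W' : Set G)).relIndex W ≠ 1 := fun e => hne (relIndex_eq_one.1 e)
  have hW : ∀ ν i, m ≤ Nat.card ↥(F ν i ⊓ W') := fun ν i => by
    rw [inf_eq_left.2 ((h.side.FU ν i).trans (h.side.UW ν)), hcard]
  obtain ⟨a, ha, ha'⟩ := h.chain (by omega) hcard W' hW _ _ le_rfl le_rfl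
  have h4 := relIndex_cent_step (E₀ := W) (E₁ := W ⊓ Q') inf_le_left W'
  have h5 : (W ⊓ Q').relIndex W ≤ (centralizer (W : Set G)).relIndex
      (W' ⊓ centralizer ((W ⊓ Q' : Subgroup G) : Set G)) :=
    h1.trans (relIndex_le_of_le_right (inf_le_inf_left _ (centralizer_le inf_le_right))
      (relIndex_pos _ _).ne')
  set r := (W ⊓ Q').relIndex W with hr
  have hr0 : 0 < r := relIndex_pos _ _
  set f' := (centralizer (W : Set G)).relIndex W' with hf'
  rw [ha] at h3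
  rw [h3] at hf ⊢
  have h6 : r * 4 ^ a ≤ f' := by
    rw [h4]
    exact Nat.mul_le_mul h5 ((Nat.pow_le_pow_left hm a).trans ha')
  have h7 : (4 : ℕ) ^ a = 2 ^ a * 2 ^ a := by
    rw [show (4 : ℕ) = 2 ^ 2 by norm_num, ← pow_mul, ← pow_add]
    congr 1
    ring
  rcases Nat.eq_zero_or_pos a with rfl | ha0
  · rw [pow_zero, one_mul] at hf ⊢
    have : 2 ≤ r := by omega
    nlinarith
  · have h8 : 2 ≤ 2 ^ a := by
      calc 2 = 2 ^ 1 := (pow_one 2).symm
        _ ≤ 2 ^ a := Nat.pow_le_pow_right (by norm_num) ha0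
    calc 2 ^ a * r < 2 ^ a * (2 ^ a * r) :=
          lt_mul_of_one_lt_left (Nat.mul_pos (by positivity) hr0) (by omega)
      _ = r * 4 ^ a := by rw [h7]; ring
      _ ≤ f' := h6

/-- If `C_{W'}(D) = C_{W'}(W)`, then `D` centralises no factor of a block which it moves. -/
theorem nofix (h : Many W W' X' Q' U F) [Finite G] {m : ℕ} (hm : 2 ≤ m)
    (hcard : ∀ ν i, Nat.card (F ν i) = m)
    (hle : (centralizer (W : Set G)).relIndex W' ≤
      (centralizer ((W ⊓ Q' : Subgroup G) : Set G)).relIndex W') {ν : N} {c u : G}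
    (hc : c ∈ W ⊓ Q') (hu : u ∈ U ν) (hcu : c * u ≠ u * c) (i : I) :
    ∃ d ∈ W ⊓ Q', ∃ y ∈ F ν i, d * y ≠ y * d := by
  by_contra hcon
  push Not at hcon
  obtain ⟨x, hx, hx1⟩ : ∃ x ∈ F ν i, x ≠ 1 := by
    by_contra hcon
    push Not at hcon
    have h1 : F ν i = ⊥ := eq_bot_iff.2 fun y hy => mem_bot.2 (hcon y hy)
    have h2 := hcard ν i
    rw [h1, Subgroup.card_bot] at h2
    omega
  have h4 := relIndex_cent_step (E₀ := W) (E₁ := W ⊓ Q') inf_le_left W'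
  have h5 : (centralizer (W : Set G)).relIndex
      (W' ⊓ centralizer ((W ⊓ Q' : Subgroup G) : Set G)) = 1 := by
    have h6 : 0 < (centralizer ((W ⊓ Q' : Subgroup G) : Set G)).relIndex W' := relIndex_pos _ _
    have h7 : 0 < (centralizer (W : Set G)).relIndex
      (W' ⊓ centralizer ((W ⊓ Q' : Subgroup G) : Set G)) := relIndex_pos _ _
    rw [h4] at hle
    have h8 := Nat.le_of_mul_le_mul_right (hle.trans (one_mul _).ge) h6
    omega
  have h6 : x ∈ centralizer (W : Set G) := by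
    refine (relIndex_eq_one.1 h5) (mem_inf.2 ⟨h.side.UW ν (h.side.FU ν i hx),
      mem_centralizer_iff.2 fun d hd => hcon d hd x hx⟩)
  have h7 : ∀ w ∈ W, ∀ u ∈ U ν, w * u * w⁻¹ ∈ U ν := fun w hw =>
    h.O1' ν i x hx hx1 w (mem_centralizer_iff.1 h6 w hw)
  exact hcu (h.side.mv ν h7 c hc.1 u hu)

/-- **(C)**: all orbits of `Q'` on the factors have at least three elements. -/
theorem mainC (h : Many W W' X' Q' U F) [Finite G] {m : ℕ} (hm : 4 ≤ m)
    (hcard : ∀ ν i, Nat.card (F ν i) = m) (hWQ : W ⊓ centralizer (W' : Set G) ≤ Q')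
    (hne : ¬ W ≤ centralizer (W' : Set G)) (i₀ : I)
    (htr : ∀ ν i i₁, ∃ j, j ≠ i ∧ j ≠ i₁ ∧ ∃ q ∈ Q', ∀ u ∈ F ν i, q * u * q⁻¹ ∈ F ν j)
    (hy : ∀ ν i, ∃ y ∈ F ν i, y ≠ 1 ∧ y ∈ ⁅W', Q'⁆)
    (h1 : (W ⊓ Q').relIndex W * (centralizer (W : Set G)).relIndex ⁅W', Q'⁆ ≤
      (centralizer (W : Set G)).relIndex W')
    (h2 : (W ⊓ Q').relIndex W ^ 2 ≤ (centralizer (W : Set G)).relIndex W') :
    (centralizer (W' : Set G)).relIndex W < (centralizer (W : Set G)).relIndex W' := by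
  have h3 := h.numbers hWQ
  have hf : (centralizer (W' : Set G)).relIndex W ≠ 1 := fun e => hne (relIndex_eq_one.1 e)
  set r := (W ⊓ Q').relIndex W with hr
  have hr0 : 0 < r := relIndex_pos _ _
  set f' := (centralizer (W : Set G)).relIndex W' with hf'
  by_contra hcon
  push Not at hcon
  rw [h3] at hf hcon
  have hW : ∀ ν i, m ≤ Nat.card ↥(F ν i ⊓ W') := fun ν i => by
    rw [inf_eq_left.2 ((h.side.FU ν i).trans (h.side.UW ν)), hcard]
  obtain ⟨a, ha, ha'⟩ := h.chain (by omega) hcard W' hW _ _ le_rfl le_rfl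
  set A := (centralizer (W' : Set G)).relIndex (W ⊓ Q') with hA
  have hA0 : 0 < A := relIndex_pos _ _
  -- `r ≤ A`, `f' ≤ A²`
  have hrA : r ≤ A := by
    have : r * r ≤ A * r := by rw [← pow_two]; exact h2.trans hcon
    exact Nat.le_of_mul_le_mul_right this hr0
  have hfA : f' ≤ A * A := hcon.trans (Nat.mul_le_mul_left _ hrA)
  have hle : f' ≤ (centralizer ((W ⊓ Q' : Subgroup G) : Set G)).relIndex W' := by
    refine hfA.trans (le_trans ?_ ha')
    rw [ha, ← mul_pow]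
    exact Nat.pow_le_pow_left (by omega) a
  by_cases hD : W ⊓ Q' ≤ centralizer (W' : Set G)
  · have hA1 : A = 1 := relIndex_eq_one.2 hD
    rw [hA1] at hf hrA
    omega
  obtain ⟨ν, c, hc, u, hu, hcu⟩ := h.side.exists_block hD
  have hnf := h.nofix (by omega) hcard hle hc hu hcu
  obtain ⟨d₀, hd₀, y₀, hy₀, hdy₀⟩ := hnf i₀
  obtain ⟨i₁, hi₁⟩ := h.side.Qp d₀ hd₀.2 ν i₀
  have hi₁₀ : i₁ ≠ i₀ := by
    rintro rfl
    exact hdy₀ (h.side.cent ν i₁ d₀ hd₀.1 hi₁ y₀ hy₀)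
  obtain ⟨j, hj₀, hj₁, q, hq, hqF⟩ := htr ν i₀ i₁
  obtain ⟨d₁, hd₁, y₁, hy₁, hdy₁⟩ := hnf j
  obtain ⟨i₂, hi₂⟩ := h.side.Qp d₀ hd₀.2 ν i₁
  obtain ⟨j', hj'⟩ := h.side.Qp d₀ hd₀.2 ν j
  -- `d₀` maps `i₁` to `i₀`
  have hi₂₀ : i₂ = i₀ := by
    by_contra hne
    obtain ⟨x, hx, hx1⟩ : ∃ x ∈ F ν i₀, x ≠ 1 := ⟨y₀, hy₀, by rintro rfl; exact hdy₀ (by simp)⟩
    apply hx1
    refine h.indep2 (Ne.symm hne) hx ?_
    have := hi₂ _ (hi₁ x hx)
    have e : d₀ * (d₀ * x * d₀⁻¹) * d₀⁻¹ = (d₀ * d₀) * x * (d₀ * d₀)⁻¹ := by group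
    rwa [e, h.side.Wsq d₀ hd₀.1, one_mul, inv_one, mul_one] at this
  have hj'₀ : j' ≠ i₀ := by
    rw [← hi₂₀]
    exact h.img_ne (by omega) hcard hj₁ hj' hi₂
  -- the subgroups `E₁`, `E₂`
  have hE1 := h.stab (by omega) hcard (le_refl (W ⊓ Q')) hd₀ hy₀ hdy₀
  set E₁ := (W ⊓ Q') ⊓ centralizer (F ν i₀ : Set G) with hE₁
  set E₂ := E₁ ⊓ centralizer (F ν j : Set G) with hE₂
  have hcF : ∀ i, centralizer (W' : Set G) ≤ centralizer (F ν i : Set G) := fun i =>
    centralizer_le ((h.side.FU ν i).trans (h.side.UW ν))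
  have hA₁ : A = (centralizer (W' : Set G)).relIndex E₁ * 2 := by
    rw [hA, Side.relIndex_step (W' := W') (E1 := E₁) inf_le_left fun x hx =>
      ⟨hx.1, hcF i₀ hx.2⟩, hE1]
  have hA₂ : (centralizer (W' : Set G)).relIndex E₁ ≤
      (centralizer (W' : Set G)).relIndex E₂ * 2 := by
    rw [Side.relIndex_step (W' := W') (E1 := E₂) inf_le_left fun x hx =>
      ⟨hx.1, hcF j hx.2⟩]
    refine Nat.mul_le_mul_left _ ?_
    by_cases hj : E₁ ≤ centralizer (F ν j : Set G)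
    · have : E₂ = E₁ := inf_eq_left.2 hj
      rw [this, relIndex_self]
      norm_num
    · obtain ⟨d, hd, hdj⟩ := SetLike.not_le_iff_exists.1 hj
      obtain ⟨y, hy, hyd⟩ : ∃ y ∈ F ν j, d * y ≠ y * d := by
        by_contra hcon
        push Not at hcon
        exact hdj (mem_centralizer_iff.2 fun y hy => (hcon y hy).symm)
      exact (h.stab (by omega) hcard inf_le_left hd hy hyd).le
  -- the subgroup `R`
  set W₁ := ⁅W', Q'⁆ with hW₁
  obtain ⟨y, hyF, hy1, hyW₁⟩ := hy ν i₀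
  have hFW : ∀ {i x}, x ∈ F ν i → x ∈ W' := fun {i x} hx => h.side.UW ν (h.side.FU ν i hx)
  set R : Subgroup G := W₁ ⊓ (F ν i₀ ⊔ F ν j) with hR
  have hf1 : ∀ x ∈ F ν i₀, x * (q * x * q⁻¹)⁻¹ ∈ R := by
    intro x hx
    refine mem_inf.2 ⟨?_, mul_mem (mem_sup_left hx) (mem_sup_right (inv_mem (hqF x hx)))⟩
    have := commutator_mem_commutator (hFW hx) hq
    rw [commutatorElement_def] at this
    have e : x * (q * x * q⁻¹)⁻¹ = x * q * x⁻¹ * q⁻¹ := by group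
    rwa [e]
  have hcardR : m * 2 ≤ Nat.card R := by
    let f : F ν i₀ × Bool → R := fun p =>
      ⟨(p.1 : G) * (q * p.1 * q⁻¹)⁻¹ * (bif p.2 then y else 1), mul_mem (hf1 p.1 p.1.2) (by
        cases p.2
        · exact one_mem _
        · exact mem_inf.2 ⟨hyW₁, mem_sup_left hyF⟩)⟩
    have hf : Function.Injective f := by
      rintro ⟨⟨x, hx⟩, b⟩ ⟨⟨x', hx'⟩, b'⟩ hxx
      have e1 : x * (q * x * q⁻¹)⁻¹ * (bif b then y else 1) =
          x' * (q * x' * q⁻¹)⁻¹ * (bif b' then y else 1) := congrArg Subtype.val hxx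
      have hb : ∀ b : Bool, (bif b then y else 1) ∈ F ν i₀ := by
        intro b; cases b
        · exact one_mem _
        · exact hyF
      -- the component `j`
      have e2 : (q * x * q⁻¹) * (q * x' * q⁻¹)⁻¹ ∈ F ν i₀ := by
        have e3 : (q * x * q⁻¹) * (q * x' * q⁻¹)⁻¹ =
            (x' * x⁻¹)⁻¹ * ((bif b then y else 1) * (bif b' then y else 1)⁻¹) := by
          have c1 : ∀ s ∈ F ν i₀, ∀ t ∈ F ν j, s * t = t * s := fun s hs t ht =>
            h.Uc (h.side.FU ν _ hs) (h.side.FU ν _ ht)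
          have c2 : ∀ s ∈ F ν i₀, ∀ t ∈ F ν i₀, s * t = t * s := fun s hs t ht =>
            h.Uc (h.side.FU ν _ hs) (h.side.FU ν _ ht)
          have k1 := hqF x hx
          have k2 := hqF x' hx'
          set s := q * x * q⁻¹ with hs
          set t := q * x' * q⁻¹ with ht
          set β := (bif b then y else 1) with hβ
          set β' := (bif b' then y else 1) with hβ'
          have k3 : β ∈ F ν i₀ := hb b
          have k4 : β' ∈ F ν i₀ := hb b'
          -- x s⁻¹ β = x' t⁻¹ β'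
          have k5 : x * β * s⁻¹ = x' * β' * t⁻¹ := by
            calc x * β * s⁻¹ = x * (β * s⁻¹) := by group
              _ = x * (s⁻¹ * β) := by rw [c1 β k3 _ (inv_mem k1)]
              _ = x * s⁻¹ * β := by group
              _ = x' * t⁻¹ * β' := e1
              _ = x' * (t⁻¹ * β') := by group
              _ = x' * (β' * t⁻¹) := by rw [c1 β' k4 _ (inv_mem k2)]
              _ = _ := by group
          have k6 : s⁻¹ * t = (x * β)⁻¹ * (x' * β') := by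
            calc s⁻¹ * t = (x * β)⁻¹ * (x * β * s⁻¹) * t := by group
              _ = (x * β)⁻¹ * (x' * β' * t⁻¹) * t := by rw [k5]
              _ = _ := by group
          have k7 : s * t⁻¹ = (t⁻¹ * s) := h.Uc (h.side.FU ν _ k1) (h.side.FU ν _ (inv_mem k2))
          rw [k7]
          have k8 : t⁻¹ * s = (s⁻¹ * t)⁻¹ := by group
          rw [k8, k6]
          calc ((x * β)⁻¹ * (x' * β'))⁻¹ = (β'⁻¹ * (x'⁻¹ * x)) * β := by group
            _ = ((x'⁻¹ * x) * β'⁻¹) * β := by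
              rw [c2 _ (inv_mem k4) _ (mul_mem (inv_mem hx') hx)]
            _ = (x'⁻¹ * x) * (β'⁻¹ * β) := by group
            _ = (x * x'⁻¹) * (β * β'⁻¹) := by
              rw [c2 _ (inv_mem hx') _ hx, c2 _ (inv_mem k4) _ k3]
            _ = _ := by group
        rw [e3]
        exact mul_mem (inv_mem (mul_mem hx' (inv_mem hx))) (mul_mem (hb b) (inv_mem (hb b')))
      have e4 := h.indep2 hj₀.symm e2 (mul_mem (hqF x hx) (inv_mem (hqF x' hx')))
      have e5 : x = x' := by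
        have e6 : q * (x * x'⁻¹) * q⁻¹ = 1 := by rw [← e4]; group
        have e7 : x * x'⁻¹ = 1 := by
          rw [mul_inv_eq_one, mul_eq_left] at e6
          exact e6
        exact mul_inv_eq_one.1 e7
      subst e5
      have e6 := mul_left_cancel e1
      have e7 : b = b' := by
        cases b <;> cases b'
        · rfl
        · exact absurd e6.symm hy1
        · exact absurd e6 hy1
        · rfl
      rw [e7]
    have := Nat.card_le_card_of_injective f hf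
    rwa [Nat.card_prod, hcard, Nat.card_eq_fintype_card (α := Bool), Fintype.card_bool] at this
  have hRE : R ≤ W₁ ⊓ centralizer (E₂ : Set G) := by
    refine le_inf inf_le_left (inf_le_right.trans (sup_le ?_ ?_))
    · exact fun x hx => mem_centralizer_iff.2 fun d hd =>
        (mem_centralizer_iff.1 (mem_inf.1 (mem_inf.1 hd).1).2 x hx).symm
    · exact fun x hx => mem_centralizer_iff.2 fun d hd =>
        (mem_centralizer_iff.1 (mem_inf.1 hd).2 x hx).symm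
  have hR1 : ∀ x ∈ R, x ∈ centralizer ((W ⊓ Q' : Subgroup G) : Set G) → x = 1 := by
    intro x hx hxc
    obtain ⟨s, hs, t, ht, rfl⟩ := mem_sup_comm (fun s hs t ht =>
      h.Uc (h.side.FU ν _ hs) (h.side.FU ν _ ht)) (mem_inf.1 hx).2
    have k1 := mem_centralizer_iff.1 hxc d₀ hd₀
    have k2 : s = (d₀ * s * d₀⁻¹) * (d₀ * t * d₀⁻¹) * t⁻¹ := by
      calc s = (s * t) * t⁻¹ := by group
        _ = ((s * t) * d₀ * d₀⁻¹) * t⁻¹ := by group
        _ = (d₀ * (s * t) * d₀⁻¹) * t⁻¹ := by rw [← k1]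
        _ = _ := by group
    have k3 : s = 1 := h.indep hi₁₀ hj'₀ hj₀ hs (hi₁ s hs) (hj' t ht) (inv_mem ht) k2
    rw [k3, one_mul] at hxc ⊢
    exact h.fix_one hd₁.1 hd₁.2 hy₁ hdy₁ ht (mem_centralizer_iff.1 hxc d₁ hd₁)
  have hidx := card_le_relIndex hRE hR1
  -- the chain in `W₁`
  have hK : ∀ ν i, 2 ≤ Nat.card ↥(F ν i ⊓ W₁) := by
    intro ν i
    obtain ⟨y, hyF, hy1, hyW₁⟩ := hy ν i
    by_contra hlt
    have h4 : Nat.card ↥(F ν i ⊓ W₁) = 1 := by
      have : 0 < Nat.card ↥(F ν i ⊓ W₁) := Nat.card_pos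
      omega
    have h5 : F ν i ⊓ W₁ = ⊥ := Subgroup.card_eq_one.1 h4
    have h6 : y ∈ F ν i ⊓ W₁ := ⟨hyF, hyW₁⟩
    rw [h5] at h6
    exact hy1 (mem_bot.1 h6)
  obtain ⟨a', ha₂, ha₂'⟩ := h.chain (by omega) hcard W₁ hK _ E₂
    ((inf_le_left : E₂ ≤ E₁).trans inf_le_left) le_rfl
  have h5 := relIndex_cent_step (E₀ := W ⊓ Q') (E₁ := E₂)
    ((inf_le_left : E₂ ≤ E₁).trans inf_le_left) W₁
  have h6 : m * 2 * 2 ^ a' ≤ (centralizer ((W ⊓ Q' : Subgroup G) : Set G)).relIndex W₁ := by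
    rw [h5]
    exact Nat.mul_le_mul (hcardR.trans hidx) ha₂'
  have h7 := cent_le (W := W) (Q' := Q') W₁
  rw [ha₂] at hA₂
  have h8 : A ≤ 4 * 2 ^ a' := by omega
  have h9 : A * 2 ≤ (centralizer (W : Set G)).relIndex W₁ := by
    refine le_trans ?_ (h6.trans h7)
    calc A * 2 ≤ (4 * 2 ^ a') * 2 := Nat.mul_le_mul_right _ h8
      _ = 4 * 2 * 2 ^ a' := by ring
      _ ≤ m * 2 * 2 ^ a' := Nat.mul_le_mul_right _ (Nat.mul_le_mul_right _ hm)
  have h10 : r * (A * 2) ≤ A * r := (Nat.mul_le_mul_left r h9).trans (h1.trans hcon)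
  have h11 : 0 < A * r := Nat.mul_pos hA0 hr0
  have h12 : r * (A * 2) = 2 * (A * r) := by ring
  omega

end Many

end Cfsg.Agent.Omega.OmThm.FourMany
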