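import Cfsg.Agent.Omega.OmThm.Main
import Cfsg.Agent.Omega.OmThm.FourMany
import Cfsg.Agent.Omega.OmThm.FourTwo

/-!
# THEOREM OM (B), (C), (D)

bb OMEGA #15139, blueprints/OMEGA-NO3S-Om-helper12.md.

* `Hyp.side`, `Hyp.many` : the critical pair as a `Side` / `Many`;
* `Hyp.no_center` : **(D)** `O²(X)` centralises `C_U(O₂(X))`;
* `Hyp.no_orbit_three` : **(C')** all orbits of `O₂(X)` on the factors have at least three elements: impossible;
* `Hyp.no_trans` : **(C)** at least three factors, `O₂(X)` transitive on the factors: impossible;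
* `Hyp.no_fix` : `O₂(X)` normalises all factors: impossible;
* `Hyp.no_two` : **(B)** two four-groups, `X ≤ C(z)`, `z ∈ U` in no factor, some `t ∈ X` centralises the second factor and
  not the first one, `U ∩ U^g` contains no element which is in a factor of `U` and not in a factor of `U^g`: impossible.
-/

set_option autoImplicit false

namespace Cfsg.Agent.Omega.OmThm

open Subgroup Cfsg.Agent.Omega.NoFF.Basic Cfsg.Agent.ZN Cfsg.Agent.MinSimple.VModule
open scoped Pointwise commutatorElement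

variable {G : Type*} [Group G] {I : Type*} {B : I → Subgroup G} {U : Subgroup G} {q : ℕ} {S P X : Subgroup G}

/-- The index in the quotient `W / [W, Q]`. -/
theorem XD.quot_le (D : XD S X U) [Finite G] (hno : NoOv X (V U X)) {E : Subgroup G} (hEX : E ≤ X)
    (hE : ∀ e ∈ E, e * e = 1) :
    (o2 X).relIndex E * (centralizer (E : Set G)).relIndex ⁅V U X, o2 X⁆ ≤
      (centralizer (E : Set G)).relIndex (V U X) := by
  set W := V U X with hW
  set N : Subgroup G := ⁅W, o2 X⁆ with hN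
  have hNW : N ≤ W := D.comm_le_W
  set C : Subgroup G := centralizer (E : Set G) ⊓ W with hC
  have hCW : C ≤ W := inf_le_right
  have hCE : ∀ b ∈ C, ∀ e ∈ E, b * e * b⁻¹ * e⁻¹ = 1 := by
    intro b hb e he
    have := mem_centralizer_iff.1 hb.1 e he
    rw [← this]; group
  have e1 : (o2 X).relIndex E ≤ (C ⊔ N).relIndex W := by
    refine hno N W (C ⊔ N) E le_sup_right (sup_le hCW hNW) le_rfl X_le_normalizer_comm X_le_normalizer_W D.one
      hEX hE ?_
    intro b hb e he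
    obtain ⟨c, hc, n, hn, rfl⟩ := SideBase.mem_sup_comm (fun c hc n hn => D.comm c (hCW hc) n (hNW hn)) hb
    have h3 : n * e * n⁻¹ * e⁻¹ ∈ N := by
      have : n * e * n⁻¹ * e⁻¹ = n * (e * n⁻¹ * e⁻¹) := by group
      rw [this]
      exact mul_mem hn ((mem_normalizer_iff.1 (X_le_normalizer_comm (hEX he)) _).1 (inv_mem hn))
    have h4 : c * n * e * (c * n)⁻¹ * e⁻¹ = c * (n * e * n⁻¹ * e⁻¹) * c⁻¹ * (c * e * c⁻¹ * e⁻¹) := by
      have h5 : e * c⁻¹ = c⁻¹ * e := by
        have := hCE c⁻¹ (inv_mem hc) e he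
        rw [mul_inv_eq_one, mul_inv_eq_iff_eq_mul] at this
        exact this.symm
      have h6 : c * e * c⁻¹ * e⁻¹ = 1 := hCE c hc e he
      rw [h6, mul_one]
      calc c * n * e * (c * n)⁻¹ * e⁻¹ = c * n * e * n⁻¹ * (e⁻¹ * (e * c⁻¹)) * e⁻¹ := by group
        _ = c * n * e * n⁻¹ * (e⁻¹ * (c⁻¹ * e)) * e⁻¹ := by rw [h5]
        _ = c * n * e * n⁻¹ * e⁻¹ * c⁻¹ := by group
        _ = c * (n * e * n⁻¹ * e⁻¹) * c⁻¹ := by group
    rw [h4, hCE c hc e he, mul_one, D.comm c (hCW hc) _ (hNW h3), mul_inv_cancel_right]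
    exact h3
  have e3 : C.relIndex W = C.relIndex (C ⊔ N) * (C ⊔ N).relIndex W :=
    (relIndex_mul_relIndex C (C ⊔ N) W le_sup_left (sup_le hCW hNW)).symm
  have e4 : C.relIndex N ≤ C.relIndex (C ⊔ N) := relIndex_le_of_le_right le_sup_right (relIndex_ne _ _)
  have e5 : (centralizer (E : Set G)).relIndex W = C.relIndex W := (inf_relIndex_right ..).symm
  have e6 : (centralizer (E : Set G)).relIndex N = C.relIndex N := by
    rw [← inf_relIndex_right, ← inf_relIndex_right C N]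
    congr 1
    exact le_antisymm (fun x hx => ⟨⟨hx.1, hNW hx.2⟩, hx.2⟩) fun x hx => ⟨hx.1.1, hx.2⟩
  rw [e5, e3, e6, mul_comm]
  exact Nat.mul_le_mul e4 e1

namespace Hyp

variable (h : Hyp I B U q S P X)
include h

variable {g : G}

theorem o2_conj_U {ν t : G} (hν : ν ∈ X) (ht : t ∈ o2 X) :
    MulAut.conj t • MulAut.conj ν • U = MulAut.conj ν • U := by
  have h3 : ν⁻¹ * t * ν ∈ o2 X := by
    have := (mem_normalizer_iff.1 (le_normalizer_o2 X (inv_mem hν)) t).1 ht
    rwa [inv_inv] at this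
  have h4 := conj_eq_iff.2 ((h.SP.trans h.nP) (h.QX h3))
  rw [conj_conj]
  conv_rhs => rw [← h4, conj_conj]
  congr 2
  group

theorem U_normal {ν t : G} (hν : ν ∈ X) (ht : t ∈ o2 X) {v : G} (hv : v ∈ MulAut.conj ν • U) :
    t * v * t⁻¹ ∈ MulAut.conj ν • U := conj_mem (h.o2_conj_U hν ht) hv

theorem side [Finite G] (hq : 4 ≤ q) (h1 : V U X ≤ MulAut.conj g • X) (h2 : MulAut.conj g • V U X ≤ X) :
    SideBase.Side (MulAut.conj g • V U X) (V U X) X (o2 X) (N := X) (fun ν => MulAut.conj (ν : G) • U)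
      (fun ν i => MulAut.conj (ν : G) • B i) where
  QX := h.QX.trans h.SX
  WX := h2
  Wc := (h.pr h1 h2).comm
  Wsq := h.sq_conj
  Vc := h.W_comm
  Vsq := h.W_sq
  cm w hw v hv := by
    have := inv_mem ((h.pr h1 h2).com_mem hw hv).1
    have e : (v * w * v⁻¹ * w⁻¹)⁻¹ = w * v * w⁻¹ * v⁻¹ := by group
    rwa [e] at this
  Vn x hx v hv := conj_mem (conj_eq_iff.2 (XD.X_le_normalizer_W hx)) hv
  UW ν := Z_le_V ν.2
  Wle := V_le fun x hx => le_iSup (fun ν : X => MulAut.conj (ν : G) • U) ⟨x, hx⟩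
  FU ν i := h.fac.le' ν i
  Ule ν := by rw [h.fac.sup, conj_smul_iSup]
  Qn t ht ν v hv := h.U_normal ν.2 ht hv
  Qp t ht ν i := by
    obtain ⟨j, hj⟩ := h.fac.perm' (h.o2_conj_U ν.2 ht) i
    exact ⟨j, fun u hu => hj ▸ mem_conj_of_mem hu⟩
  TI ν i μ j u hu hu' hu1 := h.fac.ti_mem hu hu' hu1
  inj ν i j hij := by
    by_contra hne
    obtain ⟨x, hx, hx1⟩ := h.fac.bne (by omega) (ν : G) i
    apply hx1
    refine h.fac.ind' hx ?_
    have h3 : x ∈ MulAut.conj (ν : G) • B j := hij ▸ hx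
    exact (le_iSup₂_of_le (f := fun (j : I) (_ : j ≠ i) => MulAut.conj (ν : G) • B j) j (Ne.symm hne) le_rfl) h3
  O1 ν i u hu hu1 g hg v hv := conj_mem (h.fac.nor' hu hu1 hg).1 hv
  cent ν i w hw hn := by
    refine (h.pr h1 h2).cen ν.2 hw ?_
    refine Subgroup.eq_of_le_of_card_ge (fun y hy => ?_) (card_conj w _).ge
    rw [mem_conj] at hy
    have := hn _ hy
    have e : w * (w⁻¹ * y * w) * w⁻¹ = y := by group
    rwa [e] at this
  mv ν hn := by
    refine (h.pr h1 h2).cen_block ν.2 hq fun w hw => ?_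
    refine Subgroup.eq_of_le_of_card_ge (fun y hy => ?_) (card_conj w _).ge
    rw [mem_conj] at hy
    have := hn w hw _ hy
    have e : w * (w⁻¹ * y * w) * w⁻¹ = y := by group
    rwa [e] at this

theorem many [Finite G] (hq : 4 ≤ q) (h1 : V U X ≤ MulAut.conj g • X) (h2 : MulAut.conj g • V U X ≤ X) :
    FourMany.Many (MulAut.conj g • V U X) (V U X) X (o2 X) (N := X) (fun ν => MulAut.conj (ν : G) • U)
      (fun ν i => MulAut.conj (ν : G) • B i) where
  side := h.side hq h1 h2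
  ind ν := by
    intro i
    rw [disjoint_iff_inf_le]
    rintro x ⟨hx, hx'⟩
    exact (mem_bot (G := G)).2 (h.fac.ind' hx hx')
  O1' ν i u hu hu1 g hg v hv := conj_mem (h.fac.nor' hu hu1 hg).2 hv

omit h in
theorem relIndex_D (E : Subgroup G) : (E ⊓ o2 X).relIndex E = (o2 X).relIndex E := inf_relIndex_left _ _

theorem cen_le' (h2 : MulAut.conj g • V U X ≤ X) :
    (MulAut.conj g • V U X) ⊓ centralizer (V U X : Set G) ≤ o2 X := by
  rw [inf_comm]
  exact h.cen_le h.two_conj h2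

omit h in
theorem hne' (hne : ¬ V U X ≤ centralizer ((MulAut.conj g • V U X : Subgroup G) : Set G)) :
    ¬ MulAut.conj g • V U X ≤ centralizer (V U X : Set G) := fun h3 => hne (comm_symm h3)

theorem sq_le' [Finite G] (h2 : MulAut.conj g • V U X ≤ X) :
    ((MulAut.conj g • V U X) ⊓ o2 X).relIndex (MulAut.conj g • V U X) ^ 2 ≤
      (centralizer ((MulAut.conj g • V U X : Subgroup G) : Set G)).relIndex (V U X) := by
  rw [relIndex_D, pow_two]
  exact h.xd.sq_le h.no h.noncentral h2 h.sq_conj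

omit h in
theorem conj_mem_o2 {x t : G} (hx : x ∈ X) (ht : t ∈ o2 X) : x * t * x⁻¹ ∈ o2 X :=
  (mem_normalizer_iff.1 (le_normalizer_o2 X hx) t).1 ht

/-- (H4) holds for every factor if `X` is transitive on the factors. -/
theorem h4_tr (htr : ∀ i j, ∃ s ∈ X, MulAut.conj s • B i = B j) (i : I) :
    ∃ x ∈ B i, ∃ t ∈ o2 X, MulAut.conj t • B i = B i ∧ t * x ≠ x * t := by
  obtain ⟨j, x, hx, t, ht, htB, hne⟩ := h.h4
  obtain ⟨s, hs, hsB⟩ := htr j i
  refine ⟨s * x * s⁻¹, hsB ▸ mem_conj_of_mem hx, s * t * s⁻¹, conj_mem_o2 hs ht, ?_, fun h0 => hne ?_⟩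
  · rw [← hsB, conj_conj]
    conv_rhs => rw [← htB, conj_conj]
    congr 2
    group
  · have h1 := congrArg (fun y => s⁻¹ * y * s) h0
    simpa [mul_assoc] using h1

/-- (H4) holds for every factor if `X` is transitive on the factors. -/
theorem h4_all (htr : ∀ i j, ∃ s ∈ X, MulAut.conj s • B i = B j) (ν : G) (hν : ν ∈ X) (i : I) :
    ∃ y ∈ MulAut.conj ν • B i, y ≠ 1 ∧ y ∈ (⁅V U X, o2 X⁆ : Subgroup G) := by
  obtain ⟨x, hx, t, ht, htB, hne⟩ := h.h4_tr htr i
  have hc1 : x * t * x⁻¹ * t⁻¹ ∈ (⁅V U X, o2 X⁆ : Subgroup G) := by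
    have := commutator_mem_commutator (XD.U_le_W (X := X) (h.fac.le i hx)) ht
    rwa [commutatorElement_def] at this
  have hc2 : x * t * x⁻¹ * t⁻¹ ∈ B i := by
    have : x * t * x⁻¹ * t⁻¹ = x * (t * x⁻¹ * t⁻¹) := by group
    rw [this]
    exact mul_mem hx (conj_mem htB (inv_mem hx))
  have hc3 : x * t * x⁻¹ * t⁻¹ ≠ 1 := by
    intro h0
    apply hne
    rw [mul_inv_eq_one, mul_inv_eq_iff_eq_mul] at h0
    exact h0.symm
  set y := x * t * x⁻¹ * t⁻¹ with hy
  refine ⟨ν * y * ν⁻¹, mem_conj_of_mem hc2, ?_, ?_⟩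
  · intro h0
    apply hc3
    have : y = ν⁻¹ * (ν * y * ν⁻¹) * ν := by group
    rw [this, h0]; group
  · exact conj_mem (conj_eq_iff.2 (XD.X_le_normalizer_comm (U := U) hν)) hc1

/-- `|E : E ∩ Q| ≤ |[W, Q] : C(E)|` -/
theorem r_le [Finite G] (h2 : MulAut.conj g • V U X ≤ X) :
    ((MulAut.conj g • V U X) ⊓ o2 X).relIndex (MulAut.conj g • V U X) ≤
      (centralizer ((MulAut.conj g • V U X : Subgroup G) : Set G)).relIndex ⁅V U X, o2 X⁆ := by
  rw [relIndex_D]
  set W := V U X with hW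
  set E := MulAut.conj g • W with hE
  have h3 : (centralizer (E : Set G)).relIndex ⁅W, o2 X⁆ =
      (centralizer (E : Set G) ⊓ ⁅W, o2 X⁆).relIndex ⁅W, o2 X⁆ := (inf_relIndex_right _ _).symm
  rw [h3]
  refine h.no ⊥ ⁅W, o2 X⁆ _ E bot_le inf_le_right h.xd.comm_le_W (fun x _ => by
      rw [mem_normalizer_iff]; intro y; simp [mem_bot]) XD.X_le_normalizer_comm ?_ h2 h.sq_conj ?_
  · obtain ⟨c, hc, x, hx, hne⟩ := h.noncentral
    refine ⟨c, hc, x, hx, fun h4 => hne ?_⟩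
    rw [mem_bot, mul_inv_eq_one, mul_inv_eq_iff_eq_mul] at h4
    exact h4
  · intro b hb e he
    rw [mem_bot]
    have := mem_centralizer_iff.1 hb.1 e he
    rw [← this]; group

/-- **THEOREM OM (D)**: `O²(X)` centralises `C_U(O₂(X))`. -/
theorem no_center [Finite G] (hq : 4 ≤ q)
    (hc : ∃ u ∈ U ⊓ centralizer (o2 X : Set G), ∃ x ∈ oddGen X, u * x ≠ x * u) : False := by
  refine h.false_of_lt fun g h1 h2 hne => ?_
  refine (h.many hq h1 h2).mainD hq (fun ν i => ?_) (h.cen_le' h2) (hne' hne) ?_ (h.sq_le' h2)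
  · rw [card_conj, h.fac.card]
  · obtain ⟨u, hu, x, hx, hux⟩ := hc
    rw [relIndex_D]
    set W := V U X with hW
    set E := MulAut.conj g • W with hE
    have h3 : (centralizer (E : Set G)).relIndex (W ⊓ centralizer (o2 X : Set G)) =
        ((W ⊓ centralizer (o2 X : Set G)) ⊓ centralizer (E : Set G)).relIndex
          (W ⊓ centralizer (o2 X : Set G)) := (inf_relIndex_left _ _).symm
    rw [h3]
    refine h.no ⊥ (W ⊓ centralizer (o2 X : Set G)) _ E bot_le inf_le_left inf_le_left (fun x _ => by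
        rw [mem_normalizer_iff]; intro y; simp [mem_bot]) ?_ ?_ h2 h.sq_conj ?_
    · intro x hx
      rw [MinSimple.CosetGraph.mem_normalizer_iff_conj_smul, smul_inf]
      have h4 := conj_eq_iff.2 (XD.X_le_normalizer_W (U := U) hx)
      have h5 := conj_eq_iff.2 (le_normalizer_o2 X hx)
      rw [h4, ← MinSimple.CosetFam.centralizer_conj, h5]
    · refine ⟨u, ⟨XD.U_le_W hu.1, hu.2⟩, x, hx, fun h4 => hux ?_⟩
      rw [mem_bot, mul_inv_eq_one, mul_inv_eq_iff_eq_mul] at h4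
      exact h4
    · intro b hb e he
      rw [mem_bot]
      have := mem_centralizer_iff.1 hb.2 e he
      rw [← this]; group

/-- **THEOREM OM (C')**: all orbits of `O₂(X)` on the factors have at least three elements: impossible. -/
theorem no_orbit_three [Finite G] (hq : 4 ≤ q) (htr : ∀ i j, ∃ s ∈ X, MulAut.conj s • B i = B j)
    (h3 : ∀ i i₁, ∃ j, j ≠ i ∧ j ≠ i₁ ∧ ∃ t ∈ o2 X, MulAut.conj t • B i = B j) : False := by
  refine h.false_of_lt fun g h1 h2 hne => ?_
  obtain ⟨i₀, -⟩ := h.h4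
  refine (h.many hq h1 h2).mainC hq (fun ν i => ?_) (h.cen_le' h2) (hne' hne) i₀ ?_
    (fun ν i => h.h4_all htr ν ν.2 i) ?_ (h.sq_le' h2)
  · rw [card_conj, h.fac.card]
  · rintro ⟨ν, hν⟩ i i₁
    obtain ⟨j, hj, hj₁, t, ht, htB⟩ := h3 i i₁
    refine ⟨j, hj, hj₁, ν * t * ν⁻¹, conj_mem_o2 hν ht, fun u hu => ?_⟩
    simp only [mem_conj] at hu ⊢
    rw [← htB, mem_conj]
    have e : t⁻¹ * (ν⁻¹ * (ν * t * ν⁻¹ * u * (ν * t * ν⁻¹)⁻¹) * ν) * t = ν⁻¹ * u * ν := by group
    rwa [e]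
  · rw [relIndex_D]
    exact h.xd.quot_le h.no h2 h.sq_conj

/-- **THEOREM OM (C)**: at least three factors and `O₂(X)` transitive on the factors is impossible. -/
theorem no_trans [Finite G] (hq : 4 ≤ q) (h3i : ∀ i j : I, ∃ k, k ≠ i ∧ k ≠ j)
    (htr : ∀ i j, ∃ t ∈ o2 X, MulAut.conj t • B i = B j) : False := by
  refine h.no_orbit_three hq (fun i j => ?_) fun i i₁ => ?_
  · obtain ⟨t, ht, htB⟩ := htr i j
    exact ⟨t, h.SX (h.QX ht), htB⟩
  · obtain ⟨j, hj, hj₁⟩ := h3i i i₁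
    exact ⟨j, hj, hj₁, htr i j⟩

/-- `O₂(X)` normalises every factor: impossible. -/
theorem no_fix [Finite G] (hfix : ∀ i, ∀ t ∈ o2 X, MulAut.conj t • B i = B i) : False := by
  refine h.false_of_lt fun g h1 h2 hne => ?_
  set W := V U X with hW
  set E := MulAut.conj g • W with hE
  have hpr := h.pr h1 h2
  have hD : E ⊓ o2 X ≤ centralizer (W : Set G) := by
    rintro d ⟨hdE, hdQ⟩
    have key : W ≤ centralizer ({d} : Set G) := by
      refine hpr.symm.W_le fun ν hν l x hx => mem_centralizer_singleton_iff.2 ?_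
      refine (hpr.cen hν hdE ?_ x hx).symm
      have h3 : ν⁻¹ * d * ν ∈ o2 X := by
        have := conj_mem_o2 (inv_mem (show ν ∈ X from hν)) hdQ
        rwa [inv_inv] at this
      have h4 := hfix l _ h3
      rw [conj_conj]
      conv_rhs => rw [← h4, conj_conj]
      congr 2
      group
    exact mem_centralizer_iff.2 fun v hv => mem_centralizer_singleton_iff.1 (key hv)
  have h3 : (centralizer (W : Set G)).relIndex E = (o2 X).relIndex E := by
    have h4 : centralizer (W : Set G) ⊓ E = E ⊓ o2 X :=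
      le_antisymm (le_inf inf_le_right (h.cen_le h.two_conj h2)) (le_inf hD inf_le_left)
    rw [← inf_relIndex_right, h4, inf_relIndex_left]
  have h4 := h.xd.sq_le h.no h.noncentral h2 h.sq_conj
  rw [h3]
  have h5 : (centralizer (W : Set G)).relIndex E ≠ 1 := fun h6 => hne (comm_symm (relIndex_eq_one.1 h6))
  rw [h3] at h5
  have h6 : (o2 X).relIndex E ≠ 0 := relIndex_ne _ _
  refine lt_of_lt_of_le ?_ h4
  exact lt_mul_of_one_lt_left (by omega) (by omega)

end Hyp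

/-- **THEOREM OM (B)**: two four-groups, `S` induces `D₈`. -/
theorem Hyp.no_two [Finite G] {B : Bool → Subgroup G} (h : Hyp Bool B U 4 S P X) {z t : G}
    (hz : X ≤ centralizer ({z} : Set G)) (hzU : z ∈ U) (hzB : ∀ i, z ∉ B i) (htX : t ∈ X)
    (htn : MulAut.conj t • B false = B false) (htc : ∀ u ∈ B true, t * u = u * t)
    (htne : ∃ u ∈ B false, t * u ≠ u * t)
    (hNF : ∀ i, ∀ x ∈ X, ∀ u ∈ B i, u ≠ 1 → u ∈ MulAut.conj x • U → ∃ j, u ∈ MulAut.conj x • B j) : False := by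
  refine h.false_of_lt fun g h1 h2 hne => ?_
  have hcx : ∀ x ∈ X, x * z = z * x := fun x hx => (mem_centralizer_iff.1 (hz hx) z rfl).symm
  have hzc : ∀ x ∈ X, x⁻¹ * z * x = z := fun x hx => by
    rw [mul_assoc, ← hcx x hx]; group
  have key : ∀ {x μ : G} {ν : X}, x * ν = μ → (∀ u ∈ MulAut.conj (ν : G) • U, x * u * x⁻¹ ∈ MulAut.conj μ • U) ∧
      ∀ i, ∃ j, ∀ u ∈ MulAut.conj (ν : G) • B i, x * u * x⁻¹ ∈ MulAut.conj μ • B j := by
    rintro x μ ν rfl
    refine ⟨fun u hu => ?_, fun i => ⟨i, fun u hu => ?_⟩⟩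
    · rw [← conj_conj]; exact mem_conj_of_mem hu
    · rw [← conj_conj]; exact mem_conj_of_mem hu
  have T : FourTwo.Two (MulAut.conj g • V U X) (V U X) X (o2 X) (N := X) (fun ν => MulAut.conj (ν : G) • U)
      (fun ν i => MulAut.conj (ν : G) • B i) z :=
    { side := h.side le_rfl h1 h2
      card4 := fun ν i => by rw [card_conj, h.fac.card]
      zc := hcx
      zU := fun ν => by rw [mem_conj, hzc ν ν.2]; exact hzU
      zF := fun ν i => by rw [mem_conj, hzc ν ν.2]; exact hzB i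
      perm := fun x hx ν => ⟨⟨x * ν, mul_mem hx ν.2⟩, key rfl⟩
      trans := fun ν μ => ⟨μ * (ν : G)⁻¹, mul_mem μ.2 (inv_mem ν.2), key (by group)⟩
      d8 := by
        rintro ⟨ν, hν⟩
        refine ⟨ν * t * ν⁻¹, mul_mem (mul_mem hν htX) (inv_mem hν), ?_, ?_, ?_⟩
        · rintro i u hu
          simp only [mem_conj] at hu ⊢
          have e : ν⁻¹ * (ν * t * ν⁻¹ * u * (ν * t * ν⁻¹)⁻¹) * ν = t * (ν⁻¹ * u * ν) * t⁻¹ := by group
          rw [e]
          cases i
          · exact conj_mem htn hu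
          · rw [htc _ hu, mul_inv_cancel_right]; exact hu
        · intro u hu
          have h3 := htc _ (mem_conj.1 hu)
          have h4 := congrArg (fun y => ν * y * ν⁻¹) h3
          simpa [mul_assoc] using h4
        · obtain ⟨u, hu, hne⟩ := htne
          refine ⟨ν * u * ν⁻¹, mem_conj_of_mem hu, fun h3 => hne ?_⟩
          have h4 := congrArg (fun y => ν⁻¹ * y * ν) h3
          simpa [mul_assoc] using h4
      NF := by
        rintro ⟨ν, hν⟩ i ⟨μ, hμ⟩ u hu hu1 huμ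
        obtain ⟨j, hj⟩ := hNF i (ν⁻¹ * μ) (mul_mem (inv_mem hν) hμ) (ν⁻¹ * u * ν) (mem_conj.1 hu) (by
          intro h0
          apply hu1
          have : u = ν * (ν⁻¹ * u * ν) * ν⁻¹ := by group
          rw [this, h0]; group) (by
          rw [mem_conj] at huμ ⊢
          have e : (ν⁻¹ * μ)⁻¹ * (ν⁻¹ * u * ν) * (ν⁻¹ * μ) = μ⁻¹ * u * μ := by group
          rwa [e])
        refine ⟨j, ?_⟩
        rw [mem_conj] at hj ⊢
        have e : (ν⁻¹ * μ)⁻¹ * (ν⁻¹ * u * ν) * (ν⁻¹ * μ) = μ⁻¹ * u * μ := by group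
        rwa [e] at hj }
  exact T.main (h.cen_le' h2) (Hyp.hne' hne) (h.r_le h2) (h.sq_le' h2)

end Cfsg.Agent.Omega.OmThm
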