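import Cfsg.Agent.Omega.OmThm.Two
import Cfsg.Agent.MinSimple.CosetFam

/-!
# THEOREM OM, section 0: the critical pair

`U` is an elementary abelian normal 2-subgroup of `P`, `U ≤ O₂(X)`, `S ≤ P ∩ X`, `C_S(U) ≤ O₂(P) ≤ S`,
`W = ⟨U^X⟩`, `C_S(W) ≤ O₂(X) ≤ S`, `⟨P, X⟩` nonlocal, two conjugates of `U` which are contained in the `P` of the other
commute.  Then there is `g` with `W ≤ X^g`, `W^g ≤ X` and `[W, W^g] ≠ 1`.
-/

set_option autoImplicit false

namespace Cfsg.Agent.Omega.OmThm

open Subgroup MulAction Cfsg.Agent.ZN Cfsg.Agent.MinSimple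
open Cfsg.Agent.MinSimple.CosetGraph Cfsg.Agent.MinSimple.CosetFam
open Cfsg.Agent.Omega.NoFF.Basic (V Z_le_V V_le conj_V_le conj_V_mul conj_conj conj_Z_le)
open scoped Pointwise

/-- A family which is not contained in another one, 2-groups only. -/
theorem exists_not_le' {G Ve : Type*} [Group G] [MulAction G Ve] {Γ : RGraph G Ve} {v w : Ve} {X Y : Ve → Subgroup G}
    (hX : Eqv X) (hY : Eqv Y) (h : Γ.A v w)
    (hf : ∀ N : Subgroup G, N ≤ Y v → N ≤ Y w → stabilizer G v ≤ normalizer (N : Set G) →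
      stabilizer G w ≤ normalizer (N : Set G) → N = ⊥) (hne : X v ≠ ⊥) : ∃ n u, Γ.W n v u ∧ ¬ X v ≤ Y u := by
  by_contra hcon
  push Not at hcon
  apply hne
  set K : Subgroup G := stabilizer G v ⊔ stabilizer G w with hK
  set N : Subgroup G := ⨆ x : K, X ((x : G) • v) with hN
  have hle : ∀ u : Ve, (∃ n, Γ.W n v u) → N ≤ Y u := by
    rintro u ⟨n, hn⟩
    refine iSup_le fun x => ?_
    have h1 : ∃ n, Γ.W n v ((x : G)⁻¹ • u) := by
      rw [RGraph.exists_walk_smul_iff h x.2, smul_inv_smul]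
      exact ⟨n, hn⟩
    obtain ⟨k, hk⟩ := h1
    have := hcon k _ hk
    rw [← hX.le_iff hY (g := (x : G)), smul_inv_smul] at this
    exact this
  have hnorm : K ≤ normalizer (N : Set G) := by
    intro y hy
    rw [mem_normalizer_iff_conj_smul]
    have hy1 : ∀ y ∈ K, MulAut.conj y • N ≤ N := by
      intro y hy
      rw [hN, Eqv.conj_smul_iSup]
      refine iSup_le fun x => ?_
      refine le_trans (le_of_eq ?_) (le_iSup (fun x : K => X ((x : G) • v)) ⟨y * x, mul_mem hy x.2⟩)
      show _ = X ((y * (x : G)) • v)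
      rw [mul_smul, hX y]
    refine le_antisymm (hy1 y hy) ?_
    rw [subset_pointwise_smul_iff, ← map_inv]
    exact hy1 _ (inv_mem hy)
  have hbot := hf N (hle v ⟨0, Wlk.nil v⟩) (hle w ⟨1, Wlk.one h⟩) (le_sup_left.trans hnorm) (le_sup_right.trans hnorm)
  rw [eq_bot_iff, ← hbot]
  refine le_trans (le_of_eq ?_) (le_iSup (fun x : K => X ((x : G) • v)) ⟨1, one_mem _⟩)
  show _ = X ((1 : G) • v)
  rw [one_smul]

variable {G : Type*} [Group G]

/-- The data of the critical pair. -/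
structure CD (S P X U : Subgroup G) : Prop where
  SP : S ≤ P
  SX : S ≤ X
  nP : P ≤ normalizer (U : Set G)
  ab : U ≤ centralizer (U : Set G)
  UX : U ≤ o2 X
  QP : o2 P ≤ S
  QX : o2 X ≤ S
  ne : U ≠ ⊥
  core : S ⊓ centralizer (U : Set G) ≤ o2 P
  coreX : S ⊓ centralizer (V U X : Set G) ≤ o2 X
  noff : ∀ g : G, U ≤ MulAut.conj g • P → MulAut.conj g • U ≤ P →
    U ≤ centralizer ((MulAut.conj g • U : Subgroup G) : Set G)
  nonloc : ∀ R : Subgroup G, IsPGroup 2 R → P ≤ normalizer (R : Set G) → X ≤ normalizer (R : Set G) → R = ⊥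

/-- `W = ⟨U^X⟩` is abelian. -/
theorem CD.W_ab {S P X U : Subgroup G} (D : CD S P X U) : V U X ≤ centralizer (V U X : Set G) := by
  have hQn : ∀ x ∈ X, MulAut.conj x • o2 X = o2 X := fun x hx =>
    mem_normalizer_iff_conj_smul.1 (VModule.le_normalizer_o2 X hx)
  have hUx : ∀ x ∈ X, MulAut.conj x • U ≤ o2 X := fun x hx => by
    rw [← hQn x hx]; exact pointwise_smul_le_pointwise_smul_iff.2 D.UX
  have key : ∀ x ∈ X, ∀ y ∈ X, MulAut.conj x • U ≤ centralizer ((MulAut.conj y • U : Subgroup G) : Set G) := by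
    intro x hx y hy
    have hxy : x⁻¹ * y ∈ X := mul_mem (inv_mem hx) hy
    have h1 := D.noff (x⁻¹ * y) ?_ ?_
    · have h2 := NoFF.Basic.conj_le_centralizer (g := x) h1
      rwa [conj_conj, mul_inv_cancel_left] at h2
    · refine le_trans ?_ (pointwise_smul_le_pointwise_smul_iff.2 (D.QX.trans D.SP))
      rw [hQn _ hxy]
      exact D.UX
    · exact (hUx _ hxy).trans (D.QX.trans D.SP)
  exact V_le fun x hx => NoFF.Basic.comm_symm (V_le fun y hy => NoFF.Basic.comm_symm (key x hx y hy))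

/-- **The critical pair.** -/
theorem exists_pair {S P X U : Subgroup G} (D : CD S P X U) :
    ∃ g : G, V U X ≤ MulAut.conj g • X ∧ MulAut.conj g • V U X ≤ X ∧
      ¬ V U X ≤ centralizer ((MulAut.conj g • V U X : Subgroup G) : Set G) := by
  set PP : Bool → Subgroup G := fun i => bif i then X else P with hPP
  set Γ := coset PP with hΓ
  set XF : Bool → Subgroup G := fun i => bif i then ⊥ else U with hXF
  set WF : Bool → Subgroup G := fun i => bif i then V U X else ⊥ with hWF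
  set QF : Bool → Subgroup G := fun i => o2 (PP i) with hQF
  have hWn' : X ≤ normalizer (V U X : Set G) := XD.X_le_normalizer_W
  have hXn : ∀ i, PP i ≤ normalizer (XF i : Set G) := by
    intro i
    cases i
    · exact D.nP
    · intro x _
      rw [mem_normalizer_iff_conj_smul]
      exact smul_bot _
  have hWn : ∀ i, PP i ≤ normalizer (WF i : Set G) := by
    intro i
    cases i
    · intro x _
      rw [mem_normalizer_iff_conj_smul]
      exact smul_bot _
    · exact hWn'
  have hQn : ∀ i, PP i ≤ normalizer (QF i : Set G) := fun i => VModule.le_normalizer_o2 _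
  set Xf := fam PP XF with hXf
  set Wf := fam PP WF with hWf
  set Qf := fam PP QF with hQf
  have hXe : Eqv Xf := fam_eqv PP hXn
  have hWe : Eqv Wf := fam_eqv PP hWn
  have hQe : Eqv Qf := fam_eqv PP hQn
  have hse : Eqv (fun v : CV PP => stabilizer G v) := Eqv.stabilizer
  have hX1 : ∀ i, Xf (mk PP i 1) = XF i := fam_mk_one PP hXn
  have hW1 : ∀ i, Wf (mk PP i 1) = WF i := fam_mk_one PP hWn
  have hQ1 : ∀ i, Qf (mk PP i 1) = QF i := fam_mk_one PP hQn
  have hXm : ∀ i g, Xf (mk PP i g) = MulAut.conj g • XF i := fam_mk PP hXn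
  have hWm : ∀ i g, Wf (mk PP i g) = MulAut.conj g • WF i := fam_mk PP hWn
  have hUP : U ≤ o2 P := (le_inf (D.UX.trans D.QX) D.ab).trans D.core
  -- base facts
  have hXQ : ∀ v, Xf v ≤ Qf v := by
    refine forall_vertex PP (p := fun v => Xf v ≤ Qf v) (fun g v h1 => (hXe.le_iff hQe).2 h1) fun i => ?_
    rw [hX1, hQ1]
    cases i
    · exact hUP
    · exact bot_le
  have hXQ' : ∀ {v w}, Γ.A v w → Xf v ≤ Qf w := by
    intro v w hvw
    refine forall_edge PP (p := fun v w => Xf v ≤ Qf w) (fun g v w h1 => (hXe.le_iff hQe).2 h1) (fun i => ?_) hvw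
    rw [hX1, hQ1]
    cases i
    · exact D.UX
    · exact bot_le
  have hQs : ∀ {v w}, Γ.A v w → Qf v ≤ stabilizer G w := by
    intro v w hvw
    refine forall_edge PP (p := fun v w => Qf v ≤ stabilizer G w) (fun g v w h1 => (hQe.le_iff hse).2 h1)
      (fun i => ?_) hvw
    rw [hQ1, mk_one_stab]
    cases i
    · exact D.QP.trans D.SX
    · exact D.QX.trans D.SP
  have hcore : ∀ {v w}, Γ.A v w → Γ.typ v = false → Qf w ⊓ centralizer (Xf v : Set G) ≤ Qf v := by
    intro v w hvw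
    refine forall_edge PP (p := fun v w => Γ.typ v = false → Qf w ⊓ centralizer (Xf v : Set G) ≤ Qf v)
      (fun g v w h1 h2 => ?_) (fun i h2 => ?_) hvw
    · rw [Γ.typ_smul] at h2
      have h3 := h1 h2
      rw [hQe, hXe, hQe, centralizer_conj, ← smul_inf, pointwise_smul_le_pointwise_smul_iff]
      exact h3
    · have h3 : i = false := h2
      subst h3
      rw [hQ1, hX1, hQ1]
      exact (inf_le_inf_right _ D.QX).trans D.core
  have hcoreX : ∀ {v w}, Γ.A v w → Γ.typ v = true → Qf w ⊓ centralizer (Wf v : Set G) ≤ Qf v := by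
    intro v w hvw
    refine forall_edge PP (p := fun v w => Γ.typ v = true → Qf w ⊓ centralizer (Wf v : Set G) ≤ Qf v)
      (fun g v w h1 h2 => ?_) (fun i h2 => ?_) hvw
    · rw [Γ.typ_smul] at h2
      have h3 := h1 h2
      rw [hQe, hWe, hQe, centralizer_conj, ← smul_inf, pointwise_smul_le_pointwise_smul_iff]
      exact h3
    · have h3 : i = true := h2
      subst h3
      rw [hQ1, hW1, hQ1]
      exact (inf_le_inf_right _ D.QP).trans D.coreX
  -- `W_d` is generated by the `U_λ`, `λ ~ d`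
  have hWle : ∀ (d : CV PP), Γ.typ d = true → ∀ A : Subgroup G, (∀ l, Γ.A d l → Xf l ≤ A) → Wf d ≤ A := by
    intro d hd A hA
    obtain ⟨g, hg⟩ := exists_mk PP d
    have hd' : d.1 = true := hd
    rw [hd'] at hg
    rw [hg, hWm]
    refine conj_V_le fun p hp => ?_
    have h1 := hA (mk PP false (g * p)) (by
      rw [hg]
      refine (coset_adj_iff PP).2 ⟨p, hp, rfl⟩)
    rwa [hXm] at h1
  have hXW : ∀ {d l}, Γ.A d l → Γ.typ d = true → Xf l ≤ Wf d := by
    intro d l hdl
    refine forall_edge PP (p := fun d l => Γ.typ d = true → Xf l ≤ Wf d)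
      (fun g v w h1 h2 => ?_) (fun i h2 => ?_) hdl
    · rw [Γ.typ_smul] at h2
      exact (hXe.le_iff hWe).2 (h1 h2)
    · have h3 : i = true := h2
      subst h3
      rw [hX1, hW1]
      exact XD.U_le_W
  -- mutual conjugates commute
  have hnoff : ∀ {v w : CV PP}, Γ.typ v = false → Γ.typ w = false → Xf v ≤ stabilizer G w → Xf w ≤ stabilizer G v →
      Xf v ≤ centralizer (Xf w : Set G) := by
    intro v w hv hw h1 h2
    obtain ⟨g, hg⟩ := exists_mk PP v
    obtain ⟨k, hk⟩ := exists_mk PP w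
    have hv' : v.1 = false := hv
    have hw' : w.1 = false := hw
    rw [hv'] at hg
    rw [hw'] at hk
    rw [hg, hk, hXm, mk_stab] at h1 h2
    rw [hg, hk, hXm, hXm]
    change MulAut.conj g • U ≤ centralizer ((MulAut.conj k • U : Subgroup G) : Set G)
    have h3 := D.noff (g⁻¹ * k) (by
      have := NoFF.Basic.conj_le h1 g⁻¹
      rwa [inv_mul_cancel, map_one, one_smul] at this) (by
      have := NoFF.Basic.conj_le h2 g⁻¹
      rwa [inv_mul_cancel, map_one, one_smul] at this)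
    have h4 := NoFF.Basic.conj_le_centralizer (g := g) h3
    rwa [conj_conj, mul_inv_cancel_left] at h4
  -- the critical pair
  have hbase : Γ.A (mk PP false 1) (mk PP true 1) := coset_adj PP false 1
  obtain ⟨n, u, hn, hnu⟩ := exists_not_le' (Γ := Γ) hXe hQe hbase (by
    intro N h1 _ h3 h4
    rw [hQ1] at h1
    rw [mk_one_stab] at h3 h4
    exact D.nonloc N ((VModule.o2_isPGroup P).to_le h1) h3 h4) (by rw [hX1]; exact D.ne)
  obtain ⟨b, -, ⟨v, w, hvw, hne⟩, hmin⟩ := exists_min_walk (R := fun v w => Xf v ≤ Qf w) hn hnu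
  have hvt : Γ.typ v = false := by
    by_contra hcon
    apply hne
    obtain ⟨g, hg⟩ := exists_mk PP v
    have hv' : v.1 = true := by
      have : v.1 ≠ false := hcon
      revert this; cases v.1 <;> simp
    rw [hv'] at hg
    rw [hg, hXm]
    change MulAut.conj g • (⊥ : Subgroup G) ≤ _
    rw [smul_bot]
    exact bot_le
  have hb2 : 2 ≤ b := by
    by_contra hcon
    have h3 : b = 0 ∨ b = 1 := by omega
    rcases h3 with rfl | rfl
    · rw [Wlk.zero_iff.1 hvw] at hne
      exact hne (hXQ w)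
    · exact hne (hXQ' (Wlk.one_iff.1 hvw))
  obtain ⟨b, rfl⟩ : ∃ b', b = b' + 2 := ⟨b - 2, by omega⟩
  obtain ⟨d, hvd, hdw⟩ := Wlk.succ_iff.1 hvw
  obtain ⟨p, hdp, hpw⟩ := Wlk.succ_iff'.1 hdw
  obtain ⟨c, hdc, hcw⟩ := Wlk.succ_iff.1 hdw
  have hdt : Γ.typ d = true := by rw [Γ.typ_adj hvd, hvt]; rfl
  have h1 : Xf v ≤ Qf p := hmin (b + 1) (by omega) v p (Wlk.cons hvd hdp)
  rcases hwt : Γ.typ w with _ | _
  · -- `w` of type `P`
    exfalso
    apply hne
    have h2 : Xf w ≤ Qf d := hmin (b + 1) (by omega) w d (RGraph.W.symm hdw)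
    have h3 := hnoff hvt hwt (h1.trans (hQs hpw)) (h2.trans (hQs (Γ.symm hvd)))
    exact (le_inf h1 h3).trans (hcore (Γ.symm hpw) hwt)
  · have h2 : Wf d ≤ Qf p := hWle d hdt _ fun l hl =>
      hmin (b + 1) (by omega) l p (Wlk.cons (Γ.symm hl) hdp)
    have h3 : Wf w ≤ Qf c := hWle w hwt _ fun l hl =>
      hmin (b + 1) (by omega) l c (Wlk.cons (Γ.symm hl) (RGraph.W.symm hcw))
    have h4 : Wf d ≤ stabilizer G w := h2.trans (hQs hpw)
    have h5 : Wf w ≤ stabilizer G d := h3.trans (hQs (Γ.symm hdc))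
    have h6 : ¬ Wf d ≤ centralizer (Wf w : Set G) := by
      intro h6
      exact hne ((le_inf h1 ((hXW (Γ.symm hvd) hdt).trans h6)).trans (hcoreX (Γ.symm hpw) hwt))
    obtain ⟨g, hg⟩ := exists_mk PP d
    obtain ⟨k, hk⟩ := exists_mk PP w
    have hd' : d.1 = true := hdt
    have hw' : w.1 = true := hwt
    rw [hd'] at hg
    rw [hw'] at hk
    rw [hg, hk, hWm, mk_stab] at h4 h5
    rw [hg, hk, hWm, hWm] at h6
    refine ⟨g⁻¹ * k, ?_, ?_, fun h7 => h6 ?_⟩
    · have := NoFF.Basic.conj_le h4 g⁻¹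
      rwa [inv_mul_cancel, map_one, one_smul] at this
    · have := NoFF.Basic.conj_le h5 g⁻¹
      rwa [inv_mul_cancel, map_one, one_smul] at this
    · have h8 := NoFF.Basic.conj_le_centralizer (g := g) h7
      rwa [conj_conj, mul_inv_cancel_left] at h8

end Cfsg.Agent.Omega.OmThm
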