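import Cfsg.Agent.Omega.NoFF.Main
import Mathlib.GroupTheory.Index

/-!
# THEOREM OM (bb OMEGA #15139, blueprints/OMEGA-NO3S-Om-helper12.md), sections 1 and 2

`U` is an elementary abelian 2-group, the direct product of the groups `B i` of order `q`.

* `Fac I B U q` : (TI) conjugates of the `B i` are equal or meet trivially; (O1) the centraliser of `1 ≠ u ∈ B i`
  normalises `B i` and `U`; `N_G(U)` permutes the `B i`;
* `Pr` : `W = ⟨U^g : g ∈ Γ⟩` and `W' = ⟨U^g : g ∈ Γ'⟩` are abelian and normalise each other (symmetric: `Pr.symm`);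
* `Pr.cen` : (3.1) an element of `W` which normalises a factor of `W'` centralises it;
* `Pr.apart` : (3.2) if two factors do not commute, then no `1 ≠ u` of the first normalises the second, or commutes with
  an element `≠ 1` of the second;
* `Pr.cen_block` : if `W` normalises a block `U^ν` of `W'`, it centralises it (`4 ≤ q`);
* `Pr.two` : if `D ≤ W` normalises the block, then `D`-orbits on the factors have length `≤ 2`;
* `Pr.chain` : `|D : C_D(W')| = 2^m`, `q^m ≤ |W' : C_{W'}(D)|`.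
-/

set_option autoImplicit false

namespace Cfsg.Agent.Omega.OmThm

open Subgroup Cfsg.Agent.Omega.NoFF.Basic
open scoped Pointwise

variable {G : Type*} [Group G] {I : Type*} {B : I → Subgroup G} {U : Subgroup G} {q : ℕ}

/-! ### Conjugation -/

theorem conj_eq_iff {g : G} {A : Subgroup G} : MulAut.conj g • A = A ↔ g ∈ normalizer (A : Set G) := by
  constructor
  · intro h
    rw [mem_normalizer_iff]
    intro x
    conv_rhs => rw [← h, mem_conj]
    simp [mul_assoc]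
  · exact fun h => NoFF.Main.conj_eq_of_mem_normalizer h

theorem mem_conj_of_mem {g x : G} {A : Subgroup G} (h : x ∈ A) : g * x * g⁻¹ ∈ MulAut.conj g • A := by
  rw [mem_conj]; simpa [mul_assoc] using h

theorem conj_mem {g x : G} {A : Subgroup G} (hg : MulAut.conj g • A = A) (h : x ∈ A) : g * x * g⁻¹ ∈ A := by
  have := mem_conj_of_mem (g := g) h
  rwa [hg] at this

theorem conj_inv_eq {g : G} {A : Subgroup G} (hg : MulAut.conj g • A = A) : MulAut.conj g⁻¹ • A = A := by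
  rw [conj_eq_iff] at hg ⊢; exact inv_mem hg

theorem conj_mul_eq {g h : G} {A : Subgroup G} (hg : MulAut.conj g • A = A) (hh : MulAut.conj h • A = A) :
    MulAut.conj (g * h) • A = A := by
  rw [conj_eq_iff] at *; exact mul_mem hg hh

theorem conj_mem' {g x : G} {A : Subgroup G} (hg : MulAut.conj g • A = A) (h : x ∈ A) : g⁻¹ * x * g ∈ A := by
  have := conj_mem (conj_inv_eq hg) h
  rwa [inv_inv] at this

theorem conj_ne_bot {g : G} {A : Subgroup G} (h : A ≠ ⊥) : MulAut.conj g • A ≠ ⊥ := by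
  intro h0
  apply h
  rw [eq_bot_iff]
  intro x hx
  have h1 := mem_conj_of_mem (g := g) hx
  rw [h0, mem_bot] at h1
  rw [mem_bot]
  simpa using h1

theorem card_conj (g : G) (A : Subgroup G) : Nat.card ↥(MulAut.conj g • A) = Nat.card A :=
  (Nat.card_congr (Subgroup.equivSMul (MulAut.conj g) A).toEquiv).symm

theorem conj_smul_iSup {ι : Sort*} (g : G) (F : ι → Subgroup G) :
    MulAut.conj g • (⨆ i, F i) = ⨆ i, MulAut.conj g • F i :=
  Subgroup.map_iSup _ F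

theorem conj_smul_inf (g : G) (A C : Subgroup G) :
    MulAut.conj g • (A ⊓ C) = MulAut.conj g • A ⊓ MulAut.conj g • C := smul_inf _ _ _

/-! ### Factors -/

variable (I B U q) in
/-- `U` is the direct product of the elementary abelian groups `B i` of order `q`, with (TI), (O1). -/
structure Fac : Prop where
  sup : U = ⨆ i, B i
  ind : ∀ i, B i ⊓ (⨆ j, ⨆ (_ : j ≠ i), B j) = ⊥
  comm : ∀ u ∈ U, ∀ v ∈ U, u * v = v * u
  sq : ∀ u ∈ U, u * u = 1
  card : ∀ i, Nat.card (B i) = q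
  ti : ∀ i j (g : G), B i ⊓ MulAut.conj g • B j ≠ ⊥ → B i = MulAut.conj g • B j
  nor : ∀ i, ∀ u ∈ B i, u ≠ 1 → ∀ g : G, g * u = u * g → MulAut.conj g • B i = B i ∧ MulAut.conj g • U = U
  perm : ∀ g : G, MulAut.conj g • U = U → ∀ i, ∃ j, MulAut.conj g • B i = B j

namespace Fac

variable (D : Fac I B U q)
include D

theorem le (i : I) : B i ≤ U := by rw [D.sup]; exact le_iSup B i

theorem le' (ν : G) (i : I) : MulAut.conj ν • B i ≤ MulAut.conj ν • U := conj_le_iff.2 (D.le i)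

theorem nor' {ν x g : G} {l : I} (hx : x ∈ MulAut.conj ν • B l) (hx1 : x ≠ 1) (hg : g * x = x * g) :
    MulAut.conj g • MulAut.conj ν • B l = MulAut.conj ν • B l ∧
      MulAut.conj g • MulAut.conj ν • U = MulAut.conj ν • U := by
  have h1 := D.nor l (ν⁻¹ * x * ν) (mem_conj.1 hx) (by
    intro h
    apply hx1
    have : x = ν * (ν⁻¹ * x * ν) * ν⁻¹ := by group
    rw [this, h]; group) (ν⁻¹ * g * ν) (by
    have e1 : ν⁻¹ * g * ν * (ν⁻¹ * x * ν) = ν⁻¹ * (g * x) * ν := by group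
    have e2 : ν⁻¹ * x * ν * (ν⁻¹ * g * ν) = ν⁻¹ * (x * g) * ν := by group
    rw [e1, e2, hg])
  have key : ∀ A : Subgroup G, MulAut.conj (ν⁻¹ * g * ν) • A = A →
      MulAut.conj g • MulAut.conj ν • A = MulAut.conj ν • A := by
    intro A hA
    rw [conj_conj]
    conv_rhs => rw [← hA, conj_conj]
    congr 2
    group
  exact ⟨key _ h1.1, key _ h1.2⟩

theorem ti' {ν μ : G} {i j : I} (h : MulAut.conj ν • B i ⊓ MulAut.conj μ • B j ≠ ⊥) :
    MulAut.conj ν • B i = MulAut.conj μ • B j := by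
  have h1 : B i ⊓ MulAut.conj (ν⁻¹ * μ) • B j ≠ ⊥ := by
    intro h0
    apply h
    have := congrArg (fun A => MulAut.conj ν • A) h0
    simp only [conj_smul_inf, conj_conj, mul_inv_cancel_left, smul_bot] at this
    exact this
  have h2 := D.ti i j _ h1
  conv_lhs => rw [h2]
  rw [conj_conj, mul_inv_cancel_left]

/-- (TI) for elements -/
theorem ti_mem {ν μ x : G} {i j : I} (h1 : x ∈ MulAut.conj ν • B i) (h2 : x ∈ MulAut.conj μ • B j) (hx : x ≠ 1) :
    MulAut.conj ν • B i = MulAut.conj μ • B j :=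
  D.ti' fun h0 => hx ((mem_bot (G := G)).1 (h0 ▸ ⟨h1, h2⟩))

theorem comm' {ν x y : G} (hx : x ∈ MulAut.conj ν • U) (hy : y ∈ MulAut.conj ν • U) : x * y = y * x := by
  have h := D.comm _ (mem_conj.1 hx) _ (mem_conj.1 hy)
  have h2 := congrArg (fun t => ν * t * ν⁻¹) h
  simpa [mul_assoc] using h2

theorem perm' {ν g : G} (h : MulAut.conj g • MulAut.conj ν • U = MulAut.conj ν • U) (l : I) :
    ∃ m, MulAut.conj g • MulAut.conj ν • B l = MulAut.conj ν • B m := by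
  obtain ⟨m, hm⟩ := D.perm (ν⁻¹ * g * ν) (by
    have := congrArg (fun A => MulAut.conj ν⁻¹ • A) h
    simp only [conj_conj] at this
    rw [mul_assoc, this, inv_mul_cancel, map_one, one_smul]) l
  refine ⟨m, ?_⟩
  rw [← hm, conj_conj, conj_conj]
  congr 2
  group

/-- independence: an element of a factor which is a product of elements of other factors -/
theorem ind' {ν x : G} {l : I} (hx : x ∈ MulAut.conj ν • B l)
    (h : x ∈ ⨆ j, ⨆ (_ : j ≠ l), MulAut.conj ν • B j) : x = 1 := by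
  have h1 : MulAut.conj ν • (⨆ j, ⨆ (_ : j ≠ l), B j) = ⨆ j, ⨆ (_ : j ≠ l), MulAut.conj ν • B j := by
    rw [conj_smul_iSup]
    congr 1
    funext j
    rw [conj_smul_iSup]
  rw [← h1, mem_conj] at h
  have h2 : ν⁻¹ * x * ν ∈ B l ⊓ (⨆ j, ⨆ (_ : j ≠ l), B j) := ⟨mem_conj.1 hx, h⟩
  rw [D.ind l, mem_bot] at h2
  have : x = ν * (ν⁻¹ * x * ν) * ν⁻¹ := by group
  rw [this, h2]; group

/-- `x y = z t` with `1 ≠ x` in the factor `l` and `y`, `z`, `t` in the factors `m₁`, `m₂`, `m₃`. -/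
theorem four {ν x y z t : G} {l m₁ m₂ m₃ : I} (hx : x ∈ MulAut.conj ν • B l) (hx1 : x ≠ 1)
    (hy : y ∈ MulAut.conj ν • B m₁) (hz : z ∈ MulAut.conj ν • B m₂) (ht : t ∈ MulAut.conj ν • B m₃)
    (h : x * y = z * t) : l = m₁ ∨ l = m₂ ∨ l = m₃ := by
  by_contra hcon
  push Not at hcon
  obtain ⟨h1, h2, h3⟩ := hcon
  apply hx1
  refine D.ind' hx ?_
  have e : x = z * t * y⁻¹ := by rw [← h]; group
  rw [e]
  have key : ∀ {m w}, l ≠ m → w ∈ MulAut.conj ν • B m → w ∈ ⨆ j, ⨆ (_ : j ≠ l), MulAut.conj ν • B j := by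
    intro m w hm hw
    exact (le_iSup₂_of_le (f := fun (j : I) (_ : j ≠ l) => MulAut.conj ν • B j) m hm.symm le_rfl) hw
  exact mul_mem (mul_mem (key h2 hz) (key h3 ht)) (inv_mem (key h1 hy))

/-- the same with factors given as subgroups -/
theorem four' {ν x y z t g₁ g₂ g₃ : G} {l : I} (hx : x ∈ MulAut.conj ν • B l) (hx1 : x ≠ 1)
    (h1 : MulAut.conj g₁ • MulAut.conj ν • U = MulAut.conj ν • U)
    (h2 : MulAut.conj g₂ • MulAut.conj ν • U = MulAut.conj ν • U)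
    (h3 : MulAut.conj g₃ • MulAut.conj ν • U = MulAut.conj ν • U)
    (hy : y ∈ MulAut.conj g₁ • MulAut.conj ν • B l) (hz : z ∈ MulAut.conj g₂ • MulAut.conj ν • B l)
    (ht : t ∈ MulAut.conj g₃ • MulAut.conj ν • B l) (h : x * y = z * t) :
    MulAut.conj g₁ • MulAut.conj ν • B l = MulAut.conj ν • B l ∨
      MulAut.conj g₂ • MulAut.conj ν • B l = MulAut.conj ν • B l ∨
        MulAut.conj g₃ • MulAut.conj ν • B l = MulAut.conj ν • B l := by
  obtain ⟨m₁, e1⟩ := D.perm' h1 l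
  obtain ⟨m₂, e2⟩ := D.perm' h2 l
  obtain ⟨m₃, e3⟩ := D.perm' h3 l
  rw [e1] at hy
  rw [e2] at hz
  rw [e3] at ht
  rcases D.four hx hx1 hy hz ht h with h4 | h4 | h4
  · left; rw [e1, h4]
  · right; left; rw [e2, h4]
  · right; right; rw [e3, h4]

theorem bne (hq : 2 ≤ q) (ν : G) (l : I) : ∃ x ∈ MulAut.conj ν • B l, x ≠ 1 := by
  have h : B l ≠ ⊥ := by
    intro h0
    have := D.card l
    rw [h0, card_bot] at this
    omega
  obtain ⟨x, hx⟩ := Subgroup.ne_bot_iff_exists_ne_one.1 (conj_ne_bot (g := ν) h)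
  exact ⟨x, x.2, fun h => hx (Subtype.ext h)⟩

end Fac

/-! ### Pairs -/

variable (I B U q) in
/-- `W = ⟨U^g : g ∈ Γ⟩`, `W' = ⟨U^g : g ∈ Γ'⟩` are abelian and normalise each other. -/
structure Pr (W W' : Subgroup G) (Γ Γ' : Set G) : Prop where
  fac : Fac I B U q
  gen : W ≤ ⨆ g : Γ, MulAut.conj (g : G) • U
  gen' : W' ≤ ⨆ g : Γ', MulAut.conj (g : G) • U
  le : ∀ g ∈ Γ, MulAut.conj g • U ≤ W
  le' : ∀ g ∈ Γ', MulAut.conj g • U ≤ W'
  comm : ∀ x ∈ W, ∀ y ∈ W, x * y = y * x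
  comm' : ∀ x ∈ W', ∀ y ∈ W', x * y = y * x
  nor : ∀ y ∈ W', MulAut.conj y • W = W
  nor' : ∀ x ∈ W, MulAut.conj x • W' = W'

namespace Pr

variable {W W' : Subgroup G} {Γ Γ' : Set G}

theorem symm (h : Pr I B U q W W' Γ Γ') : Pr I B U q W' W Γ' Γ :=
  ⟨h.fac, h.gen', h.gen, h.le', h.le, h.comm', h.comm, h.nor', h.nor⟩

variable (h : Pr I B U q W W' Γ Γ')
include h

theorem W_le {A : Subgroup G} (hA : ∀ μ ∈ Γ, ∀ j, MulAut.conj μ • B j ≤ A) : W ≤ A := by
  refine h.gen.trans (iSup_le fun μ => ?_)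
  rw [h.fac.sup, conj_smul_iSup]
  exact iSup_le fun j => hA μ μ.2 j

/-- an element which does not commute with all of `W` does not commute with some element of a factor -/
theorem exists_ne {x w : G} (hw : w ∈ W) (hxw : w * x ≠ x * w) :
    ∃ μ ∈ Γ, ∃ j, ∃ u ∈ MulAut.conj μ • B j, u * x ≠ x * u := by
  by_contra hcon
  push Not at hcon
  apply hxw
  have h1 : W ≤ centralizer ({x} : Set G) :=
    h.W_le fun μ hμ j u hu => mem_centralizer_singleton_iff.2 (hcon μ hμ j u hu)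
  exact mem_centralizer_singleton_iff.1 (h1 hw)

/-- `x w x w⁻¹ ∈ W ∩ W'` up to inverses: the commutator of `w ∈ W` and `x ∈ W'`. -/
theorem com_mem {x w : G} (hw : w ∈ W) (hx : x ∈ W') : x * w * x⁻¹ * w⁻¹ ∈ W ∧ x * w * x⁻¹ * w⁻¹ ∈ W' := by
  refine ⟨mul_mem (conj_mem (h.nor x hx) hw) (inv_mem hw), ?_⟩
  have : x * w * x⁻¹ * w⁻¹ = x * (w * x⁻¹ * w⁻¹) := by group
  rw [this]
  exact mul_mem hx (conj_mem (h.nor' w hw) (inv_mem hx))

/-- **(3.1)** An element of `W` which normalises a factor of `W'` centralises it. -/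
theorem cen [Finite G] {ν : G} (hν : ν ∈ Γ') {l : I} {w : G} (hw : w ∈ W)
    (hn : MulAut.conj w • MulAut.conj ν • B l = MulAut.conj ν • B l) :
    ∀ x ∈ MulAut.conj ν • B l, w * x = x * w := by
  by_contra hcon
  push Not at hcon
  obtain ⟨v, hv, hvw⟩ := hcon
  set F : Subgroup G := MulAut.conj ν • B l with hF
  have hFW' : F ≤ W' := (h.fac.le' ν l).trans (h.le' ν hν)
  -- `x = [v, w]`
  have hxF : v * w * v⁻¹ * w⁻¹ ∈ F := by
    have : v * w * v⁻¹ * w⁻¹ = v * (w * v⁻¹ * w⁻¹) := by group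
    rw [this]
    exact mul_mem hv (conj_mem hn (inv_mem hv))
  have hxW := (h.com_mem hw (hFW' hv)).1
  have hx1 : v * w * v⁻¹ * w⁻¹ ≠ 1 := by
    intro h0
    apply hvw
    rw [mul_inv_eq_one, mul_inv_eq_iff_eq_mul] at h0
    exact h0.symm
  -- `W` normalises `F`
  have hWF : ∀ w₁ ∈ W, MulAut.conj w₁ • F = F := fun w₁ hw₁ => (h.fac.nor' hxF hx1 (h.comm w₁ hw₁ _ hxW)).1
  -- a factor `E` of `W` not commuting with `v`
  obtain ⟨μ, hμ, j, u, hu, huv⟩ := h.exists_ne hw hvw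
  set E : Subgroup G := MulAut.conj μ • B j with hE
  have hEW : E ≤ W := (h.fac.le' μ j).trans (h.le μ hμ)
  have hcF : ∀ u₁ ∈ E, v * u₁ * v⁻¹ * u₁⁻¹ ∈ F := by
    intro u₁ hu₁
    have : v * u₁ * v⁻¹ * u₁⁻¹ = v * (u₁ * v⁻¹ * u₁⁻¹) := by group
    rw [this]
    exact mul_mem hv (conj_mem (hWF u₁ (hEW hu₁)) (inv_mem hv))
  have hnE : ∀ u₁ ∈ E, v * u₁ = u₁ * v → u₁ = 1 := by
    intro u₁ hu₁ hc
    by_contra hne
    -- `v` normalises `E`
    have h1 := (h.fac.nor' hu₁ hne hc).1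
    have h2 : v * u * v⁻¹ * u⁻¹ ∈ E := mul_mem (conj_mem h1 hu) (inv_mem hu)
    have h3 : v * u * v⁻¹ * u⁻¹ ≠ 1 := by
      intro h0
      apply huv
      rw [mul_inv_eq_one, mul_inv_eq_iff_eq_mul] at h0
      exact h0.symm
    have h4 : E = F := h.fac.ti_mem h2 (hcF u hu) h3
    apply huv
    have h5 : u ∈ F := h4 ▸ hu
    exact h.fac.comm' (h.fac.le' ν l h5) (h.fac.le' ν l hv)
  -- count
  let f : E → ↥(F ⊓ W) := fun u₁ => ⟨v * u₁ * v⁻¹ * (u₁ : G)⁻¹, hcF u₁ u₁.2, (h.com_mem (hEW u₁.2) (hFW' hv)).1⟩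
  have hf : Function.Injective f := by
    intro a b hab
    have h1 : v * a * v⁻¹ * (a : G)⁻¹ = v * b * v⁻¹ * (b : G)⁻¹ := congrArg Subtype.val hab
    have h2 : v * ((b : G)⁻¹ * a) = (b : G)⁻¹ * a * v := by
      have hc := h.comm' _ (hFW' hv) _ (hFW' (hcF a a.2))
      have hab' : (a : G) * (b : G)⁻¹ = (b : G)⁻¹ * a := h.comm _ (hEW a.2) _ (inv_mem (hEW b.2))
      have h3 : v⁻¹ * (v * a * v⁻¹ * (a : G)⁻¹) = v⁻¹ * (v * b * v⁻¹ * (b : G)⁻¹) := by rw [h1]
      have h4 : (a : G) * v⁻¹ * (a : G)⁻¹ = b * v⁻¹ * (b : G)⁻¹ := by simpa [mul_assoc] using h3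
      have h5 : (b : G)⁻¹ * a * v⁻¹ = v⁻¹ * ((b : G)⁻¹ * a) := by
        calc (b : G)⁻¹ * a * v⁻¹ = (b : G)⁻¹ * (a * v⁻¹ * (a : G)⁻¹) * a := by group
          _ = (b : G)⁻¹ * (b * v⁻¹ * (b : G)⁻¹) * a := by rw [h4]
          _ = v⁻¹ * ((b : G)⁻¹ * a) := by group
      calc v * ((b : G)⁻¹ * a) = v * ((b : G)⁻¹ * a * v⁻¹) * v := by group
        _ = v * (v⁻¹ * ((b : G)⁻¹ * a)) * v := by rw [h5]
        _ = (b : G)⁻¹ * a * v := by group
    have h6 := hnE _ (mul_mem (inv_mem b.2) a.2) h2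
    exact Subtype.ext (inv_mul_eq_one.1 h6).symm
  have h1 : Nat.card E ≤ Nat.card ↥(F ⊓ W) := Nat.card_le_card_of_injective f hf
  have h2 : Nat.card E = Nat.card F := by rw [hE, hF, card_conj, card_conj, h.fac.card, h.fac.card]
  have h3 : F ⊓ W = F := Subgroup.eq_of_le_of_card_ge inf_le_left (by rw [← h2]; exact h1)
  have h4 : v ∈ W := by
    have : v ∈ F ⊓ W := by rw [h3]; exact hv
    exact this.2
  exact hvw (h.comm w hw v h4)

/-- **(3.2)** Two factors which do not commute. -/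
theorem apart [Finite G] {μ ν : G} (hμ : μ ∈ Γ) (hν : ν ∈ Γ') {i l : I} {u₀ v₀ : G} (hu₀ : u₀ ∈ MulAut.conj μ • B i)
    (hv₀ : v₀ ∈ MulAut.conj ν • B l) (hne : u₀ * v₀ ≠ v₀ * u₀) {u : G} (hu : u ∈ MulAut.conj μ • B i) (hu1 : u ≠ 1) :
    MulAut.conj u • MulAut.conj ν • B l ≠ MulAut.conj ν • B l ∧
      ∀ v ∈ MulAut.conj ν • B l, v ≠ 1 → u * v ≠ v * u := by
  have hEW : MulAut.conj μ • B i ≤ W := (h.fac.le' μ i).trans (h.le μ hμ)
  have hFW : MulAut.conj ν • B l ≤ W' := (h.fac.le' ν l).trans (h.le' ν hν)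
  have key : MulAut.conj u • MulAut.conj ν • B l = MulAut.conj ν • B l → False := by
    intro hn
    have h1 := h.cen hν (hEW hu) hn
    -- `F` centralises `u`, so normalises and centralises `E`
    have h2 : MulAut.conj v₀ • MulAut.conj μ • B i = MulAut.conj μ • B i :=
      (h.fac.nor' hu hu1 (h1 v₀ hv₀).symm).1
    exact hne (h.symm.cen hμ (hFW hv₀) h2 u₀ hu₀).symm
  refine ⟨key, fun v hv hv1 hc => key ?_⟩
  exact (h.fac.nor' hv hv1 hc).1

/-- the product of `x` and its conjugate is centralised by `W` -/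
theorem fix {x c d : G} (hx : x ∈ W') (hc : c ∈ W) (hd : d ∈ W) :
    d * (x * (c * x⁻¹ * c⁻¹)) * d⁻¹ = x * (c * x⁻¹ * c⁻¹) := by
  have h1 := (h.com_mem hc hx).1
  have h2 : x * c * x⁻¹ * c⁻¹ = x * (c * x⁻¹ * c⁻¹) := by group
  rw [h2] at h1
  rw [mul_inv_eq_iff_eq_mul]
  exact h.comm d hd _ h1

/-- for `c`, `d ∈ W` normalising a block and a factor: one of `c`, `d`, `d c` normalises the factor -/
theorem two {ν : G} (hν : ν ∈ Γ') (hq : 2 ≤ q) {l : I} {c d : G} (hc : c ∈ W) (hd : d ∈ W)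
    (hcU : MulAut.conj c • MulAut.conj ν • U = MulAut.conj ν • U)
    (hdU : MulAut.conj d • MulAut.conj ν • U = MulAut.conj ν • U) :
    MulAut.conj c • MulAut.conj ν • B l = MulAut.conj ν • B l ∨
      MulAut.conj d • MulAut.conj ν • B l = MulAut.conj ν • B l ∨
        MulAut.conj (d * c) • MulAut.conj ν • B l = MulAut.conj ν • B l := by
  obtain ⟨x, hx, hx1⟩ := h.fac.bne hq ν l
  have hFW : MulAut.conj ν • B l ≤ W' := (h.fac.le' ν l).trans (h.le' ν hν)
  have h1 := h.fix (hFW hx) hc hd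
  have e : x * (c * x⁻¹ * c⁻¹) = (d * x * d⁻¹) * ((d * c) * x⁻¹ * (d * c)⁻¹) := by
    rw [← h1]; group
  exact h.fac.four' hx hx1 hcU hdU (conj_mul_eq hdU hcU) (mem_conj_of_mem (inv_mem hx)) (mem_conj_of_mem hx)
    (mem_conj_of_mem (inv_mem hx)) e

/-- If `W` normalises the block `U^ν`, it centralises it. -/
theorem cen_block [Finite G] {ν : G} (hν : ν ∈ Γ') (hq : 4 ≤ q)
    (hn : ∀ w ∈ W, MulAut.conj w • MulAut.conj ν • U = MulAut.conj ν • U) :
    ∀ w ∈ W, ∀ x ∈ MulAut.conj ν • U, w * x = x * w := by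
  have key : ∀ w ∈ W, ∀ l, ∀ x ∈ MulAut.conj ν • B l, w * x = x * w := by
    intro w hw l v hv
    by_contra hvw
    obtain ⟨μ, hμ, j, u, hu, huv⟩ := h.exists_ne hw hvw
    -- two different elements
    obtain ⟨u₁, hu₁, hu₁1⟩ := h.fac.bne (by omega) μ j
    obtain ⟨u₂, hu₂, hu₂1, hu₁₂⟩ : ∃ u₂ ∈ MulAut.conj μ • B j, u₂ ≠ 1 ∧ u₂ * u₁ ≠ 1 := by
      by_contra hcon
      push Not at hcon
      have h1 : MulAut.conj μ • B j ≤ zpowers u₁ := by
        intro y hy
        by_cases hy1 : y = 1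
        · rw [hy1]; exact one_mem _
        · have := hcon y hy hy1
          rw [mul_eq_one_iff_eq_inv] at this
          rw [this]; exact inv_mem (mem_zpowers _)
      have h2 := Subgroup.card_le_of_le h1
      rw [card_conj, h.fac.card, Nat.card_zpowers] at h2
      have h3 : orderOf u₁ ≤ 2 := by
        refine orderOf_le_of_pow_eq_one (by norm_num) ?_
        have h4 := h.fac.sq _ (h.fac.le j (mem_conj.1 hu₁))
        have : u₁ ^ 2 = μ * (μ⁻¹ * u₁ * μ * (μ⁻¹ * u₁ * μ)) * μ⁻¹ := by rw [pow_two]; group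
        rw [this, h4]; group
      omega
    have hEW : MulAut.conj μ • B j ≤ W := (h.fac.le' μ j).trans (h.le μ hμ)
    have hap := fun {y : G} (hy : y ∈ MulAut.conj μ • B j) (hy1 : y ≠ 1) =>
      (h.apart hμ hν hu hv huv hy hy1).1
    rcases h.two hν (by omega) (l := l) (hEW hu₁) (hEW hu₂) (hn _ (hEW hu₁)) (hn _ (hEW hu₂)) with h3 | h3 | h3
    · exact hap hu₁ hu₁1 h3
    · exact hap hu₂ hu₂1 h3
    · exact hap (mul_mem hu₂ hu₁) hu₁₂ h3
  intro w hw
  have h1 : MulAut.conj ν • U ≤ centralizer ({w} : Set G) := by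
    rw [h.fac.sup, conj_smul_iSup]
    exact iSup_le fun l x hx => mem_centralizer_singleton_iff.2 (key w hw l x hx).symm
  exact fun x hx => (mem_centralizer_singleton_iff.1 (h1 hx)).symm

/-- An element of `W'` in a factor which is centralised by `W`. -/
theorem cen_block' [Finite G] {ν : G} (hν : ν ∈ Γ') (hq : 4 ≤ q) {l : I} {x : G} (hx : x ∈ MulAut.conj ν • B l)
    (hx1 : x ≠ 1) (hc : ∀ w ∈ W, w * x = x * w) : ∀ w ∈ W, ∀ y ∈ MulAut.conj ν • U, w * y = y * w :=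
  h.cen_block hν hq fun w hw => (h.fac.nor' hx hx1 (hc w hw)).2

/-! ### The chain -/

theorem exists_step [Finite G] {D : Subgroup G} (hDW : D ≤ W) (hq : 2 ≤ q)
    (hD : ∀ ν ∈ Γ', ∀ d ∈ D, MulAut.conj d • MulAut.conj ν • U = MulAut.conj ν • U)
    (hne : ¬ D ≤ centralizer (W' : Set G)) :
    ∃ F : Subgroup G, ∃ c ∈ D, F ≤ W' ∧ Nat.card F = q ∧ (∀ d ∈ D, MulAut.conj d • F = F → ∀ x ∈ F, d * x = x * d) ∧
      (∀ x ∈ F, c * x = x * c → x = 1) ∧ ∀ d ∈ D, MulAut.conj d • F = F ∨ MulAut.conj (d * c) • F = F := by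
  obtain ⟨c, hc, hcW⟩ := SetLike.not_le_iff_exists.1 hne
  obtain ⟨y, hy, hyc⟩ : ∃ y ∈ W', y * c ≠ c * y := by
    by_contra hcon
    push Not at hcon
    exact hcW (mem_centralizer_iff.2 hcon)
  obtain ⟨ν, hν, l, v, hv, hvc⟩ := h.symm.exists_ne hy hyc
  have hFW : MulAut.conj ν • B l ≤ W' := (h.fac.le' ν l).trans (h.le' ν hν)
  have hnc : MulAut.conj c • MulAut.conj ν • B l ≠ MulAut.conj ν • B l :=
    fun h0 => hvc (h.cen hν (hDW hc) h0 v hv).symm
  refine ⟨MulAut.conj ν • B l, c, hc, hFW, by rw [card_conj, h.fac.card],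
    fun d hd h0 => h.cen hν (hDW hd) h0, fun x hx hxc => ?_, fun d hd => ?_⟩
  · by_contra hx1
    exact hnc (h.fac.nor' hx hx1 hxc).1
  · rcases h.two hν hq (l := l) (hDW hc) (hDW hd) (hD ν hν c hc) (hD ν hν d hd) with h1 | h1
    · exact absurd h1 hnc
    · exact h1

end Pr

theorem relIndex_ne [Finite G] (H K : Subgroup G) : H.relIndex K ≠ 0 := index_ne_zero_of_finite

theorem relIndex_step [Finite G] {C D D₁ : Subgroup G} (h1 : C ⊓ D ≤ D₁) (h2 : D₁ ≤ D) :
    C.relIndex D = C.relIndex D₁ * D₁.relIndex D := by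
  have h3 : C ⊓ D₁ = C ⊓ D := le_antisymm (inf_le_inf_left C h2) (le_inf inf_le_left h1)
  have h4 := relIndex_mul_relIndex (C ⊓ D) D₁ D h1 h2
  rw [inf_relIndex_right] at h4
  rw [← h4, ← h3, inf_relIndex_right]

/-- One step of the chain: `c ∈ D` moves `F`, `D` has an orbit of length 2 on `F`. -/
theorem step [Finite G] {D F W' : Subgroup G} {c : G} (hc : c ∈ D) (hFW : F ≤ W') (hF1 : Nat.card F ≠ 1)
    (hcen : ∀ d ∈ D, MulAut.conj d • F = F → ∀ x ∈ F, d * x = x * d)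
    (hfree : ∀ x ∈ F, c * x = x * c → x = 1)
    (htwo : ∀ d ∈ D, MulAut.conj d • F = F ∨ MulAut.conj (d * c) • F = F) :
    ∃ D₁ ≤ D, Nat.card D₁ < Nat.card D ∧ (centralizer (W' : Set G)).relIndex D =
      (centralizer (W' : Set G)).relIndex D₁ * 2 ∧ (centralizer (D₁ : Set G)).relIndex W' * Nat.card F ≤
        (centralizer (D : Set G)).relIndex W' := by
  have hcF : MulAut.conj c • F ≠ F := by
    intro h0
    apply hF1
    rw [Nat.card_eq_one_iff_unique]
    refine ⟨⟨fun a b => ?_⟩, ⟨1⟩⟩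
    have h1 := hfree _ a.2 (hcen c hc h0 _ a.2)
    have h2 := hfree _ b.2 (hcen c hc h0 _ b.2)
    exact Subtype.ext (h1.trans h2.symm)
  set D₁ : Subgroup G := D ⊓ normalizer (F : Set G) with hD₁
  have hle : D₁ ≤ D := inf_le_left
  have hcD : c ∉ D₁ := fun h0 => hcF (conj_eq_iff.2 h0.2)
  have h2 : D₁.relIndex D = 2 := by
    rw [relIndex_eq_two_iff]
    refine ⟨c, hc, fun b hb => ?_⟩
    rcases htwo b hb with h3 | h3
    · refine Or.inr ⟨⟨hb, conj_eq_iff.1 h3⟩, fun h4 => hcD ?_⟩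
      have h5 : b⁻¹ * (b * c) ∈ D₁ := mul_mem (inv_mem ⟨hb, conj_eq_iff.1 h3⟩) h4
      rwa [inv_mul_cancel_left] at h5
    · refine Or.inl ⟨⟨mul_mem hb hc, conj_eq_iff.1 h3⟩, fun h4 => hcD ?_⟩
      have h5 : b⁻¹ * (b * c) ∈ D₁ := mul_mem (inv_mem h4) ⟨mul_mem hb hc, conj_eq_iff.1 h3⟩
      rwa [inv_mul_cancel_left] at h5
  have hcard : Nat.card D₁ * 2 = Nat.card D := by
    have h3 := relIndex_mul_relIndex ⊥ D₁ D bot_le hle
    rwa [relIndex_bot_left, relIndex_bot_left, h2] at h3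
  refine ⟨D₁, hle, ?_, ?_, ?_⟩
  · have := Nat.card_pos (α := D₁)
    omega
  · rw [← h2]
    refine relIndex_step ?_ hle
    rintro x ⟨hx, hxD⟩
    refine ⟨hxD, conj_eq_iff.1 (le_antisymm ?_ ?_)⟩
    · intro y hy
      rw [mem_conj] at hy
      have h3 := mem_centralizer_iff.1 hx _ (hFW hy)
      have : y = x⁻¹ * y * x := by
        calc y = x * (x⁻¹ * y * x) * x⁻¹ := by group
          _ = (x⁻¹ * y * x) * x * x⁻¹ := by rw [← h3]
          _ = x⁻¹ * y * x := by group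
      rw [this]; exact hy
    · intro y hy
      rw [mem_conj]
      have h3 := mem_centralizer_iff.1 hx _ (hFW hy)
      have : x⁻¹ * y * x = y := by rw [mul_assoc, h3]; group
      rw [this]; exact hy
  · have hC : centralizer (D : Set G) ⊓ W' ≤ centralizer (D₁ : Set G) ⊓ W' :=
      inf_le_inf_right _ (centralizer_le hle)
    have h3 : (centralizer (D : Set G)).relIndex W' =
        (centralizer (D : Set G)).relIndex (centralizer (D₁ : Set G) ⊓ W') *
          (centralizer (D₁ : Set G) ⊓ W').relIndex W' := relIndex_step hC inf_le_right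
    rw [h3, inf_relIndex_right, mul_comm]
    refine Nat.mul_le_mul_right _ ?_
    have h4 : F ≤ centralizer (D₁ : Set G) ⊓ W' := by
      refine le_inf (fun x hx => mem_centralizer_iff.2 fun d hd => ?_) hFW
      exact hcen d hd.1 (conj_eq_iff.2 hd.2) x hx
    have h5 : (centralizer (D : Set G)).relIndex F = Nat.card F := by
      have h6 : centralizer (D : Set G) ⊓ F = ⊥ := by
        rw [eq_bot_iff]
        rintro x ⟨hx, hxF⟩
        exact (mem_bot (G := G)).2 (hfree x hxF (mem_centralizer_iff.1 hx c hc))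
      rw [← inf_relIndex_right, h6, relIndex_bot_left]
    rw [← h5]
    exact relIndex_le_of_le_right h4 (relIndex_ne _ _)

/-- **(2.1)** `|D : C_D(W')| = 2^m` and `q^m ≤ |W' : C_{W'}(D)|`. -/
theorem Pr.chain [Finite G] {W W' : Subgroup G} {Γ Γ' : Set G} (h : Pr I B U q W W' Γ Γ') (hq : 2 ≤ q) {D : Subgroup G}
    (hDW : D ≤ W) (hD : ∀ ν ∈ Γ', ∀ d ∈ D, MulAut.conj d • MulAut.conj ν • U = MulAut.conj ν • U) :
    ∃ m, (centralizer (W' : Set G)).relIndex D = 2 ^ m ∧ q ^ m ≤ (centralizer (D : Set G)).relIndex W' := by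
  induction hn : Nat.card D using Nat.strong_induction_on generalizing D with
  | _ n ih =>
    by_cases hne : D ≤ centralizer (W' : Set G)
    · refine ⟨0, ?_, ?_⟩
      · rw [pow_zero, relIndex_eq_one]; exact hne
      · rw [pow_zero]; exact Nat.one_le_iff_ne_zero.2 (relIndex_ne _ _)
    · obtain ⟨F, c, hc, h1, h2, h3, h4, h5⟩ := h.exists_step hDW hq hD hne
      obtain ⟨D₁, hle, hlt, h6, h7⟩ := step hc h1 (by omega) h3 h4 h5
      obtain ⟨m, hm1, hm2⟩ := ih (Nat.card D₁) (by rw [← hn]; exact hlt) (D := D₁) (hle.trans hDW)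
        (fun ν hν d hd => hD ν hν d (hle hd)) rfl
      refine ⟨m + 1, by rw [h6, hm1, pow_succ], ?_⟩
      rw [pow_succ, ← h2]
      rw [h2] at h7 ⊢
      exact (Nat.mul_le_mul_right _ hm2).trans h7

end Cfsg.Agent.Omega.OmThm
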