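import Cfsg.Agent.Omega.OmThm.Conn

/-!
# THEOREM OM, other types: `S₅` on `O₄⁻(2)`

bb OMEGA #15139, blueprints/OMEGA-NO3S-Om-helper12.md, last bullet.

`T` is a set of elements of `U` (in the application the vectors of weight 2 of the natural module of even subsets of
`{1, .., 5}`) such that `C_G(u)` normalises `U` and `U` is the only conjugate of `U` which contains `u` (`u ∈ T`), every
2-element which normalises and does not centralise `U` has a commutator in `T`, the subgroups of `U` which miss `T` have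
order at most `n` (`n = 2`) and `|[U, A]| n < |U|` for all elementary abelian `A` which act quadratically on `U`
(`|U| = 16`, `|[U, A]| ≤ 4`).

* `HypT T n S P X U` : the hypotheses;
* `HypT.false`.
-/

set_option autoImplicit false

namespace Cfsg.Agent.Omega.OmThm

open Subgroup Cfsg.Agent.Omega.NoFF.Basic Cfsg.Agent.ZN Cfsg.Agent.MinSimple.VModule
open scoped Pointwise commutatorElement

variable {G : Type*} [Group G] {T : Set G} {n : ℕ} {S P X U : Subgroup G}

/-- The claim for all critical `g` is contradictory. -/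
theorem CD.false_of_lt (D : CD S P X U) (hlt : ∀ g : G, V U X ≤ MulAut.conj g • X → MulAut.conj g • V U X ≤ X →
    ¬ V U X ≤ centralizer ((MulAut.conj g • V U X : Subgroup G) : Set G) →
    (centralizer (V U X : Set G)).relIndex (MulAut.conj g • V U X) <
      (centralizer ((MulAut.conj g • V U X : Subgroup G) : Set G)).relIndex (V U X)) : False := by
  obtain ⟨g, h1, h2, h3⟩ := exists_pair D
  have h4 := hlt g h1 h2 h3
  have key : ∀ A : Subgroup G, MulAut.conj g • MulAut.conj g⁻¹ • A = A := fun A => by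
    rw [conj_conj, mul_inv_cancel, map_one, one_smul]
  have key' : ∀ A : Subgroup G, MulAut.conj g⁻¹ • MulAut.conj g • A = A := fun A => by
    rw [conj_conj, inv_mul_cancel, map_one, one_smul]
  have h5 := hlt g⁻¹ (by
    have h6 := conj_le_iff (g := g⁻¹) |>.2 h2
    rwa [key'] at h6) (by
    have h6 := conj_le_iff (g := g⁻¹) |>.2 h1
    rwa [key'] at h6) (fun h6 => h3 (by
    have h7 := conj_le_centralizer (g := g) h6
    rw [key] at h7
    exact comm_symm h7))
  rw [← Hyp.conj_relIndex (V U X) _ g, ← Hyp.conj_relIndex (MulAut.conj g⁻¹ • V U X) _ g, key] at h5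
  omega

/-- `⟨U^X⟩` is elementary abelian. -/
theorem CD.W_sq (D : CD S P X U) (hsq : ∀ u ∈ U, u * u = 1) : ∀ x ∈ V U X, x * x = 1 := by
  have hc : ∀ x ∈ V U X, ∀ y ∈ V U X, x * y = y * x :=
    fun x hx y hy => (mem_centralizer_iff.1 (D.W_ab hx) y hy).symm
  let E : Subgroup G :=
    { carrier := {x | x ∈ V U X ∧ x * x = 1}
      one_mem' := ⟨one_mem _, one_mul 1⟩
      mul_mem' := by
        intro x y ⟨hx, hx2⟩ ⟨hy, hy2⟩
        refine ⟨mul_mem hx hy, ?_⟩
        calc x * y * (x * y) = x * (y * x) * y := by group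
          _ = x * (x * y) * y := by rw [hc x hx y hy]
          _ = (x * x) * (y * y) := by group
          _ = 1 := by rw [hx2, hy2, one_mul]
      inv_mem' := by
        rintro x ⟨hx, hx2⟩
        exact ⟨inv_mem hx, by rw [← mul_inv_rev, hx2, inv_one]⟩ }
  have h1 : V U X ≤ E := V_le fun x hx u hu => by
    refine ⟨Z_le_V hx hu, ?_⟩
    have h2 := hsq _ (mem_conj.1 hu)
    have e : u * u = x * (x⁻¹ * u * x * (x⁻¹ * u * x)) * x⁻¹ := by group
    rw [e, h2]; group
  exact fun x hx => (h1 hx).2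

variable (T n S P X U) in
/-- The hypotheses for `S₅` on `O₄⁻(2)`: `T` the vectors of weight 2, `n = 2`, `|U| = 16`. -/
structure HypT : Prop extends CD S P X U where
  TU : ∀ u ∈ T, u ∈ U
  sq : ∀ u ∈ U, u * u = 1
  cen : ∀ u ∈ T, ∀ g : G, g * u = u * g → MulAut.conj g • U = U
  ti : ∀ u ∈ T, ∀ g : G, u ∈ MulAut.conj g • U → MulAut.conj g • U = U
  ex : ∀ (t : G) (m : ℕ), t ^ 2 ^ m = 1 → MulAut.conj t • U = U → (∃ v ∈ U, t * v ≠ v * t) →
    ∃ v ∈ U, v * t * v⁻¹ * t⁻¹ ∈ T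
  small : ∀ R : Subgroup G, R ≤ U → (∀ u ∈ R, u ∉ T) → Nat.card R ≤ n
  quad : ∀ A : Subgroup G, (∀ a ∈ A, a * a = 1) → (∀ a ∈ A, ∀ b ∈ A, a * b = b * a) →
    (∀ a ∈ A, MulAut.conj a • U = U) → (∀ u ∈ U, ∀ a ∈ A, ∀ b ∈ A, b * (u * a * u⁻¹ * a⁻¹) =
      (u * a * u⁻¹ * a⁻¹) * b) → Nat.card ↥⁅U, A⁆ * n < Nat.card U
  S2 : IsPGroup 2 S
  gen : X ≤ oddGen X ⊔ S
  syl : ∀ T : Subgroup G, T ≤ X → IsPGroup 2 T → ∃ x ∈ X, T ≤ MulAut.conj x • S
  nX : ¬ X ≤ normalizer (U : Set G)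
  h4 : ∃ t ∈ o2 X, ∃ v ∈ U, t * v ≠ v * t
  no : NoOv X (V U X)

namespace HypT

variable (h : HypT T n S P X U)
include h

theorem W_comm : ∀ x ∈ V U X, ∀ y ∈ V U X, x * y = y * x :=
  fun x hx y hy => (mem_centralizer_iff.1 (h.toCD.W_ab hx) y hy).symm

theorem xd : XD S X U where
  S2 := h.S2
  SX := h.SX
  gen := h.gen
  QS := h.QX
  SU := h.SP.trans h.nP
  comm := h.W_comm
  sq := h.toCD.W_sq h.sq
  nU := h.nX

theorem noncentral : ∃ c ∈ (⁅V U X, o2 X⁆ : Subgroup G), ∃ x ∈ oddGen X, c * x ≠ x * c := by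
  obtain ⟨t, ht, hne⟩ := h.h4
  obtain ⟨n, hn⟩ := (o2_isPGroup X) ⟨t, ht⟩
  have hn' : t ^ 2 ^ n = 1 := by
    have := congrArg Subtype.val hn
    simpa using this
  obtain ⟨v, hv, hvT⟩ := h.ex t n hn' (conj_eq_iff.2 ((h.QX.trans (h.SP.trans h.nP)) ht)) hne
  by_contra hcon
  push Not at hcon
  have hc1 : v * t * v⁻¹ * t⁻¹ ∈ (⁅V U X, o2 X⁆ : Subgroup G) := by
    have := commutator_mem_commutator (XD.U_le_W (X := X) hv) ht
    rwa [commutatorElement_def] at this
  apply h.nX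
  refine h.gen.trans (sup_le (fun y hy => ?_) (h.SP.trans h.nP))
  exact conj_eq_iff.1 (h.cen _ hvT y (hcon _ hc1 y hy).symm)

variable {g : G}

theorem sq_conj : ∀ e ∈ MulAut.conj g • V U X, e * e = 1 := by
  intro e he
  have h3 := h.xd.sq _ (mem_conj.1 he)
  have e1 : e * e = g * (g⁻¹ * e * g * (g⁻¹ * e * g)) * g⁻¹ := by group
  rw [e1, h3]; group

theorem comm_conj : ∀ e ∈ MulAut.conj g • V U X, ∀ f ∈ MulAut.conj g • V U X, e * f = f * e := by
  intro x hx y hy
  have := h.W_comm _ (mem_conj.1 hx) _ (mem_conj.1 hy)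
  have h3 := congrArg (fun t => g * t * g⁻¹) this
  simpa [mul_assoc] using h3

omit h in
/-- `V U X` normalises its conjugate -/
theorem nor (h1 : V U X ≤ MulAut.conj g • X) {y : G} (hy : y ∈ V U X) :
    MulAut.conj y • MulAut.conj g • V U X = MulAut.conj g • V U X := by
  have h3 := mem_conj.1 (h1 hy)
  have h4 := conj_V_mul (Z := U) (P := X) (g := g) h3
  rw [conj_conj]
  rwa [show g * (g⁻¹ * y * g) = y * g by group] at h4

omit h in
theorem com_mem (h1 : V U X ≤ MulAut.conj g • X) {w v : G} (hw : w ∈ MulAut.conj g • V U X) (hv : v ∈ V U X) :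
    v * w * v⁻¹ * w⁻¹ ∈ MulAut.conj g • V U X := mul_mem (conj_mem (nor h1 hv) hw) (inv_mem hw)

/-- If `E = W^g` normalises the block `U^ν`, it centralises it. -/
theorem cen_block [Finite G] (h1 : V U X ≤ MulAut.conj g • X) {ν : G} (hν : ν ∈ X)
    (hn : ∀ w ∈ MulAut.conj g • V U X, MulAut.conj w • MulAut.conj ν • U = MulAut.conj ν • U) :
    ∀ w ∈ MulAut.conj g • V U X, ∀ x ∈ MulAut.conj ν • U, w * x = x * w := by
  by_contra hcon
  push Not at hcon
  obtain ⟨w, hw, x, hx, hwx⟩ := hcon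
  set E := MulAut.conj g • V U X with hE
  have hUW : ∀ {x}, x ∈ MulAut.conj ν • U → x ∈ V U X := fun {x} hx => Z_le_V hν hx
  -- a block `U^μ` of `E` which does not commute with `x`
  obtain ⟨p, hp, u, hu, hux⟩ : ∃ p ∈ X, ∃ u ∈ MulAut.conj (g * p) • U, u * x ≠ x * u := by
    by_contra hcon
    push Not at hcon
    apply hwx
    have h2 : E ≤ centralizer ({x} : Set G) :=
      conj_V_le fun p hp u hu => mem_centralizer_singleton_iff.2 (hcon p hp u hu)
    exact mem_centralizer_singleton_iff.1 (h2 hw)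
  set μ := g * p with hμ
  have hUE : MulAut.conj μ • U ≤ E := conj_Z_le hp
  have htwo : ∀ w ∈ E, ∀ n : ℕ, (ν⁻¹ * w * ν) ^ 2 ^ 1 = 1 := by
    intro w hw _
    rw [pow_one, pow_two]
    have e1 : ν⁻¹ * w * ν * (ν⁻¹ * w * ν) = ν⁻¹ * (w * w) * ν := by group
    rw [e1, h.sq_conj w hw]; group
  have hnν : ∀ w ∈ E, MulAut.conj (ν⁻¹ * w * ν) • U = U := by
    intro w hw
    have h3 := hn w hw
    have h4 := congrArg (fun A => MulAut.conj ν⁻¹ • A) h3
    simp only [conj_conj] at h4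
    rw [mul_assoc, h4, inv_mul_cancel, map_one, one_smul]
  -- some element of `U^ν` does not normalise `U^μ`
  obtain ⟨u', hu', hu'n⟩ : ∃ u' ∈ MulAut.conj ν • U, MulAut.conj u' • MulAut.conj μ • U ≠ MulAut.conj μ • U := by
    by_contra hcon
    push Not at hcon
    obtain ⟨v, hv, hvT⟩ := h.ex (ν⁻¹ * u * ν) 1 (htwo u (hUE hu) 1) (hnν u (hUE hu)) ⟨ν⁻¹ * x * ν, mem_conj.1 hx, by
      intro h3
      apply hux
      have h4 := congrArg (fun t => ν * t * ν⁻¹) h3
      simpa [mul_assoc] using h4⟩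
    have h3 : (ν * v * ν⁻¹) * u * (ν * v * ν⁻¹)⁻¹ * u⁻¹ ∈ MulAut.conj μ • U :=
      mul_mem (conj_mem (hcon _ (mem_conj_of_mem hv)) hu) (inv_mem hu)
    have h4 := h.ti _ hvT (ν⁻¹ * μ) (by
      rw [mem_conj] at h3 ⊢
      have e : (ν⁻¹ * μ)⁻¹ * (v * (ν⁻¹ * u * ν) * v⁻¹ * (ν⁻¹ * u * ν)⁻¹) * (ν⁻¹ * μ) =
          μ⁻¹ * ((ν * v * ν⁻¹) * u * (ν * v * ν⁻¹)⁻¹ * u⁻¹) * μ := by group
      rwa [e])
    have h5 : MulAut.conj μ • U = MulAut.conj ν • U := by
      have h6 := congrArg (fun A => MulAut.conj ν • A) h4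
      simpa only [conj_conj, mul_inv_cancel_left] using h6
    rw [h5] at hu
    exact hux (h.W_comm _ (hUW hu) _ (hUW hx))
  -- `C_{U^μ}(u')` has order at most `n`
  set Uμ := MulAut.conj μ • U with hUμ
  have hC : Nat.card ↥(Uμ ⊓ centralizer ({u'} : Set G)) ≤ n := by
    have h3 := h.small (MulAut.conj μ⁻¹ • (Uμ ⊓ centralizer ({u'} : Set G))) (by
      have h4 : MulAut.conj μ⁻¹ • (Uμ ⊓ centralizer ({u'} : Set G)) ≤ MulAut.conj μ⁻¹ • Uμ := conj_le_iff.2 inf_le_left
      rwa [hUμ, conj_conj, inv_mul_cancel, map_one, one_smul] at h4) (by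
      intro y hy hyT
      rw [mem_conj, inv_inv] at hy
      have h4 := h.cen y hyT (μ⁻¹ * u' * μ) (by
        have h5 := mem_centralizer_singleton_iff.1 hy.2
        have h6 := congrArg (fun t => μ⁻¹ * t * μ) h5
        simpa [mul_assoc] using h6.symm)
      apply hu'n
      have h6 := congrArg (fun A => MulAut.conj μ • A) h4
      simp only [conj_conj] at h6
      rw [hUμ, conj_conj]
      have e : μ * (μ⁻¹ * u' * μ) = u' * μ := by group
      rwa [e] at h6)
    rwa [card_conj] at h3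
  -- `[U^μ, u']` has order at least `|U| / n`
  have hcomm : ∀ a ∈ Uμ, ∀ b ∈ Uμ, a * b = b * a := fun a ha b hb => h.comm_conj a (hUE ha) b (hUE hb)
  let f : Uμ →* G :=
    { toFun := fun a => ν⁻¹ * (u' * a * u'⁻¹ * (a : G)⁻¹) * ν
      map_one' := by simp
      map_mul' := by
        intro a b
        have k1 : u' * (a : G) * u'⁻¹ * (a : G)⁻¹ ∈ E := com_mem h1 (hUE a.2) (hUW hu')
        have k2 : u' * (b : G) * u'⁻¹ * (b : G)⁻¹ ∈ E := com_mem h1 (hUE b.2) (hUW hu')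
        have k3 := h.comm_conj _ k2 _ (inv_mem (hUE a.2))
        rw [Subgroup.coe_mul]
        calc ν⁻¹ * (u' * (↑a * ↑b) * u'⁻¹ * (↑a * ↑b)⁻¹) * ν =
            ν⁻¹ * (u' * ↑a * u'⁻¹ * ((u' * ↑b * u'⁻¹ * (b : G)⁻¹) * (a : G)⁻¹)) * ν := by group
          _ = ν⁻¹ * (u' * ↑a * u'⁻¹ * ((a : G)⁻¹ * (u' * ↑b * u'⁻¹ * (b : G)⁻¹))) * ν := by rw [k3]
          _ = _ := by group }
  have hf : ∀ a : Uμ, f a = ν⁻¹ * (u' * a * u'⁻¹ * (a : G)⁻¹) * ν := fun _ => rfl
  have hker : Nat.card f.ker ≤ n := by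
    refine le_trans ?_ hC
    have hmem : ∀ a : f.ker, ((a : Uμ) : G) ∈ Uμ ⊓ centralizer ({u'} : Set G) := by
      rintro ⟨⟨a, ha⟩, hak⟩
      refine ⟨ha, mem_centralizer_singleton_iff.2 ?_⟩
      rw [MonoidHom.mem_ker, hf] at hak
      have k1 : u' * a * u'⁻¹ * a⁻¹ = 1 := by
        calc u' * a * u'⁻¹ * a⁻¹ = ν * (ν⁻¹ * (u' * a * u'⁻¹ * a⁻¹) * ν) * ν⁻¹ := by group
          _ = ν * 1 * ν⁻¹ := by rw [hak]
          _ = 1 := by group
      rw [mul_inv_eq_one, mul_inv_eq_iff_eq_mul] at k1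
      exact k1.symm
    refine Nat.card_le_card_of_injective (fun a : f.ker =>
      (⟨((a : Uμ) : G), hmem a⟩ : ↥(Uμ ⊓ centralizer ({u'} : Set G)))) ?_
    intro a b hab
    simp only [Subtype.mk.injEq] at hab
    exact Subtype.ext (Subtype.ext hab)
  have hrange : Nat.card U ≤ Nat.card f.range * n := by
    have k1 := Subgroup.card_mul_index f.ker
    have k0 : Nat.card Uμ = Nat.card U := by rw [hUμ, card_conj]
    rw [Subgroup.index_ker, k0] at k1
    rw [← k1, mul_comm]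
    exact Nat.mul_le_mul_left _ hker
  set A : Subgroup G := MulAut.conj ν⁻¹ • E with hA
  have hAE : ∀ {a}, a ∈ A ↔ ν * a * ν⁻¹ ∈ E := by
    intro a
    rw [hA, mem_conj, inv_inv]
  have hle : f.range ≤ ⁅U, A⁆ := by
    rintro _ ⟨a, rfl⟩
    rw [hf]
    have k1 : ν⁻¹ * a * ν ∈ A := by
      rw [hAE]
      have e : ν * (ν⁻¹ * a * ν) * ν⁻¹ = a := by group
      rw [e]; exact hUE a.2
    have k2 := commutator_mem_commutator (mem_conj.1 hu') k1
    rw [commutatorElement_def] at k2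
    have e : ν⁻¹ * u' * ν * (ν⁻¹ * a * ν) * (ν⁻¹ * u' * ν)⁻¹ * (ν⁻¹ * a * ν)⁻¹ =
        ν⁻¹ * (u' * a * u'⁻¹ * (a : G)⁻¹) * ν := by group
    rwa [e] at k2
  have h4 := h.quad A (by
    intro a ha
    have k1 := h.sq_conj _ (hAE.1 ha)
    have e : a * a = ν⁻¹ * (ν * a * ν⁻¹ * (ν * a * ν⁻¹)) * ν := by group
    rw [e, k1]; group) (by
    intro a ha b hb
    have k1 := h.comm_conj _ (hAE.1 ha) _ (hAE.1 hb)
    have k2 := congrArg (fun t => ν⁻¹ * t * ν) k1
    simpa [mul_assoc] using k2) (by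
    intro a ha
    have k1 := hnν _ (hAE.1 ha)
    have e : ν⁻¹ * (ν * a * ν⁻¹) * ν = a := by group
    rwa [e] at k1) (by
    intro u hu a ha b hb
    have k1 := com_mem h1 (hAE.1 ha) (hUW (mem_conj_of_mem hu))
    have k2 := h.comm_conj _ (hAE.1 hb) _ k1
    have k3 := congrArg (fun t => ν⁻¹ * t * ν) k2
    simpa [mul_assoc] using k3)
  have h5 := Subgroup.card_le_of_le hle
  have h6 : Nat.card f.range * n ≤ Nat.card ↥⁅U, A⁆ * n := Nat.mul_le_mul_right n h5
  omega

/-- `D = E ∩ O₂(X)` centralises `V U X`. -/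
theorem D_le [Finite G] (h1 : V U X ≤ MulAut.conj g • X) :
    MulAut.conj g • V U X ⊓ o2 X ≤ centralizer (V U X : Set G) := by
  set E := MulAut.conj g • V U X with hE
  rintro c ⟨hcE, hcQ⟩
  have key : V U X ≤ centralizer ({c} : Set G) := by
    refine V_le fun ν hν x hx => mem_centralizer_singleton_iff.2 ?_
    by_contra hne
    have hc' : ν⁻¹ * c * ν ∈ o2 X := by
      have := (mem_normalizer_iff.1 (le_normalizer_o2 X (inv_mem hν)) c).1 hcQ
      rwa [inv_inv] at this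
    have h2 : (ν⁻¹ * c * ν) ^ 2 ^ 1 = 1 := by
      rw [pow_one, pow_two]
      have e1 : ν⁻¹ * c * ν * (ν⁻¹ * c * ν) = ν⁻¹ * (c * c) * ν := by group
      rw [e1, h.sq_conj c hcE]; group
    obtain ⟨v, hv, hvT⟩ := h.ex (ν⁻¹ * c * ν) 1 h2 (conj_eq_iff.2 ((h.QX.trans (h.SP.trans h.nP)) hc'))
      ⟨ν⁻¹ * x * ν, mem_conj.1 hx, by
        intro h3
        apply hne
        have h4 := congrArg (fun t => ν * t * ν⁻¹) h3
        have h5 : c * x = x * c := by simpa [mul_assoc] using h4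
        exact h5.symm⟩
    have h3 : (ν * v * ν⁻¹) * c * (ν * v * ν⁻¹)⁻¹ * c⁻¹ ∈ E :=
      com_mem h1 hcE (Z_le_V hν (mem_conj_of_mem hv))
    have h4 := h.cen_block h1 hν (fun w hw => by
      have h5 := h.cen _ hvT (ν⁻¹ * w * ν) (by
        have h6 := h.comm_conj _ hw _ h3
        have h7 := congrArg (fun t => ν⁻¹ * t * ν) h6
        simpa [mul_assoc] using h7)
      have h6 := congrArg (fun A => MulAut.conj ν • A) h5
      simp only [conj_conj] at h6
      rw [conj_conj]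
      have e : ν * (ν⁻¹ * w * ν) = w * ν := by group
      rwa [e] at h6) c hcE x hx
    exact hne h4.symm
  exact mem_centralizer_iff.2 fun v hv => mem_centralizer_singleton_iff.1 (key hv)

/-- **THEOREM OM for `S₅` on `O₄⁻(2)`.** -/
theorem false [Finite G] : False := by
  refine h.toCD.false_of_lt fun g h1 h2 hne => ?_
  set W := V U X with hW
  set E := MulAut.conj g • W with hE
  have h3 : (centralizer (W : Set G)).relIndex E = (o2 X).relIndex E := by
    have h4 : centralizer (W : Set G) ⊓ E = E ⊓ o2 X := by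
      refine le_antisymm (le_inf inf_le_right ?_) (le_inf (h.D_le h1) inf_le_left)
      -- `C_E(W) ≤ O₂(X)`
      obtain ⟨x, hx, hxE⟩ := h.syl E h2 (by
        intro e
        refine ⟨1, Subtype.ext ?_⟩
        have := h.sq_conj _ e.2
        simp only [pow_one, Subgroup.coe_pow, Subgroup.coe_one]
        rw [pow_two]
        exact this)
      rintro e ⟨he1, he2⟩
      have k1 : x⁻¹ * e * x ∈ S := mem_conj.1 (hxE he2)
      have k2 : x⁻¹ * e * x ∈ centralizer (V U X : Set G) := by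
        rw [mem_centralizer_iff]
        intro w hw
        have hxw : x * w * x⁻¹ ∈ V U X := conj_mem (conj_eq_iff.2 (XD.X_le_normalizer_W hx)) hw
        have k3 := mem_centralizer_iff.1 he1 _ hxw
        have k4 := congrArg (fun t => x⁻¹ * t * x) k3
        simpa [mul_assoc] using k4
      have k3 := h.coreX ⟨k1, k2⟩
      have k4 := (mem_normalizer_iff.1 (le_normalizer_o2 X hx) _).1 k3
      have k5 : x * (x⁻¹ * e * x) * x⁻¹ = e := by group
      rwa [k5] at k4
    rw [← inf_relIndex_right, h4, inf_relIndex_left]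
  have h4 := h.xd.sq_le h.no h.noncentral h2 h.sq_conj
  rw [h3]
  have h5 : (centralizer (W : Set G)).relIndex E ≠ 1 := fun h6 => hne (comm_symm (relIndex_eq_one.1 h6))
  rw [h3] at h5
  have h6 : (o2 X).relIndex E ≠ 0 := relIndex_ne _ _
  refine lt_of_lt_of_le ?_ h4
  exact lt_mul_of_one_lt_left (by omega) (by omega)

end HypT

end Cfsg.Agent.Omega.OmThm
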