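import Cfsg.Agent.Omega.OmThm.SideBase

/-!
# THEOREM OM (NO-3S), part (B'): four-groups, all `Q'`-orbits on the factors have length two

The blocks `U ν = F ν false × F ν true` are the products of the two factors of a `Q'`-orbit; `z ν ∈ U ν` is the
diagonal fixed point of `Q'`, `Z₀` contains all `z ν`, is centralised by `Q'`.
A line of `U ν` is a subgroup of order 4 through `z ν` which meets the factors trivially.  If `D = W ∩ Q'` does
not centralise `W'`, every block has two lines of the form `U ν ∩ U μ`, `z ν = z μ`, so `[W', Q', Q'] ≤ Z₀`, and the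
chain argument modulo `[W', Q']` gives `|D : C_D(W')|² ≤ |W' : [W',Q'] C_{W'}(D)|`.
(Text: helper12, helper447, bb OMEGA 15139, 17319.)
-/

set_option autoImplicit false

namespace Cfsg.Agent.Omega.OmThm.FourPair

open Subgroup Cfsg Cfsg.Agent.ZN Cfsg.Agent.ZN.ChoiceBase
open Cfsg.Agent.Omega.OmThm.SideBase
open scoped Pointwise commutatorElement

universe u v

variable {G : Type u} [Group G]

/-- Blocks with two factors, both four-groups. -/
structure Pair (W W' X' Q' : Subgroup G) {N : Type v} (U : N → Subgroup G)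
    (F : N → Bool → Subgroup G) (z : N → G) (Z₀ : Subgroup G) : Prop where
  side : Side W W' X' Q' U F
  card4 : ∀ ν i, Nat.card (F ν i) = 4
  zU : ∀ ν, z ν ∈ U ν
  zF : ∀ ν i, z ν ∉ F ν i
  zZ : ∀ ν, z ν ∈ Z₀
  ZW : Z₀ ≤ W'
  ZQ : ∀ q ∈ Q', ∀ x ∈ Z₀, q * x = x * q
  Zin : ∀ ν x, x ∈ U ν → x ∈ Z₀ → x ∈ zpowers (z ν)
  perm : ∀ x ∈ X', ∀ ν, ∃ μ, (∀ u ∈ U ν, x * u * x⁻¹ ∈ U μ) ∧
    (∀ i, ∃ j, ∀ u ∈ F ν i, x * u * x⁻¹ ∈ F μ j) ∧ x * z ν * x⁻¹ = z μ
  trans : ∀ ν μ, ∃ x ∈ X', (∀ u ∈ U ν, x * u * x⁻¹ ∈ U μ) ∧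
    (∀ i, ∃ j, ∀ u ∈ F ν i, x * u * x⁻¹ ∈ F μ j) ∧ x * z ν * x⁻¹ = z μ
  d8 : ∀ ν, ∃ t ∈ X', (∀ i, ∀ u ∈ F ν i, t * u * t⁻¹ ∈ F ν i) ∧ (∀ u ∈ F ν true, t * u = u * t) ∧
    t * z ν * t⁻¹ = z ν ∧ ∃ u ∈ F ν false, t * u ≠ u * t
  NF : ∀ ν i μ u, u ∈ F ν i → u ≠ 1 → u ∈ U μ → ∃ j, u ∈ F μ j
  NF2 : ∀ ν μ, z ν = z μ → (∀ i, ∃ u ∈ F ν i, u ≠ 1 ∧ u ∈ U μ ⊔ Z₀) → U ν ≤ U μ

theorem bool_third : ∀ a b c : Bool, a ≠ b → b ≠ c → a = c := by decide

theorem bool_ne_not : ∀ a b : Bool, ¬ a = !b → a = b := by decide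

/-- A line of the form `U ν ∩ U μ`. -/
structure Line {N : Type v} (U : N → Subgroup G) (F : N → Bool → Subgroup G) (z : N → G) (ν : N)
    (E : Subgroup G) : Prop where
  le : E ≤ U ν
  zE : z ν ∈ E
  card : Nat.card E = 4
  inf : ∀ i u, u ∈ E → u ∈ F ν i → u = 1
  ex : ∃ μ, z ν = z μ ∧ ∀ u, u ∈ E ↔ u ∈ U ν ∧ u ∈ U μ

namespace Pair

variable {W W' X' Q' : Subgroup G} {N : Type v} {U : N → Subgroup G} {F : N → Bool → Subgroup G}
  {z : N → G} {Z₀ : Subgroup G}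

theorem Uc (h : Pair W W' X' Q' U F z Z₀) {ν μ : N} {a b : G} (ha : a ∈ U ν) (hb : b ∈ U μ) :
    a * b = b * a := h.side.Vc a (h.side.UW ν ha) b (h.side.UW μ hb)

theorem Usq (h : Pair W W' X' Q' U F z Z₀) {ν : N} {a : G} (ha : a ∈ U ν) : a * a = 1 :=
  h.side.Vsq a (h.side.UW ν ha)

theorem Uinv (h : Pair W W' X' Q' U F z Z₀) {ν : N} {a : G} (ha : a ∈ U ν) : a⁻¹ = a :=
  inv_eq_of_mul_eq_one_left (h.Usq ha)

theorem zz (h : Pair W W' X' Q' U F z Z₀) (ν : N) : z ν * z ν = 1 := h.Usq (h.zU ν)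

theorem z_ne (h : Pair W W' X' Q' U F z Z₀) (ν : N) : z ν ≠ 1 :=
  fun e => h.zF ν true (by rw [e]; exact one_mem _)

theorem F_ne (h : Pair W W' X' Q' U F z Z₀) (ν : N) {i j : Bool} (hij : i ≠ j) {u : G}
    (hi : u ∈ F ν i) (hj : u ∈ F ν j) : u = 1 := by
  by_contra hu
  exact hij (h.side.inj ν i j (h.side.TI ν i ν j u hi hj hu))

theorem U_eq (h : Pair W W' X' Q' U F z Z₀) (ν : N) (i : Bool) : U ν = F ν i ⊔ F ν (!i) := by
  apply le_antisymm
  · refine (h.side.Ule ν).trans (iSup_le fun j => ?_)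
    cases i <;> cases j
    · exact le_sup_left
    · exact le_sup_right
    · exact le_sup_right
    · exact le_sup_left
  · exact sup_le (h.side.FU ν _) (h.side.FU ν _)

theorem card_U (h : Pair W W' X' Q' U F z Z₀) [Finite G] (ν : N) : Nat.card (U ν) = 16 := by
  have h1 := card_sup_comm (A := F ν true) (B := F ν false)
    fun a ha b hb => h.Uc (h.side.FU ν _ ha) (h.side.FU ν _ hb)
  have h2 : F ν true ⊓ F ν false = ⊥ := eq_bot_iff.2 fun u hu =>
    mem_bot.2 (h.F_ne ν (by decide) hu.1 hu.2)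
  rw [h2, Subgroup.card_bot, mul_one, h.card4, h.card4] at h1
  rw [h.U_eq ν true]
  exact h1

theorem mem_U (h : Pair W W' X' Q' U F z Z₀) {ν : N} (i : Bool) {u : G} (hu : u ∈ U ν) :
    ∃ a ∈ F ν i, ∃ b ∈ F ν (!i), u = a * b := by
  rw [h.U_eq ν i] at hu
  exact mem_sup_comm (fun a ha b hb => h.Uc (h.side.FU ν _ ha) (h.side.FU ν _ hb)) hu

/-- products of subgroups of a block -/
theorem card_sup (h : Pair W W' X' Q' U F z Z₀) {ν : N} {A B : Subgroup G} (hA : A ≤ U ν)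
    (hB : B ≤ U ν) : Nat.card ↥(A ⊔ B) * Nat.card ↥(A ⊓ B) = Nat.card A * Nat.card B :=
  card_sup_comm fun a ha b hb => h.Uc (hA ha) (hB hb)

/-- subgroups of order `≥ 8` meet the factors -/
theorem meets (h : Pair W W' X' Q' U F z Z₀) [Finite G] {ν : N} (i : Bool) {A : Subgroup G}
    (hA : A ≤ U ν) (h8 : 5 ≤ Nat.card A) : ∃ u ∈ A, u ∈ F ν i ∧ u ≠ 1 := by
  by_contra hcon
  push Not at hcon
  have h1 := h.card_sup hA (h.side.FU ν i)
  have h2 : A ⊓ F ν i = ⊥ := eq_bot_iff.2 fun u hu => mem_bot.2 (by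
    by_contra hne
    exact hne (hcon u hu.1 hu.2))
  rw [h2, Subgroup.card_bot, mul_one, h.card4] at h1
  have h3 : Nat.card ↥(A ⊔ F ν i) ≤ Nat.card (U ν) :=
    Subgroup.card_le_of_le (sup_le hA (h.side.FU ν i))
  rw [h.card_U] at h3
  omega

/-! ### Lines -/

theorem Line.inter (h : Pair W W' X' Q' U F z Z₀) [Finite G] {ν : N} {E E' : Subgroup G}
    (hE : Line U F z ν E) (hzE : z ν ∈ E') (hne : ¬ E ≤ E') {u : G} (hu : u ∈ E) (hu' : u ∈ E') :
    u ∈ zpowers (z ν) := by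
  have hz1 := h.z_ne ν
  have h1 : Nat.card ↥(E ⊓ E') ∣ 4 := by
    rw [← hE.card]
    exact Subgroup.card_dvd_of_le inf_le_left
  have h2 : Nat.card ↥(E ⊓ E') ≠ 4 := by
    intro h2
    apply hne
    have h3 : E ⊓ E' = E := Subgroup.eq_of_le_of_card_ge inf_le_left (by rw [h2, hE.card])
    rw [← h3]
    exact inf_le_right
  have h3 : Nat.card ↥(E ⊓ E') ≤ 2 := by
    have h4 := Nat.le_of_dvd (by norm_num) h1
    interval_cases hh : Nat.card ↥(E ⊓ E') <;> omega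
  have h4 : zpowers (z ν) ≤ E ⊓ E' := zpowers_le.2 ⟨hE.zE, hzE⟩
  have h5 : Nat.card (zpowers (z ν)) = 2 := by
    rw [Nat.card_zpowers]
    exact orderOf_eq_prime (by rw [pow_two]; exact h.zz ν) hz1
  have h6 : zpowers (z ν) = E ⊓ E' := Subgroup.eq_of_le_of_card_ge h4 (by rw [h5]; exact h3)
  rw [h6]
  exact ⟨hu, hu'⟩

theorem card_z (h : Pair W W' X' Q' U F z Z₀) (ν : N) : Nat.card (zpowers (z ν)) = 2 := by
  have hz1 := h.z_ne ν
  rw [Nat.card_zpowers]
  exact orderOf_eq_prime (by rw [pow_two]; exact h.zz ν) hz1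

/-- `Q'` normalises the lines and acts trivially modulo `⟨z⟩`. -/
theorem Line.norm (h : Pair W W' X' Q' U F z Z₀) [Finite G] {ν : N} {E : Subgroup G}
    (hE : Line U F z ν E) {q : G} (hq : q ∈ Q') (e : G) : e ∈ E ↔ q * e * q⁻¹ ∈ E := by
  obtain ⟨μ, -, hμ⟩ := hE.ex
  rw [hμ, hμ, ← h.side.Q_conj hq ν e, ← h.side.Q_conj hq μ e]

theorem z_norm (h : Pair W W' X' Q' U F z Z₀) {x : G} (hx : x ∈ Q') (ν : N) (e : G) :
    e ∈ zpowers (z ν) ↔ x * e * x⁻¹ ∈ zpowers (z ν) := by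
  have h1 : x * z ν * x⁻¹ = z ν := by rw [h.ZQ x hx _ (h.zZ ν)]; group
  rw [mem_zp (h.zz ν), mem_zp (h.zz ν)]
  constructor
  · rintro (rfl | rfl)
    · left; group
    · right; exact h1
  · rintro (h2 | h2)
    · left
      calc e = x⁻¹ * (x * e * x⁻¹) * x := by group
        _ = 1 := by rw [h2]; group
    · right
      calc e = x⁻¹ * (x * e * x⁻¹) * x := by group
        _ = x⁻¹ * (x * z ν * x⁻¹) * x := by rw [h2, h1]
        _ = z ν := by group

theorem relIndex_of_card [Finite G] {K L : Subgroup G} (hKL : K ≤ L) {a b : ℕ}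
    (hK : Nat.card K = a) (hL : Nat.card L = a * b) (ha : 0 < a) : K.relIndex L = b := by
  have h1 := relIndex_mul_relIndex ⊥ K L bot_le hKL
  rw [relIndex_bot_left, relIndex_bot_left, hK, hL] at h1
  exact Nat.eq_of_mul_eq_mul_left ha h1

theorem Line.comm_z (h : Pair W W' X' Q' U F z Z₀) [Finite G] {ν : N} {E : Subgroup G}
    (hE : Line U F z ν E) {q : G} (hq : q ∈ Q') : ∀ e ∈ E, q * e * q⁻¹ * e⁻¹ ∈ zpowers (z ν) := by
  refine comm_mem_of_index_two (relIndex_of_card (zpowers_le.2 hE.zE) (h.card_z ν)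
    (show Nat.card E = 2 * 2 from hE.card) (by norm_num))
    (fun k => h.z_norm hq ν k) fun l hl => (Line.norm h hE hq l).1 hl

theorem U_back (h : Pair W W' X' Q' U F z Z₀) [Finite G] {x : G} {ν μ : N}
    (hx : ∀ u ∈ U ν, x * u * x⁻¹ ∈ U μ) {y : G} (hy : y ∈ U μ) : x⁻¹ * y * x ∈ U ν := by
  have h1 : cj x (U ν) = U μ := by
    refine Subgroup.eq_of_le_of_card_ge ?_ (by rw [card_cj, h.card_U, h.card_U])
    intro w hw
    rw [mem_cj] at hw
    have := hx _ hw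
    have e : x * (x⁻¹ * w * x) * x⁻¹ = w := by group
    rwa [e] at this
  rw [← h1, mem_cj] at hy
  exact hy

theorem Line.conj (h : Pair W W' X' Q' U F z Z₀) [Finite G] {ν μ : N} {E : Subgroup G}
    (hE : Line U F z ν E) {x : G} (hx : x ∈ X') (hxU : ∀ u ∈ U ν, x * u * x⁻¹ ∈ U μ)
    (hxF : ∀ i, ∃ j, ∀ u ∈ F ν i, x * u * x⁻¹ ∈ F μ j) (hxz : x * z ν * x⁻¹ = z μ) :
    Line U F z μ (cj x E) := by
  have e0 : ∀ y : G, x * (x⁻¹ * y * x) * x⁻¹ = y := fun y => by group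
  refine ⟨fun y hy => ?_, ?_, by rw [card_cj, hE.card], fun j y hy hyF => ?_, ?_⟩
  · rw [mem_cj] at hy
    have := hxU _ (hE.le hy)
    rwa [e0] at this
  · rw [mem_cj]
    have : x⁻¹ * z μ * x = z ν := by rw [← hxz]; group
    rw [this]
    exact hE.zE
  · rw [mem_cj] at hy
    set u := x⁻¹ * y * x with hu
    obtain ⟨a, ha, b, hb, hab⟩ := h.mem_U false (hE.le hy)
    obtain ⟨j1, hj1⟩ := hxF false
    obtain ⟨j2, hj2⟩ := hxF true
    have hb' : b ∈ F ν true := hb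
    have hj12 : j1 ≠ j2 := by
      intro e
      subst e
      have h1 : U ν ≤ cj x⁻¹ (F μ j1) := by
        intro w hw
        obtain ⟨c, hc, d, hd, rfl⟩ := h.mem_U false hw
        rw [mem_cj, inv_inv]
        have e2 : x * (c * d) * x⁻¹ = (x * c * x⁻¹) * (x * d * x⁻¹) := by group
        rw [e2]
        exact mul_mem (hj1 c hc) (hj2 d hd)
      have h2 := Subgroup.card_le_of_le h1
      rw [card_cj, h.card4, h.card_U] at h2
      omega
    have h1 := hj1 a ha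
    have h2 := hj2 b hb'
    have hy2 : y = (x * a * x⁻¹) * (x * b * x⁻¹) := by
      have : y = x * u * x⁻¹ := (e0 y).symm
      rw [this, hab]; group
    have hu1 : u = 1 := by
      by_cases hj : j = j1
      · subst hj
        have h3 : x * b * x⁻¹ ∈ F μ j := by
          have := mul_mem (inv_mem h1) hyF
          rwa [hy2, inv_mul_cancel_left] at this
        have h4 := h.F_ne μ hj12 h3 h2
        have h5 : b = 1 := by
          calc b = x⁻¹ * (x * b * x⁻¹) * x := by group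
            _ = 1 := by rw [h4]; group
        rw [hab, h5, mul_one]
        refine hE.inf false a ?_ ha
        rw [h5, mul_one] at hab
        rw [← hab]; exact hy
      · have hj' : j = j2 := bool_third j j1 j2 hj hj12
        subst hj'
        have h3 : x * a * x⁻¹ ∈ F μ j := by
          have := mul_mem hyF (inv_mem h2)
          rwa [hy2, mul_inv_cancel_right] at this
        have h4 := h.F_ne μ hj12 h1 h3
        have h5 : a = 1 := by
          calc a = x⁻¹ * (x * a * x⁻¹) * x := by group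
            _ = 1 := by rw [h4]; group
        rw [hab, h5, one_mul]
        refine hE.inf true b ?_ hb'
        rw [h5, one_mul] at hab
        rw [← hab]; exact hy
    rw [← e0 y, ← hu, hu1]; group
  · obtain ⟨ν', hzν', hν'⟩ := hE.ex
    obtain ⟨μ', hμ', -, hzμ'⟩ := h.perm x hx ν'
    refine ⟨μ', by rw [← hxz, ← hzμ', hzν'], fun y => ?_⟩
    rw [mem_cj, hν']
    constructor
    · rintro ⟨h1, h2⟩
      have h3 := hxU _ h1
      have h4 := hμ' _ h2
      rw [e0] at h3 h4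
      exact ⟨h3, h4⟩
    · rintro ⟨h1, h2⟩
      exact ⟨h.U_back hxU h1, h.U_back hμ' h2⟩

/-- a line projects onto the factors -/
theorem Line.proj (h : Pair W W' X' Q' U F z Z₀) [Finite G] {ν : N} {E : Subgroup G}
    (hE : Line U F z ν E) (i : Bool) {a : G} (ha : a ∈ U ν) : ∃ e ∈ E, ∃ b ∈ F ν i, a = e * b := by
  have h1 := h.card_sup hE.le (h.side.FU ν i)
  have h2 : E ⊓ F ν i = ⊥ := eq_bot_iff.2 fun u hu => mem_bot.2 (hE.inf i u hu.1 hu.2)
  rw [h2, Subgroup.card_bot, mul_one, hE.card, h.card4] at h1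
  have h3 : E ⊔ F ν i = U ν :=
    Subgroup.eq_of_le_of_card_ge (sup_le hE.le (h.side.FU ν i)) (by rw [h1, h.card_U])
  rw [← h3] at ha
  exact mem_sup_comm (fun c hc d hd => h.Uc (hE.le hc) (h.side.FU ν _ hd)) ha

/-- the other line -/
theorem Line.star (h : Pair W W' X' Q' U F z Z₀) [Finite G] {ν : N} {E : Subgroup G}
    (hE : Line U F z ν E) : ∃ E', Line U F z ν E' ∧ ¬ E ≤ E' ∧ ¬ E' ≤ E := by
  obtain ⟨t, ht, htF, htt, htz, a, ha, hta⟩ := h.d8 ν
  have htU : ∀ u ∈ U ν, t * u * t⁻¹ ∈ U ν := by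
    intro u hu
    obtain ⟨c, hc, d, hd, rfl⟩ := h.mem_U false hu
    have e2 : t * (c * d) * t⁻¹ = (t * c * t⁻¹) * (t * d * t⁻¹) := by group
    rw [e2]
    exact mul_mem (h.side.FU ν _ (htF _ c hc)) (h.side.FU ν _ (htF _ d hd))
  have hE' := Line.conj h hE ht htU (fun i => ⟨i, htF i⟩) htz
  have key : ¬ E ≤ cj t E := by
    intro hle
    have h1 : E = cj t E := Subgroup.eq_of_le_of_card_ge hle (by rw [card_cj])
    obtain ⟨e, he, b, hb, hab⟩ := Line.proj h hE true (h.side.FU ν _ ha)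
    have h2 : t * e * t⁻¹ ∈ E := by
      rw [h1, mem_cj]
      have : t⁻¹ * (t * e * t⁻¹) * t = e := by group
      rw [this]; exact he
    have h3 : t * e * t⁻¹ * e⁻¹ ∈ E := mul_mem h2 (inv_mem he)
    have h4 : e = a * b⁻¹ := by rw [hab]; group
    have h5 : t * b⁻¹ * t⁻¹ = b⁻¹ := by rw [htt _ (inv_mem hb)]; group
    have h6 : t * e * t⁻¹ * e⁻¹ = t * a * t⁻¹ * a⁻¹ := by
      calc t * e * t⁻¹ * e⁻¹ = (t * a * t⁻¹) * (t * b⁻¹ * t⁻¹) * b * a⁻¹ := by rw [h4]; group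
        _ = _ := by rw [h5]; group
    rw [h6] at h3
    have h7 := hE.inf false _ h3 (mul_mem (htF _ a ha) (inv_mem ha))
    apply hta
    calc t * a = (t * a * t⁻¹ * a⁻¹) * (a * t) := by group
      _ = a * t := by rw [h7, one_mul]
  refine ⟨cj t E, hE', key, fun hle => key ?_⟩
  have h1 : cj t E = E := Subgroup.eq_of_le_of_card_ge hle (by rw [card_cj])
  exact h1.ge

/-- elements of `D` acting nontrivially on a block swap its factors -/
theorem swap (h : Pair W W' X' Q' U F z Z₀) [Finite G] {c : G} (hcW : c ∈ W) (hcQ : c ∈ Q') {ν : N}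
    {u₀ : G} (hu₀ : u₀ ∈ U ν) (hc : c * u₀ ≠ u₀ * c) (i : Bool) :
    ∀ u ∈ F ν i, c * u * c⁻¹ ∈ F ν (!i) := by
  obtain ⟨j, hj⟩ := h.side.Qp c hcQ ν i
  by_cases hji : j = !i
  · subst hji; exact hj
  exfalso
  have hji' : j = i := bool_ne_not j i hji
  subst hji'
  have h1 := h.side.cent ν j c hcW hj
  obtain ⟨j', hj'⟩ := h.side.Qp c hcQ ν (!j)
  by_cases hjj : j' = !j
  · subst hjj
    have h2 := h.side.cent ν _ c hcW hj'
    apply hc
    obtain ⟨a, ha, b, hb, rfl⟩ := h.mem_U j hu₀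
    calc c * (a * b) = (c * a) * b := by group
      _ = a * (c * b) := by rw [h1 a ha]; group
      _ = a * b * c := by rw [h2 b hb]; group
  · have hjj' : j' = j := bool_ne_not j' j hjj
    subst hjj'
    -- a nontrivial element of `F ν (!j)`
    obtain ⟨y, hy, hy1⟩ : ∃ y ∈ F ν (!j'), y ≠ 1 := by
      by_contra hcon
      push Not at hcon
      have : F ν (!j') = ⊥ := eq_bot_iff.2 fun y hy => mem_bot.2 (hcon y hy)
      have h4 := h.card4 ν (!j')
      rw [this, Subgroup.card_bot] at h4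
      omega
    have h2 := hj' y hy
    have h3 := h1 _ h2
    have h4 : c * y * c⁻¹ = y := by
      have : c * (c * y * c⁻¹) * c⁻¹ = c * y * c⁻¹ := by rw [h3]; group
      calc c * y * c⁻¹ = c⁻¹ * (c * (c * y * c⁻¹) * c⁻¹) * c := by group
        _ = c⁻¹ * (c * y * c⁻¹) * c := by rw [this]
        _ = y := by group
    rw [h4] at h2
    exact hy1 (h.F_ne ν (by simp) h2 hy)

/-- the elements of `U ν` centralised by a swap are commutators -/
theorem fix_eq (h : Pair W W' X' Q' U F z Z₀) [Finite G] {c : G} (hcW : c ∈ W) (hcQ : c ∈ Q') {ν : N}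
    {u₀ : G} (hu₀ : u₀ ∈ U ν) (hc : c * u₀ ≠ u₀ * c) {e : G} (he : e ∈ U ν) (hce : c * e = e * c) :
    ∃ a ∈ F ν false, e = c * a * c⁻¹ * a⁻¹ := by
  obtain ⟨a, ha, b, hb, rfl⟩ := h.mem_U false he
  have hb' : b ∈ F ν true := hb
  have h1 := h.swap hcW hcQ hu₀ hc false a ha
  have h2 := h.swap hcW hcQ hu₀ hc true b hb'
  have h3 : (c * a * c⁻¹) * (c * b * c⁻¹) = a * b := by
    calc (c * a * c⁻¹) * (c * b * c⁻¹) = c * (a * b) * c⁻¹ := by group
      _ = a * b := by rw [hce]; group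
  have h4 : a⁻¹ * (c * b * c⁻¹) = b * (c * a * c⁻¹)⁻¹ := by
    have h5 := h.Uc (h.side.FU ν _ h1) (h.side.FU ν _ h2)
    rw [h5] at h3
    calc a⁻¹ * (c * b * c⁻¹) = a⁻¹ * ((c * b * c⁻¹) * (c * a * c⁻¹)) * (c * a * c⁻¹)⁻¹ := by group
      _ = b * (c * a * c⁻¹)⁻¹ := by rw [h3]; group
  have h5 : a⁻¹ * (c * b * c⁻¹) = 1 :=
    h.F_ne ν (i := false) (j := true) (by decide) (mul_mem (inv_mem ha) h2)
      (by rw [h4]; exact mul_mem hb' (inv_mem h1))
  have h6 : b = c * a * c⁻¹ := by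
    rw [h5] at h4
    have := h4.symm
    rwa [mul_inv_eq_one] at this
  refine ⟨a, ha, ?_⟩
  rw [h6, h.Uinv (h.side.FU ν _ ha)]
  exact h.Uc (h.side.FU ν _ ha) (h.side.FU ν _ h1)

/-- **The line of an element of `D`.** -/
theorem line_of (h : Pair W W' X' Q' U F z Z₀) [Finite G] {c : G} (hcW : c ∈ W) (hcQ : c ∈ Q') {ν : N}
    {u₀ : G} (hu₀ : u₀ ∈ U ν) (hc : c * u₀ ≠ u₀ * c) :
    Line U F z ν (U ν ⊓ centralizer ({c} : Set G)) := by
  have hmem : ∀ {e : G}, e ∈ U ν ⊓ centralizer ({c} : Set G) ↔ e ∈ U ν ∧ c * e = e * c := by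
    intro e
    rw [mem_inf, mem_centralizer_iff]
    constructor
    · rintro ⟨h1, h2⟩; exact ⟨h1, h2 c rfl⟩
    · rintro ⟨h1, h2⟩; exact ⟨h1, fun y hy => by rw [Set.mem_singleton_iff.1 hy]; exact h2⟩
  set E := U ν ⊓ centralizer ({c} : Set G) with hE
  have hle : E ≤ U ν := inf_le_left
  have hinf : ∀ i u, u ∈ E → u ∈ F ν i → u = 1 := by
    intro i u hu huF
    have h1 := h.swap hcW hcQ hu₀ hc i u huF
    have h2 : c * u * c⁻¹ = u := by rw [(hmem.1 hu).2]; group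
    rw [h2] at h1
    exact h.F_ne ν (by cases i <;> decide) huF h1
  have hc2 : c * c = 1 := h.side.Wsq c hcW
  have hcard : Nat.card E = 4 := by
    apply le_antisymm
    · have h1 := h.card_sup hle (h.side.FU ν false)
      have h2 : E ⊓ F ν false = ⊥ := eq_bot_iff.2 fun u hu => mem_bot.2 (hinf _ u hu.1 hu.2)
      rw [h2, Subgroup.card_bot, mul_one, h.card4] at h1
      have h3 : Nat.card ↥(E ⊔ F ν false) ≤ Nat.card (U ν) :=
        Subgroup.card_le_of_le (sup_le hle (h.side.FU ν false))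
      rw [h.card_U] at h3
      omega
    · rw [← h.card4 ν false]
      have h1 : ∀ a ∈ F ν false, c * a * c⁻¹ ∈ F ν true := h.swap hcW hcQ hu₀ hc false
      have h2 : ∀ a ∈ F ν false, a * (c * a * c⁻¹) ∈ E := by
        intro a haF
        have ha := h.side.FU ν _ haF
        have hb := h.side.FU ν _ (h1 a haF)
        refine hmem.2 ⟨mul_mem ha hb, ?_⟩
        have e1 : c * (c * a * c⁻¹) * c⁻¹ = a := by
          calc c * (c * a * c⁻¹) * c⁻¹ = (c * c) * a * (c * c)⁻¹ := by group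
            _ = a := by rw [hc2]; group
        calc c * (a * (c * a * c⁻¹)) = (c * a * c⁻¹) * (c * (c * a * c⁻¹) * c⁻¹) * c := by
              group
          _ = (c * a * c⁻¹) * a * c := by rw [e1]
          _ = a * (c * a * c⁻¹) * c := by rw [h.Uc hb ha]
      refine Nat.card_le_card_of_injective (fun a : F ν false => (⟨_, h2 a a.2⟩ : E)) ?_
      rintro ⟨a, ha⟩ ⟨a', ha'⟩ haa
      have h3 : a * (c * a * c⁻¹) = a' * (c * a' * c⁻¹) := congrArg Subtype.val haa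
      have h4 : a'⁻¹ * a = (c * a' * c⁻¹) * (c * a * c⁻¹)⁻¹ := by
        calc a'⁻¹ * a = a'⁻¹ * (a * (c * a * c⁻¹)) * (c * a * c⁻¹)⁻¹ := by group
          _ = _ := by rw [h3]; group
      have h5 : a'⁻¹ * a = 1 := h.F_ne ν (i := false) (j := true) (by decide)
        (mul_mem (inv_mem ha') ha)
        (by rw [h4]; exact mul_mem (h1 _ ha') (inv_mem (h1 _ ha)))
      exact Subtype.ext (by rw [inv_mul_eq_one] at h5; exact h5.symm)
  have hzE : z ν ∈ E := hmem.2 ⟨h.zU ν, h.ZQ c hcQ _ (h.zZ ν)⟩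
  refine ⟨hle, hzE, hcard, hinf, ?_⟩
  -- `W` moves `U ν`
  have hmv : ∃ w ∈ W, ∃ u ∈ U ν, w * u * w⁻¹ ∉ U ν := by
    by_contra hcon
    push Not at hcon
    exact hc (h.side.mv ν hcon c hcW u₀ hu₀)
  obtain ⟨w, hw, u, hu, hwu⟩ := hmv
  obtain ⟨μ, hμ, -, hzμ⟩ := h.perm w (h.side.WX hw) ν
  have hfix : ∀ e ∈ E, w * e * w⁻¹ = e := by
    intro e he
    obtain ⟨a, ha, hea⟩ := h.fix_eq hcW hcQ hu₀ hc (hle he) (hmem.1 he).2
    have h1 := h.side.cm_cent hcW (h.side.UW ν (h.side.FU ν _ ha)) hw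
    rw [← hea] at h1
    rw [h1]; group
  have hEμ : E ≤ U μ := by
    intro e he
    have h2 := hμ e (hle he)
    rwa [hfix e he] at h2
  have hK : Nat.card ↥(U ν ⊓ U μ) ≤ 4 := by
    by_contra hcon
    push Not at hcon
    obtain ⟨y, hy, hyF, hy1⟩ := h.meets false (A := U ν ⊓ U μ) inf_le_left hcon
    obtain ⟨j, hj⟩ := h.NF ν false μ y hyF hy1 hy.2
    have h1 := h.side.TI ν false μ j y hyF hj hy1
    have h2 : E ⊔ F ν false ≤ U μ := sup_le hEμ (by rw [h1]; exact h.side.FU μ j)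
    have h3 := h.card_sup hle (h.side.FU ν false)
    have h4 : E ⊓ F ν false = ⊥ := eq_bot_iff.2 fun u hu => mem_bot.2 (hinf _ u hu.1 hu.2)
    rw [h4, Subgroup.card_bot, mul_one, h.card4, hcard] at h3
    have h5 : E ⊔ F ν false = U ν := Subgroup.eq_of_le_of_card_ge
      (sup_le hle (h.side.FU ν false)) (by rw [h3, h.card_U])
    rw [h5] at h2
    have h6 : U ν = U μ := Subgroup.eq_of_le_of_card_ge h2 (by rw [h.card_U, h.card_U])
    apply hwu
    rw [h6]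
    exact hμ u hu
  have hEK : E = U ν ⊓ U μ := Subgroup.eq_of_le_of_card_ge (le_inf hle hEμ) (by rw [hcard]; exact hK)
  refine ⟨μ, by rw [← hzμ, hfix _ hzE], fun y => ?_⟩
  rw [hEK]
  exact mem_inf

/-- if `D` does not centralise `W'`, every block has a line -/
theorem exists_line (h : Pair W W' X' Q' U F z Z₀) [Finite G]
    (hD : ¬ W ⊓ Q' ≤ centralizer (W' : Set G)) (ν : N) : ∃ E, Line U F z ν E := by
  obtain ⟨ν₀, c, hc, u, hu, hcu⟩ := h.side.exists_block hD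
  obtain ⟨x, hx, hxU, hxF, hxz⟩ := h.trans ν₀ ν
  exact ⟨_, Line.conj h (h.line_of hc.1 hc.2 hu hcu) hx hxU hxF hxz⟩

theorem zW (h : Pair W W' X' Q' U F z Z₀) (ν : N) : zpowers (z ν) ≤ W' :=
  zpowers_le.2 (h.side.UW ν (h.zU ν))

theorem z_le (h : Pair W W' X' Q' U F z Z₀) (ν : N) : zpowers (z ν) ≤ Z₀ := zpowers_le.2 (h.zZ ν)

/-- the commutators of `Q'` with a block -/
theorem comm_block (h : Pair W W' X' Q' U F z Z₀) [Finite G] {ν : N} {E E' : Subgroup G}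
    (hE : Line U F z ν E) (hE' : Line U F z ν E') (hne : ¬ E ≤ E') {q : G} (hq : q ∈ Q') :
    (∀ u ∈ U ν, q * u * q⁻¹ * u⁻¹ ∈ E ⊔ E') ∧ ∀ x ∈ E ⊔ E', q * x * q⁻¹ * x⁻¹ ∈ zpowers (z ν) := by
  have hc : ∀ a ∈ E, ∀ b ∈ E', a * b = b * a := fun a ha b hb => h.Uc (hE.le ha) (hE'.le hb)
  have hinf : E ⊓ E' = zpowers (z ν) := le_antisymm
    (fun u hu => Line.inter h hE hE'.zE hne hu.1 hu.2) (zpowers_le.2 ⟨hE.zE, hE'.zE⟩)
  have h8 : Nat.card ↥(E ⊔ E') = 8 := by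
    have h1 := h.card_sup hE.le hE'.le
    rw [hinf, h.card_z ν, hE.card, hE'.card] at h1
    omega
  have hle : E ⊔ E' ≤ U ν := sup_le hE.le hE'.le
  have hnorm : ∀ p ∈ Q', ∀ k ∈ E ⊔ E', p * k * p⁻¹ ∈ E ⊔ E' := by
    intro p hp k hk
    obtain ⟨a, ha, b, hb, rfl⟩ := mem_sup_comm hc hk
    have e1 : p * (a * b) * p⁻¹ = (p * a * p⁻¹) * (p * b * p⁻¹) := by group
    rw [e1]
    exact mul_mem (mem_sup_left ((Line.norm h hE hp a).1 ha))
      (mem_sup_right ((Line.norm h hE' hp b).1 hb))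
  constructor
  · refine comm_mem_of_index_two (relIndex_of_card hle h8
      (show Nat.card (U ν) = 8 * 2 from h.card_U ν) (by norm_num)) (fun k => ⟨hnorm q hq k, fun hk => ?_⟩)
      fun l hl => h.side.Qn q hq ν l hl
    have := hnorm q⁻¹ (inv_mem hq) _ hk
    have e1 : q⁻¹ * (q * k * q⁻¹) * q⁻¹⁻¹ = k := by group
    rwa [e1] at this
  · intro x hx
    obtain ⟨a, ha, b, hb, rfl⟩ := mem_sup_comm hc hx
    have h1 := Line.comm_z h hE hq a ha
    have h2 := Line.comm_z h hE' hq b hb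
    have h3 := h.zW ν h2
    have e1 : q * (a * b) * q⁻¹ * (a * b)⁻¹ = (q * a * q⁻¹) * ((q * b * q⁻¹ * b⁻¹) * a⁻¹) := by group
    rw [e1, h.side.Vc _ h3 _ (inv_mem (h.side.UW ν (hE.le ha))), ← mul_assoc]
    exact mul_mem h1 h2

/-- the elements of `W'` whose commutators with `R` lie in `K` -/
def KK (h : Pair W W' X' Q' U F z Z₀) (R K : Subgroup G) (hK : K ≤ W') : Subgroup G where
  carrier := {v | v ∈ W' ∧ ∀ q ∈ R, q * v * q⁻¹ * v⁻¹ ∈ K}
  mul_mem' := by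
    rintro v w ⟨hv, hv'⟩ ⟨hw, hw'⟩
    refine ⟨mul_mem hv hw, fun q hq => ?_⟩
    have e1 : q * (v * w) * q⁻¹ * (v * w)⁻¹ = (q * v * q⁻¹) * ((q * w * q⁻¹ * w⁻¹) * v⁻¹) := by group
    rw [e1, h.side.Vc _ (hK (hw' q hq)) _ (inv_mem hv), ← mul_assoc]
    exact mul_mem (hv' q hq) (hw' q hq)
  one_mem' := ⟨one_mem _, fun q _ => by
    have e1 : q * 1 * q⁻¹ * 1⁻¹ = 1 := by group
    rw [e1]; exact one_mem _⟩
  inv_mem' := by
    rintro v ⟨hv, hv'⟩
    refine ⟨inv_mem hv, ?_⟩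
    have e1 : v⁻¹ = v := inv_eq_of_mul_eq_one_left (h.side.Vsq v hv)
    rw [e1]
    exact hv'

theorem mem_KK (h : Pair W W' X' Q' U F z Z₀) {R K : Subgroup G} {hK : K ≤ W'} {v : G} :
    v ∈ h.KK R K hK ↔ v ∈ W' ∧ ∀ q ∈ R, q * v * q⁻¹ * v⁻¹ ∈ K := Iff.rfl

/-- **`[W', Q', Q'] ≤ Z₀`** -/
theorem comm_comm (h : Pair W W' X' Q' U F z Z₀) [Finite G]
    (hD : ¬ W ⊓ Q' ≤ centralizer (W' : Set G)) : ⁅W', Q'⁆ ≤ h.KK Q' Z₀ h.ZW := by
  set K2 := h.KK Q' Z₀ h.ZW with hK2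
  have hK2W : K2 ≤ W' := fun v hv => hv.1
  have h1 : W' ≤ h.KK Q' K2 hK2W := by
    refine h.side.Wle.trans (iSup_le fun ν => fun u hu => ⟨h.side.UW ν hu, fun q hq => ?_⟩)
    obtain ⟨E, hE⟩ := h.exists_line hD ν
    obtain ⟨E', hE', hne, -⟩ := Line.star h hE
    have h2 := (h.comm_block hE hE' hne hq).1 u hu
    refine ⟨h.side.UW ν (sup_le hE.le hE'.le h2), fun p hp => ?_⟩
    exact h.z_le ν ((h.comm_block hE hE' hne hp).2 _ h2)
  rw [commutator_le]
  intro v hv q hq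
  have h2 := (h1 hv).2 q hq
  have e1 : ⁅v, q⁆ = (q * v * q⁻¹ * v⁻¹)⁻¹ := by rw [commutatorElement_def]; group
  rw [e1]
  exact inv_mem h2

/-- elements acting nontrivially have large commutators -/
theorem exists_big (h : Pair W W' X' Q' U F z Z₀) [Finite G] {c : G} (hcW : c ∈ W) (hcQ : c ∈ Q')
    {ν : N} {u₀ : G} (hu₀ : u₀ ∈ U ν) (hc : c * u₀ ≠ u₀ * c) :
    ∃ v ∈ U ν, c * v * c⁻¹ * v⁻¹ ∉ zpowers (z ν) ∧ c * v * c⁻¹ * v⁻¹ ∈ U ν ⊓ centralizer ({c} : Set G) := by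
  by_contra hcon
  push Not at hcon
  have hmem : ∀ v ∈ U ν, c * v * c⁻¹ * v⁻¹ ∈ U ν ⊓ centralizer ({c} : Set G) := by
    intro v hv
    have h1 : c * v * c⁻¹ * v⁻¹ ∈ U ν := mul_mem (h.side.Qn c hcQ ν v hv) (inv_mem hv)
    refine mem_inf.2 ⟨h1, mem_centralizer_iff.2 fun y hy => ?_⟩
    rw [Set.mem_singleton_iff.1 hy]
    exact h.side.cm_cent hcW (h.side.UW ν hv) hcW
  have hall : ∀ v ∈ U ν, c * v * c⁻¹ * v⁻¹ ∈ zpowers (z ν) := by
    intro v hv
    by_contra hne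
    exact hcon v hv hne (hmem v hv)
  have h1 : Nat.card (F ν false) ≤ Nat.card (zpowers (z ν)) := by
    refine Nat.card_le_card_of_injective
      (fun a : F ν false => (⟨_, hall a (h.side.FU ν _ a.2)⟩ : zpowers (z ν))) ?_
    rintro ⟨a, ha⟩ ⟨b, hb⟩ hab
    have h2 : c * a * c⁻¹ * a⁻¹ = c * b * c⁻¹ * b⁻¹ := congrArg Subtype.val hab
    -- `b⁻¹ a` is centralised by `c`
    have h3 : c * (b⁻¹ * a) * c⁻¹ = b⁻¹ * a := by
      calc c * (b⁻¹ * a) * c⁻¹ = (c * b * c⁻¹)⁻¹ * (c * a * c⁻¹) := by group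
        _ = (c * b * c⁻¹ * b⁻¹ * b)⁻¹ * (c * a * c⁻¹ * a⁻¹ * a) := by group
        _ = b⁻¹ * a := by rw [h2]; group
    have h4 : b⁻¹ * a ∈ F ν false := mul_mem (inv_mem hb) ha
    have h5 := h.swap hcW hcQ hu₀ hc false _ h4
    rw [h3] at h5
    have h6 := h.F_ne ν (i := false) (j := true) (by decide) h4 h5
    exact Subtype.ext (by rw [inv_mul_eq_one] at h6; exact h6.symm)
  rw [h.card4, h.card_z ν] at h1
  omega

/-- **The chain step.** -/
theorem step (h : Pair W W' X' Q' U F z Z₀) [Finite G]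
    (hD : ¬ W ⊓ Q' ≤ centralizer (W' : Set G)) {E₀ : Subgroup G} (hE₀ : E₀ ≤ W ⊓ Q')
    {ν : N} {c u₀ : G} (hcE : c ∈ E₀) (hu₀ : u₀ ∈ U ν) (hc : c * u₀ ≠ u₀ * c) :
    (E₀ ⊓ centralizer (U ν : Set G)).relIndex E₀ = 2 ∧
      4 ≤ (⁅W', Q'⁆ ⊔ (W' ⊓ centralizer (E₀ : Set G))).relIndex
        (⁅W', Q'⁆ ⊔ (W' ⊓ centralizer ((E₀ ⊓ centralizer (U ν : Set G) : Subgroup G) : Set G))) := by
  set E₁ := E₀ ⊓ centralizer (U ν : Set G) with hE₁
  have hcW := (hE₀ hcE).1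
  have hcQ := (hE₀ hcE).2
  have hcE₁ : c ∉ E₁ := fun h1 => hc (mem_centralizer_iff.1 h1.2 u₀ hu₀).symm
  constructor
  · rw [relIndex_eq_two_iff]
    refine ⟨c, hcE, fun b hb => ?_⟩
    by_cases hb1 : b ∈ E₁
    · refine Or.inr ⟨hb1, fun hbc => hcE₁ ?_⟩
      have := mul_mem (inv_mem hb1) hbc
      rwa [inv_mul_cancel_left] at this
    · refine Or.inl ⟨⟨mul_mem hb hcE, ?_⟩, hb1⟩
      -- `b` moves something
      obtain ⟨u, hu, hbu⟩ : ∃ u ∈ U ν, b * u ≠ u * b := by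
        by_contra hcon
        push Not at hcon
        exact hb1 ⟨hb, mem_centralizer_iff.2 fun u hu => (hcon u hu).symm⟩
      have hbW := (hE₀ hb).1
      have hbQ := (hE₀ hb).2
      have key : ∀ i, ∀ y ∈ F ν i, (b * c) * y = y * (b * c) := by
        intro i
        refine h.side.cent ν i _ (mul_mem hbW hcW) fun y hy => ?_
        have h1 := h.swap hcW hcQ hu₀ hc i y hy
        have h2 := h.swap hbW hbQ hu hbu _ _ h1
        rw [Bool.not_not] at h2
        have e1 : b * c * y * (b * c)⁻¹ = b * (c * y * c⁻¹) * b⁻¹ := by group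
        rw [e1]; exact h2
      show b * c ∈ centralizer (U ν : Set G)
      rw [mem_centralizer_iff]
      intro y hy
      obtain ⟨a, ha, a', ha', rfl⟩ := h.mem_U false hy
      calc a * a' * (b * c) = a * (a' * (b * c)) := by group
        _ = a * ((b * c) * a') := by rw [key _ a' ha']
        _ = (a * (b * c)) * a' := by group
        _ = (b * c) * a * a' := by rw [key _ a ha]
        _ = b * c * (a * a') := by group
  · -- the lines
    have hE := h.line_of hcW hcQ hu₀ hc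
    set E := U ν ⊓ centralizer ({c} : Set G) with hEd
    obtain ⟨Es, hEs, hne, hne'⟩ := Line.star h hE
    obtain ⟨μ, hzμ, hμ⟩ := hEs.ex
    -- `c` moves `U μ`
    obtain ⟨e, he, hce⟩ : ∃ e ∈ Es, c * e ≠ e * c := by
      by_contra hcon
      push Not at hcon
      apply hne'
      intro e he
      exact mem_inf.2 ⟨hEs.le he, mem_centralizer_iff.2 fun y hy => by
        rw [Set.mem_singleton_iff.1 hy]; exact hcon e he⟩
    have heμ : e ∈ U μ := ((hμ e).1 he).2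
    have hE' := h.line_of hcW hcQ heμ hce
    set E' := U μ ⊓ centralizer ({c} : Set G) with hEd'
    -- `E₁` centralises `U μ`
    have hE₁μ : ∀ d ∈ E₁, ∀ y ∈ U μ, d * y = y * d := by
      intro d hd y hy
      by_contra hdy
      have hdW := (hE₀ hd.1).1
      have hdQ := (hE₀ hd.1).2
      have hL := h.line_of hdW hdQ hy hdy
      have h1 : Es ≤ U μ ⊓ centralizer ({d} : Set G) := by
        intro x hx
        refine mem_inf.2 ⟨((hμ x).1 hx).2, mem_centralizer_iff.2 fun w hw => ?_⟩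
        rw [Set.mem_singleton_iff.1 hw]
        exact (mem_centralizer_iff.1 hd.2 x (hEs.le hx)).symm
      have h2 : E' ≤ U μ ⊓ centralizer ({d} : Set G) := by
        intro x hx
        refine mem_inf.2 ⟨hx.1, mem_centralizer_iff.2 fun w hw => ?_⟩
        rw [Set.mem_singleton_iff.1 hw]
        obtain ⟨a, ha, hxa⟩ := h.fix_eq hcW hcQ heμ hce hx.1
          (mem_centralizer_iff.1 hx.2 c rfl)
        rw [hxa]
        exact h.side.cm_cent hcW (h.side.UW μ (h.side.FU μ _ ha)) hdW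
      have h3 : Es = U μ ⊓ centralizer ({d} : Set G) :=
        Subgroup.eq_of_le_of_card_ge h1 (by rw [hL.card, hEs.card])
      have h4 : E' = U μ ⊓ centralizer ({d} : Set G) :=
        Subgroup.eq_of_le_of_card_ge h2 (by rw [hL.card, hE'.card])
      apply hce
      have h5 : e ∈ E' := by rw [h4, ← h3]; exact he
      exact mem_centralizer_iff.1 h5.2 c rfl
    obtain ⟨v, hv, hvz, hvE⟩ := h.exists_big hcW hcQ hu₀ hc
    obtain ⟨v', hv', hvz', hvE'⟩ := h.exists_big hcW hcQ heμ hce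
    have hvW := h.side.UW ν hv
    have hvW' := h.side.UW μ hv'
    have hvz₀ : c * v * c⁻¹ * v⁻¹ ∉ Z₀ := fun h1 => hvz (h.Zin ν _ hvE.1 h1)
    have hvz₀' : c * v' * c⁻¹ * v'⁻¹ ∉ Z₀ := fun h1 => hvz' (h.Zin μ _ hvE'.1 h1)
    set Kc := h.KK (zpowers c) Z₀ h.ZW with hKc
    have hKc' : ∀ x ∈ Kc, c * x * c⁻¹ * x⁻¹ ∈ Z₀ := fun x hx => hx.2 c (mem_zpowers c)
    have hc2 : c * c = 1 := h.side.Wsq c hcW
    have hKK : ∀ x ∈ W', c * x * c⁻¹ * x⁻¹ ∈ Z₀ → x ∈ Kc := by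
      intro x hx hcx
      refine ⟨hx, fun q hq => ?_⟩
      rcases (mem_zp hc2).1 hq with rfl | rfl
      · have e1 : (1 : G) * x * 1⁻¹ * x⁻¹ = 1 := by group
        rw [e1]; exact one_mem _
      · exact hcx
    have hvv : v * v' ∉ Kc := by
      intro hx
      have h1 := hKc' _ hx
      have h2 : c * (v * v') * c⁻¹ * (v * v')⁻¹ =
          (c * v * c⁻¹ * v⁻¹) * (c * v' * c⁻¹ * v'⁻¹) := by
        have h3 : c * v' * c⁻¹ * v'⁻¹ ∈ W' := h.side.UW μ hvE'.1
        calc c * (v * v') * c⁻¹ * (v * v')⁻¹ =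
            (c * v * c⁻¹) * ((c * v' * c⁻¹ * v'⁻¹) * v⁻¹) := by group
          _ = (c * v * c⁻¹) * (v⁻¹ * (c * v' * c⁻¹ * v'⁻¹)) := by
              rw [h.side.Vc _ h3 _ (inv_mem hvW)]
          _ = _ := by group
      rw [h2] at h1
      -- the first factor lies in `U μ ⊔ Z₀`
      have h3 : c * v * c⁻¹ * v⁻¹ ∈ U μ ⊔ Z₀ := by
        have := mul_mem (mem_sup_right h1 : _ ∈ U μ ⊔ Z₀) (mem_sup_left (inv_mem hvE'.1))
        rwa [mul_inv_cancel_right] at this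
      have hzEs : z ν ∈ Es := hEs.zE
      have h4 : ¬ c * v * c⁻¹ * v⁻¹ ∈ Es := fun h4 => hvz (Line.inter h hE hEs.zE hne hvE h4)
      have h5 : 5 ≤ Nat.card ↥(U ν ⊓ (U μ ⊔ Z₀)) := by
        by_contra hlt
        push Not at hlt
        have h6 : Es ≤ U ν ⊓ (U μ ⊔ Z₀) := fun x hx => ⟨hEs.le hx, mem_sup_left ((hμ x).1 hx).2⟩
        have h7 : Es = U ν ⊓ (U μ ⊔ Z₀) := Subgroup.eq_of_le_of_card_ge h6 (by rw [hEs.card]; omega)
        apply h4
        rw [h7]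
        exact ⟨hvE.1, h3⟩
      have h6 : U ν ≤ U μ := by
        refine h.NF2 ν μ hzμ fun i => ?_
        obtain ⟨y, hy, hyF, hy1⟩ := h.meets i (A := U ν ⊓ (U μ ⊔ Z₀)) inf_le_left h5
        exact ⟨y, hyF, hy1, hy.2⟩
      exact hne fun x hx => (hμ x).2 ⟨hE.le hx, h6 (hE.le hx)⟩
    -- the index
    have hKle : ⁅W', Q'⁆ ⊔ (W' ⊓ centralizer (E₀ : Set G)) ≤ Kc := by
      refine sup_le (fun x hx => ?_) fun x hx => ?_
      · have h1 := h.comm_comm hD hx
        exact hKK x h1.1 (h1.2 c hcQ)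
      · refine hKK x hx.1 ?_
        have h1 := mem_centralizer_iff.1 hx.2 c hcE
        have e1 : c * x * c⁻¹ * x⁻¹ = 1 := by rw [h1]; group
        rw [e1]; exact one_mem _
    have hvL : ∀ x, x ∈ U ν ∨ x ∈ U μ → x ∈ ⁅W', Q'⁆ ⊔ (W' ⊓ centralizer (E₁ : Set G)) := by
      rintro x (hx | hx)
      · refine mem_sup_right (mem_inf.2 ⟨h.side.UW ν hx, mem_centralizer_iff.2 fun d hd => ?_⟩)
        exact (mem_centralizer_iff.1 (mem_inf.1 hd).2 x hx).symm
      · exact mem_sup_right (mem_inf.2 ⟨h.side.UW μ hx, mem_centralizer_iff.2 fun d hd =>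
          hE₁μ d hd x hx⟩)
    set K := ⁅W', Q'⁆ ⊔ (W' ⊓ centralizer (E₀ : Set G)) with hK
    set L := ⁅W', Q'⁆ ⊔ (W' ⊓ centralizer (E₁ : Set G)) with hL
    have hKL : K ≤ L := sup_le_sup_left (inf_le_inf_left _ (centralizer_le inf_le_left)) _
    have hLW : L ≤ W' := by
      refine sup_le ?_ inf_le_left
      exact (h.comm_comm hD).trans fun x hx => hx.1
    have hcomm : ∀ a ∈ K, ∀ b ∈ zpowers v, a * b = b * a := fun a ha b hb =>
      h.side.Vc a (hLW (hKL ha)) b ((zpowers_le.2 hvW) hb)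
    have hK1 : K ⊔ zpowers v ≤ L := sup_le hKL (zpowers_le.2 (hvL v (Or.inl hv)))
    have h1 : 2 ≤ K.relIndex (K ⊔ zpowers v) :=
      two_le_relIndex (mem_sup_right (mem_zpowers v)) fun hx => hvz₀ (hKc' v (hKle hx))
    have h2 : 2 ≤ (K ⊔ zpowers v).relIndex L := by
      refine two_le_relIndex (hvL v' (Or.inr hv')) fun hx => ?_
      obtain ⟨a, ha, b, hb, hab⟩ := mem_sup_comm hcomm hx
      rcases (mem_zp (h.side.Vsq v hvW)).1 hb with rfl | rfl
      · rw [mul_one] at hab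
        exact hvz₀' (hKc' v' (hKle (by rw [hab]; exact ha)))
      · apply hvv
        have h3 : b * v' = a := by
          rw [hab, h.side.Vc a (hLW (hKL ha)) b hvW, ← mul_assoc, h.side.Vsq b hvW, one_mul]
        rw [h3]; exact hKle ha
    rw [← relIndex_mul_relIndex K (K ⊔ zpowers v) L le_sup_left hK1]
    calc 4 = 2 * 2 := by norm_num
      _ ≤ _ := Nat.mul_le_mul h1 h2

theorem relIndex_pos [Finite G] (K L : Subgroup G) : 0 < K.relIndex L := by
  rw [Subgroup.relIndex]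
  exact Nat.pos_of_ne_zero Subgroup.index_ne_zero_of_finite

/-- **The chain.** -/
theorem chain (h : Pair W W' X' Q' U F z Z₀) [Finite G]
    (hD : ¬ W ⊓ Q' ≤ centralizer (W' : Set G)) : ∀ (m : ℕ) (E₀ : Subgroup G), E₀ ≤ W ⊓ Q' →
      Nat.card E₀ ≤ m → (centralizer (W' : Set G)).relIndex E₀ ^ 2 ≤
        (⁅W', Q'⁆ ⊔ (W' ⊓ centralizer (E₀ : Set G))).relIndex W' := by
  intro m
  induction m with
  | zero =>
    intro E₀ _ hm
    have : 0 < Nat.card E₀ := Nat.card_pos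
    omega
  | succ m ih =>
    intro E₀ hE₀ hm
    by_cases hcen : E₀ ≤ centralizer (W' : Set G)
    · rw [relIndex_eq_one.2 hcen, one_pow]
      exact relIndex_pos _ _
    · obtain ⟨ν, c, hc, u, hu, hcu⟩ := h.side.exists_block hcen
      obtain ⟨h2, h4⟩ := h.step hD hE₀ hc hu hcu
      set E₁ := E₀ ⊓ centralizer (U ν : Set G) with hE₁
      have hlt : Nat.card E₁ < Nat.card E₀ := by
        refine lt_of_le_of_ne (Subgroup.card_le_of_le inf_le_left) fun e => ?_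
        have h3 : E₁ = E₀ := Subgroup.eq_of_le_of_card_ge inf_le_left e.ge
        have h5 : c ∈ E₁ := by rw [h3]; exact hc
        exact hcu (mem_centralizer_iff.1 h5.2 u hu).symm
      have h3 := ih E₁ (inf_le_left.trans hE₀) (by omega)
      have h5 : (centralizer (W' : Set G)).relIndex E₀ =
          (centralizer (W' : Set G)).relIndex E₁ * 2 := by
        rw [← h2]
        exact Side.relIndex_step inf_le_left fun x hx =>
          ⟨hx.1, centralizer_le (h.side.UW ν) hx.2⟩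
      have hLW : ⁅W', Q'⁆ ⊔ (W' ⊓ centralizer (E₁ : Set G)) ≤ W' := by
        refine sup_le ?_ inf_le_left
        exact (h.comm_comm hD).trans fun x hx => hx.1
      have h6 := relIndex_mul_relIndex (⁅W', Q'⁆ ⊔ (W' ⊓ centralizer (E₀ : Set G)))
        (⁅W', Q'⁆ ⊔ (W' ⊓ centralizer (E₁ : Set G))) W'
        (sup_le_sup_left (inf_le_inf_left _ (centralizer_le inf_le_left)) _) hLW
      rw [h5, ← h6]
      calc ((centralizer (W' : Set G)).relIndex E₁ * 2) ^ 2 =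
          4 * (centralizer (W' : Set G)).relIndex E₁ ^ 2 := by ring
        _ ≤ _ := Nat.mul_le_mul h4 h3

/-- **(B): `f' > f`.** -/
theorem main (h : Pair W W' X' Q' U F z Z₀) [Finite G] (hWQ : W ⊓ centralizer (W' : Set G) ≤ Q')
    (hne : ¬ W ≤ centralizer (W' : Set G))
    (h1 : (W ⊓ Q').relIndex W ≤ (centralizer (W : Set G)).relIndex ⁅W', Q'⁆)
    (h2 : (W ⊓ Q').relIndex W ^ 2 ≤ (centralizer (W : Set G)).relIndex W') :
    (centralizer (W' : Set G)).relIndex W < (centralizer (W : Set G)).relIndex W' := by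
  have h3 : (centralizer (W' : Set G)).relIndex W =
      (centralizer (W' : Set G)).relIndex (W ⊓ Q') * (W ⊓ Q').relIndex W :=
    Side.relIndex_step inf_le_left fun x hx => ⟨hx.1, hWQ hx⟩
  have hf : 2 ≤ (centralizer (W' : Set G)).relIndex W := by
    have h4 := relIndex_pos (centralizer (W' : Set G)) W
    have h5 : (centralizer (W' : Set G)).relIndex W ≠ 1 := fun e => hne (relIndex_eq_one.1 e)
    omega
  by_cases hD : W ⊓ Q' ≤ centralizer (W' : Set G)
  · rw [relIndex_eq_one.2 hD, one_mul] at h3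
    rw [h3] at hf ⊢
    calc (W ⊓ Q').relIndex W < (W ⊓ Q').relIndex W ^ 2 := by
          rw [pow_two]
          exact lt_mul_of_one_lt_left (by omega) (by omega)
      _ ≤ _ := h2
  · have hA : 2 ≤ (centralizer (W' : Set G)).relIndex (W ⊓ Q') := by
      have h4 := relIndex_pos (centralizer (W' : Set G)) (W ⊓ Q')
      have h5 : (centralizer (W' : Set G)).relIndex (W ⊓ Q') ≠ 1 :=
        fun e => hD (relIndex_eq_one.1 e)
      omega
    obtain ⟨ν, -⟩ := h.side.exists_block hD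
    have h4 := h.chain hD _ _ le_rfl le_rfl
    set W₁ := ⁅W', Q'⁆ with hW₁
    have hW₁W : W₁ ≤ W' := (h.comm_comm hD).trans fun x hx => hx.1
    set C := W' ⊓ centralizer (W : Set G) with hC
    have h5 : (centralizer (W : Set G)).relIndex W' =
        C.relIndex (W₁ ⊔ C) * (W₁ ⊔ C).relIndex W' := by
      rw [relIndex_mul_relIndex _ _ _ le_sup_right (sup_le hW₁W inf_le_left)]
      exact (inf_relIndex_left _ _).symm
    have h6 : (centralizer (W : Set G)).relIndex W₁ ≤ C.relIndex (W₁ ⊔ C) := by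
      have h7 : (centralizer (W : Set G)).relIndex W₁ = C.relIndex W₁ := by
        rw [← inf_relIndex_right (centralizer (W : Set G)) W₁, ← inf_relIndex_right C W₁]
        congr 1
        rw [hC]
        refine le_antisymm (fun x hx => ⟨⟨hW₁W hx.2, hx.1⟩, hx.2⟩) fun x hx => ⟨hx.1.2, hx.2⟩
      rw [h7]
      exact relIndex_le_of_le_right le_sup_left (relIndex_pos _ _).ne'
    have h7 : (W₁ ⊔ (W' ⊓ centralizer ((W ⊓ Q' : Subgroup G) : Set G))).relIndex W' ≤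
        (W₁ ⊔ C).relIndex W' :=
      relIndex_le_of_le_left (sup_le_sup_left (inf_le_inf_left _ (centralizer_le inf_le_left)) _)
        (relIndex_pos _ _).ne'
    rw [h3, h5]
    set A := (centralizer (W' : Set G)).relIndex (W ⊓ Q') with hAd
    set r := (W ⊓ Q').relIndex W with hr
    have hr0 : 0 < r := relIndex_pos _ _
    calc A * r < A ^ 2 * r := by
          rw [pow_two, mul_assoc]
          exact lt_mul_of_one_lt_left (Nat.mul_pos (by omega) hr0) (by omega)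
      _ = r * A ^ 2 := by ring
      _ ≤ C.relIndex (W₁ ⊔ C) * (W₁ ⊔ C).relIndex W' :=
          Nat.mul_le_mul (h1.trans h6) (h4.trans h7)

end Pair

end Cfsg.Agent.Omega.OmThm.FourPair
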