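import Cfsg.Agent.Omega.OmThm.Conn
import Cfsg.Agent.Omega.OmThm.FourPair
import Cfsg.Agent.PLocal.OffenderStep

/-!
# THEOREM OM for `|U_i| = 4`, all `k`

bb OMEGA #15139, #17319, blueprints/OMEGA-NO3S-Om-helper12.md.

* `Hyp.fix` : the fixed point of `N_{O₂(X)}(B i)` in `B i`;
* `Hyp.no_pair` : **(B')** all orbits of `O₂(X)` on the factors have length 2: impossible;
* `Hyp.no_four` : `|U_i| = 4` is impossible.
-/

set_option autoImplicit false

namespace Cfsg.Agent.Omega.OmThm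

open Subgroup Cfsg.Agent.Omega.NoFF.Basic Cfsg.Agent.ZN Cfsg.Agent.MinSimple.VModule
open scoped Pointwise commutatorElement

variable {G : Type*} [Group G] {I : Type*} {B : I → Subgroup G} {U : Subgroup G} {q : ℕ} {S P X : Subgroup G}

namespace Fac

variable (D : Fac I B U q)
include D

theorem inj (hq : 2 ≤ q) {i j : I} (h : B i = B j) : i = j := by
  by_contra hne
  obtain ⟨x, hx, hx1⟩ := D.bne hq 1 i
  rw [map_one, one_smul] at hx
  apply hx1
  have h1 : x ∈ B i ⊓ (⨆ j, ⨆ (_ : j ≠ i), B j) :=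
    ⟨hx, (le_iSup₂_of_le (f := fun (j : I) (_ : j ≠ i) => B j) j (Ne.symm hne) le_rfl) (h ▸ hx)⟩
  rw [D.ind i, mem_bot] at h1
  exact h1

theorem inj' (hq : 2 ≤ q) {ν : G} {i j : I} (h : MulAut.conj ν • B i = MulAut.conj ν • B j) : i = j :=
  D.inj hq (by
    have h1 := congrArg (fun A => MulAut.conj ν⁻¹ • A) h
    simpa only [conj_conj, inv_mul_cancel, map_one, one_smul] using h1)

/-- an element of a factor in the product of two factors -/
theorem two_mem {ν x : G} {l i j : I} (hx : x ∈ MulAut.conj ν • B l) (hx1 : x ≠ 1)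
    (h : x ∈ MulAut.conj ν • (B i ⊔ B j)) : l = i ∨ l = j := by
  by_contra hcon
  push Not at hcon
  apply hx1
  refine D.ind' hx ?_
  rw [smul_sup] at h
  refine (sup_le ?_ ?_ : MulAut.conj ν • B i ⊔ MulAut.conj ν • B j ≤ _) h
  · exact le_iSup₂_of_le (f := fun (j : I) (_ : j ≠ l) => MulAut.conj ν • B j) i (Ne.symm hcon.1) le_rfl
  · exact le_iSup₂_of_le (f := fun (j : I) (_ : j ≠ l) => MulAut.conj ν • B j) j (Ne.symm hcon.2) le_rfl

/-- components with respect to two factors -/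
theorem comp {i j : I} (hij : i ≠ j) {a a' b b' : G} (ha : a ∈ B i) (ha' : a' ∈ B i) (hb : b ∈ B j) (hb' : b' ∈ B j)
    (h : a * b = a' * b') : a = a' ∧ b = b' := by
  have h1 : a'⁻¹ * a = b' * b⁻¹ := by
    calc a'⁻¹ * a = a'⁻¹ * (a * b) * b⁻¹ := by group
      _ = b' * b⁻¹ := by rw [h]; group
  have h3 : b' * b⁻¹ ∈ B j := mul_mem hb' (inv_mem hb)
  have h2 : a'⁻¹ * a ∈ B i ⊓ (⨆ l, ⨆ (_ : l ≠ i), B l) := by
    refine mem_inf.2 ⟨(B i).mul_mem ((B i).inv_mem ha') ha, ?_⟩
    rw [h1]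
    exact (le_iSup₂_of_le (f := fun (l : I) (_ : l ≠ i) => B l) j (Ne.symm hij) le_rfl) h3
  rw [D.ind i, mem_bot] at h2
  rw [h2] at h1
  exact ⟨(inv_mul_eq_one.1 h2).symm, (mul_inv_eq_one.1 h1.symm).symm⟩

theorem sup_comm' {i j : I} {x : G} (hx : x ∈ B i ⊔ B j) : ∃ a ∈ B i, ∃ b ∈ B j, x = a * b :=
  SideBase.mem_sup_comm (fun a ha b hb => D.comm a (D.le i ha) b (D.le j hb)) hx

end Fac

namespace Hyp

/-- The fixed point of `N_{O₂(X)}(B i)` in `B i`. -/
theorem fix [Finite G] (h : Hyp I B U 4 S P X) (htr : ∀ i j, ∃ s ∈ X, MulAut.conj s • B i = B j) (i : I) :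
    ∃ z ∈ B i, z ≠ 1 ∧ (∀ t ∈ o2 X, MulAut.conj t • B i = B i → t * z = z * t) ∧
      ∀ u ∈ B i, (∀ t ∈ o2 X, MulAut.conj t • B i = B i → t * u = u * t) → u = 1 ∨ u = z := by
  obtain ⟨x, hx, t, ht, htB, hne⟩ := h.h4_tr htr i
  set K : Subgroup G := o2 X ⊓ normalizer (B i : Set G) with hK
  have hmem : ∀ {u}, u ∈ centralizer (K : Set G) ↔ ∀ t ∈ o2 X, MulAut.conj t • B i = B i → t * u = u * t := by
    intro u
    rw [mem_centralizer_iff]
    constructor
    · exact fun h1 t ht htB => h1 t ⟨ht, conj_eq_iff.1 htB⟩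
    · exact fun h1 t ht => h1 t ht.1 (conj_eq_iff.2 ht.2)
  have hsq : ∀ u ∈ B i, u * u = 1 := fun u hu => h.fac.sq u (h.fac.le i hu)
  have h2 : IsPGroup 2 (B i) := by
    intro u
    refine ⟨1, Subtype.ext ?_⟩
    have := hsq u u.2
    simp only [pow_one, Subgroup.coe_pow, Subgroup.coe_one]
    rw [pow_two]
    exact this
  have hne' : B i ≠ ⊥ := by
    intro h0
    have := h.fac.card i
    rw [h0, Subgroup.card_bot] at this
    omega
  set C : Subgroup G := B i ⊓ centralizer (K : Set G) with hC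
  have : Fact (Nat.Prime 2) := ⟨Nat.prime_two⟩
  have hCne : C ≠ ⊥ := Cfsg.Agent.PLocal.OffenderStep.inf_centralizer_ne_bot (B i) K h2
    ((o2_isPGroup X).to_le inf_le_left) inf_le_right hne'
  have hCB : C ≠ B i := by
    intro h0
    have h1 : x ∈ C := by rw [h0]; exact hx
    exact hne (hmem.1 h1.2 t ht htB)
  have hcard : Nat.card C = 2 := by
    have h1 : Nat.card C ∣ 4 := by
      rw [← h.fac.card i]
      exact Subgroup.card_dvd_of_le inf_le_left
    have h3 : Nat.card C ≠ 4 := fun h3 => hCB (Subgroup.eq_of_le_of_card_ge inf_le_left (by rw [h3, h.fac.card]))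
    have h4 : Nat.card C ≠ 1 := fun h4 => hCne (Subgroup.card_eq_one.1 h4)
    have h5 := Nat.le_of_dvd (by norm_num) h1
    interval_cases hh : Nat.card C <;> omega
  obtain ⟨z, hz⟩ := Subgroup.ne_bot_iff_exists_ne_one.1 hCne
  have hz1 : (z : G) ≠ 1 := fun h0 => hz (Subtype.ext h0)
  have hzz : (z : G) * z = 1 := hsq _ z.2.1
  have hzp : zpowers (z : G) = C := by
    refine Subgroup.eq_of_le_of_card_ge (zpowers_le.2 z.2) ?_
    rw [hcard, Nat.card_zpowers, orderOf_eq_prime (by rw [pow_two]; exact hzz) hz1]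
  refine ⟨z, z.2.1, hz1, hmem.1 z.2.2, fun u hu hu' => ?_⟩
  have h1 : u ∈ C := ⟨hu, hmem.2 hu'⟩
  rw [← hzp] at h1
  exact (SideBase.mem_zp hzz).1 h1

/-- (NF) for two conjugates of `U`. -/
theorem nf (h : Hyp I B U q S P X)
    (hNF : ∀ i, ∀ x ∈ X, ∀ u ∈ B i, u ≠ 1 → u ∈ MulAut.conj x • U → ∃ j, u ∈ MulAut.conj x • B j)
    {μ ν u : G} (hμ : μ ∈ X) (hν : ν ∈ X) {i : I} (hu : u ∈ MulAut.conj μ • B i) (hu1 : u ≠ 1)
    (huν : u ∈ MulAut.conj ν • U) : ∃ j, u ∈ MulAut.conj ν • B j ∧ MulAut.conj μ • B i = MulAut.conj ν • B j := by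
  obtain ⟨j, hj⟩ := hNF i (μ⁻¹ * ν) (mul_mem (inv_mem hμ) hν) (μ⁻¹ * u * μ) (mem_conj.1 hu) (by
    intro h0
    apply hu1
    have : u = μ * (μ⁻¹ * u * μ) * μ⁻¹ := by group
    rw [this, h0]; group) (by
    rw [mem_conj] at huν ⊢
    have e : (μ⁻¹ * ν)⁻¹ * (μ⁻¹ * u * μ) * (μ⁻¹ * ν) = ν⁻¹ * u * ν := by group
    rwa [e])
  have h1 : u ∈ MulAut.conj ν • B j := by
    rw [mem_conj] at hj ⊢
    have e : (μ⁻¹ * ν)⁻¹ * (μ⁻¹ * u * μ) * (μ⁻¹ * ν) = ν⁻¹ * u * ν := by group
    rwa [e] at hj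
  exact ⟨j, h1, h.fac.ti_mem hu h1 hu1⟩

/-- two nontrivial elements with nontrivial product in a factor -/
theorem two_elts [Finite G] (h : Hyp I B U q S P X) (hq : 4 ≤ q) (μ : G) (j : I) :
    ∃ u₁ ∈ MulAut.conj μ • B j, ∃ u₂ ∈ MulAut.conj μ • B j, u₁ ≠ 1 ∧ u₂ ≠ 1 ∧ u₂ * u₁ ≠ 1 := by
  obtain ⟨u₁, hu₁, hu₁1⟩ := h.fac.bne (by omega) μ j
  obtain ⟨u₂, hu₂, hu₂1, hu₁₂⟩ : ∃ u₂ ∈ MulAut.conj μ • B j, u₂ ≠ 1 ∧ u₂ * u₁ ≠ 1 := by
    by_contra hcon
    push Not at hcon
    have h1 : MulAut.conj μ • B j ≤ zpowers u₁ := by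
      intro y hy
      by_cases hy1 : y = 1
      · rw [hy1]; exact one_mem _
      · have := hcon y hy hy1
        rw [mul_eq_one_iff_eq_inv] at this
        rw [this]; exact inv_mem (mem_zpowers _)
    have h2 := Subgroup.card_le_of_le h1
    rw [card_conj, h.fac.card, Nat.card_zpowers] at h2
    have h3 : orderOf u₁ ≤ 2 := by
      refine orderOf_le_of_pow_eq_one (by norm_num) ?_
      have h4 := h.fac.sq _ (h.fac.le j (mem_conj.1 hu₁))
      have : u₁ ^ 2 = μ * (μ⁻¹ * u₁ * μ * (μ⁻¹ * u₁ * μ)) * μ⁻¹ := by rw [pow_two]; group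
      rw [this, h4]; group
    omega
  exact ⟨u₁, hu₁, u₂, hu₂, hu₁1, hu₂1, hu₁₂⟩

/-- The pairs of factors: `σ i` is the other element of the `O₂(X)`-orbit of `i`. -/
structure Sg (X : Subgroup G) (B : I → Subgroup G) (σ : I → I) : Prop where
  ne : ∀ i, σ i ≠ i
  inv : ∀ i, σ (σ i) = i
  ex : ∀ i, ∃ t ∈ o2 X, MulAut.conj t • B i = B (σ i)
  orb : ∀ i, ∀ t ∈ o2 X, MulAut.conj t • B i = B i ∨ MulAut.conj t • B i = B (σ i)

section Pairs

variable {σ : I → I} (h : Hyp I B U 4 S P X) (hs : Sg X B σ)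
include h hs

theorem sg_inv {t : G} (ht : t ∈ o2 X) {i : I} (h1 : MulAut.conj t • B i = B (σ i)) :
    MulAut.conj t • B (σ i) = B i := by
  rcases hs.orb (σ i) t ht with h2 | h2
  · exfalso
    have h3 := h.fac.inj' (by norm_num) (h2.trans h1.symm)
    exact hs.ne i h3
  · rw [h2, hs.inv]

theorem sg_fix {t : G} (ht : t ∈ o2 X) {i : I} (h1 : MulAut.conj t • B i = B i) :
    MulAut.conj t • B (σ i) = B (σ i) := by
  rcases hs.orb (σ i) t ht with h2 | h2
  · exact h2
  · rw [hs.inv] at h2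
    exact absurd (h.fac.inj' (by norm_num) (h2.trans h1.symm)) (hs.ne i)

/-- `X` respects the pairs -/
theorem sg_X {x : G} (hx : x ∈ X) {i j : I} (hxB : MulAut.conj x • B i = B j) :
    MulAut.conj x • B (σ i) = B (σ j) := by
  obtain ⟨t, ht, htB⟩ := hs.ex i
  have h1 : MulAut.conj (x * t * x⁻¹) • B j = MulAut.conj x • B (σ i) := by
    rw [← htB, ← hxB, conj_conj, conj_conj]
    congr 2
    group
  rcases hs.orb j _ (conj_mem_o2 hx ht) with h2 | h2
  · exfalso
    rw [h1, ← hxB] at h2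
    exact hs.ne i (h.fac.inj' (by norm_num) h2)
  · rw [← h1, h2]

theorem pair_o2 {ν t : G} (hν : ν ∈ X) (ht : t ∈ o2 X) (i : I) {v : G} (hv : v ∈ MulAut.conj ν • (B i ⊔ B (σ i))) :
    t * v * t⁻¹ ∈ MulAut.conj ν • (B i ⊔ B (σ i)) := by
  have ht' : ν⁻¹ * t * ν ∈ o2 X := by
    have := conj_mem_o2 (inv_mem hν) ht
    rwa [inv_inv] at this
  have h1 : MulAut.conj (ν⁻¹ * t * ν) • (B i ⊔ B (σ i)) ≤ B i ⊔ B (σ i) := by
    rw [smul_sup]
    rcases hs.orb i _ ht' with h2 | h2
    · rw [h2, h.sg_fix hs ht' h2]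
    · rw [h2, h.sg_inv hs ht' h2, sup_comm]
  rw [mem_conj] at hv ⊢
  have h2 := h1 (mem_conj_of_mem hv)
  have e : ν⁻¹ * t * ν * (ν⁻¹ * v * ν) * (ν⁻¹ * t * ν)⁻¹ = ν⁻¹ * (t * v * t⁻¹) * ν := by group
  rwa [e] at h2

end Pairs

/-- **THEOREM OM (B')**: all orbits of `O₂(X)` on the factors have length 2: impossible. -/
theorem no_pair [Finite G] (h : Hyp I B U 4 S P X) {σ : I → I} (hs : Sg X B σ)
    (htr : ∀ i j, ∃ s ∈ X, MulAut.conj s • B i = B j)
    (hT : ∀ i, ∃ t ∈ X, MulAut.conj t • B i = B i ∧ (∀ u ∈ B (σ i), t * u = u * t) ∧ ∃ u ∈ B i, t * u ≠ u * t)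
    (hNF : ∀ i, ∀ x ∈ X, ∀ u ∈ B i, u ≠ 1 → u ∈ MulAut.conj x • U → ∃ j, u ∈ MulAut.conj x • B j) : False := by
  -- the fixed points
  choose z hzB hz1 hzt hzu using h.fix htr
  have hzX : ∀ x ∈ X, ∀ i j, MulAut.conj x • B i = B j → x * z i * x⁻¹ = z j := by
    intro x hx i j hxB
    have h1 := hzu j (x * z i * x⁻¹) (hxB ▸ mem_conj_of_mem (hzB i)) (by
      intro t ht htB
      have h2 : MulAut.conj (x⁻¹ * t * x) • B i = B i := by
        have h3 : MulAut.conj (t * x) • B i = MulAut.conj x • B i := by rw [← conj_conj, hxB, htB]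
        have h4 := congrArg (fun A => MulAut.conj x⁻¹ • A) h3
        simp only [conj_conj, inv_mul_cancel, map_one, one_smul] at h4
        rwa [← mul_assoc] at h4
      have h3 := hzt i (x⁻¹ * t * x) (by
        have := conj_mem_o2 (inv_mem hx) ht
        rwa [inv_inv] at this) h2
      have h4 := congrArg (fun y => x * y * x⁻¹) h3
      simpa [mul_assoc] using h4)
    refine h1.resolve_left fun h0 => hz1 i ?_
    have : z i = x⁻¹ * (x * z i * x⁻¹) * x := by group
    rw [this, h0]; group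
  -- `Z₀`
  set Z₀ : Subgroup G := U ⊓ centralizer (o2 X : Set G) with hZ₀
  have hodd : ∀ u ∈ Z₀, ∀ x ∈ oddGen X, u * x = x * u := by
    intro u hu x hx
    by_contra hne
    exact h.no_center le_rfl ⟨u, hu, x, hx, hne⟩
  have hXZ : X ≤ normalizer (Z₀ : Set G) := by
    refine h.gen.trans (sup_le (fun x hx => ?_) (fun s hs' => ?_))
    · rw [mem_normalizer_iff]
      intro y
      constructor
      · intro hy
        rw [← hodd y hy x hx, mul_inv_cancel_right]; exact hy
      · intro hy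
        have h1 := hodd _ hy x hx
        have h2 : x * y * x⁻¹ = y := by
          have h3 : x * (x * y * x⁻¹) * x⁻¹ = x * y * x⁻¹ := by rw [← h1]; group
          have h4 : x * y * x⁻¹ = x⁻¹ * (x * (x * y * x⁻¹) * x⁻¹) * x := by group
          rw [h4, h3]; group
        rw [← h2]; exact hy
    · rw [MinSimple.CosetGraph.mem_normalizer_iff_conj_smul, smul_inf]
      rw [conj_eq_iff.2 ((h.SP.trans h.nP) hs'), ← MinSimple.CosetFam.centralizer_conj,
        conj_eq_iff.2 (le_normalizer_o2 X (h.SX hs'))]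
  have hZν : ∀ ν ∈ X, Z₀ ≤ MulAut.conj ν • U := by
    intro ν hν
    rw [← conj_eq_iff.2 (hXZ hν)]
    exact conj_le_iff.2 inf_le_left
  have hcB : ∀ {i j}, ∀ a ∈ B i, ∀ b ∈ B j, a * b = b * a := fun a ha b hb =>
    h.fac.comm a (h.fac.le _ ha) b (h.fac.le _ hb)
  have hζ : ∀ i, z i * z (σ i) ∈ Z₀ := by
    intro i
    refine ⟨mul_mem (h.fac.le _ (hzB i)) (h.fac.le _ (hzB (σ i))), mem_centralizer_iff.2 fun t ht => ?_⟩
    rcases hs.orb i t ht with h1 | h1
    · have h2 := hzt i t ht h1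
      have h3 := hzt (σ i) t ht (h.sg_fix hs ht h1)
      calc t * (z i * z (σ i)) = (t * z i) * z (σ i) := by group
        _ = z i * (t * z (σ i)) := by rw [h2]; group
        _ = z i * z (σ i) * t := by rw [h3]; group
    · have h2 := hzX t (h.SX (h.QX ht)) i (σ i) h1
      have h3 := hzX t (h.SX (h.QX ht)) (σ i) i (h.sg_inv hs ht h1)
      have h4 := hcB (z i) (hzB i) (z (σ i)) (hzB (σ i))
      calc t * (z i * z (σ i)) = (t * z i * t⁻¹) * (t * z (σ i) * t⁻¹) * t := by group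
        _ = z (σ i) * z i * t := by rw [h2, h3]
        _ = z i * z (σ i) * t := by rw [h4]
  -- the counting argument
  refine h.false_of_lt fun g h1 h2 hne => ?_
  have hpr := h.pr h1 h2
  set E := MulAut.conj g • V U X with hE
  have hUβ : ∀ (β : X × I), MulAut.conj (β.1 : G) • (B β.2 ⊔ B (σ β.2)) ≤ MulAut.conj (β.1 : G) • U :=
    fun β => conj_le_iff.2 (sup_le (h.fac.le _) (h.fac.le _))
  have hidx : ∀ (i : I) (b : Bool), B (bif b then σ i else i) ≤ B i ⊔ B (σ i) := by
    intro i b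
    cases b
    · exact le_sup_left
    · exact le_sup_right
  have hFσ : ∀ (ν : G) (i : I) (b : Bool), MulAut.conj ν • B (bif b then σ i else i) ≤
      MulAut.conj ν • (B i ⊔ B (σ i)) := fun ν i b => conj_le_iff.2 (hidx i b)
  have hside : SideBase.Side E (V U X) X (o2 X) (N := X × I)
      (fun β => MulAut.conj (β.1 : G) • (B β.2 ⊔ B (σ β.2)))
      (fun β b => MulAut.conj (β.1 : G) • B (bif b then σ β.2 else β.2)) := by
    have hs0 := h.side le_rfl h1 h2
    exact
    { QX := hs0.QX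
      WX := hs0.WX
      Wc := hs0.Wc
      Wsq := hs0.Wsq
      Vc := hs0.Vc
      Vsq := hs0.Vsq
      cm := hs0.cm
      Vn := hs0.Vn
      UW := fun β => (hUβ β).trans (Z_le_V β.1.2)
      Wle := V_le fun x hx => by
        rw [h.fac.sup, conj_smul_iSup]
        refine iSup_le fun i => ?_
        exact le_trans (conj_le_iff.2 le_sup_left)
          (le_iSup (fun β : X × I => MulAut.conj (β.1 : G) • (B β.2 ⊔ B (σ β.2))) (⟨x, hx⟩, i))
      FU := fun β b => hFσ β.1 β.2 b
      Ule := fun β => by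
        rw [smul_sup]
        exact sup_le (le_iSup (fun b : Bool => MulAut.conj (β.1 : G) • B (bif b then σ β.2 else β.2)) false)
          (le_iSup (fun b : Bool => MulAut.conj (β.1 : G) • B (bif b then σ β.2 else β.2)) true)
      Qn := fun t ht β v hv => h.pair_o2 hs β.1.2 ht β.2 hv
      Qp := by
        rintro t ht ⟨ν, i⟩ b
        have ht' : (ν : G)⁻¹ * t * ν ∈ o2 X := by
          have := conj_mem_o2 (inv_mem ν.2) ht
          rwa [inv_inv] at this
        have key : ∀ {l m : I}, MulAut.conj ((ν : G)⁻¹ * t * ν) • B l = B m →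
            ∀ u ∈ MulAut.conj (ν : G) • B l, t * u * t⁻¹ ∈ MulAut.conj (ν : G) • B m := by
          intro l m hlm u hu
          rw [← hlm, conj_conj]
          have e : (ν : G) * ((ν : G)⁻¹ * t * ν) = t * ν := by group
          rw [e, ← conj_conj]
          exact mem_conj_of_mem hu
        rcases hs.orb i _ ht' with h3 | h3
        · cases b
          · exact ⟨false, key h3⟩
          · exact ⟨true, key (h.sg_fix hs ht' h3)⟩
        · cases b
          · exact ⟨true, key h3⟩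
          · exact ⟨false, key (h.sg_inv hs ht' h3)⟩
      TI := fun β i γ j u hu hu' hu1 => h.fac.ti_mem hu hu' hu1
      inj := by
        rintro ⟨ν, i⟩ b b' hbb
        have h3 := h.fac.inj' (by norm_num) hbb
        cases b <;> cases b'
        · rfl
        · exact absurd h3.symm (hs.ne i)
        · exact absurd h3 (hs.ne i)
        · rfl
      O1 := fun β i u hu hu1 g hg v hv => conj_mem (h.fac.nor' hu hu1 hg).1 hv
      cent := by
        intro β b w hw hn
        refine hpr.cen β.1.2 hw ?_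
        refine Subgroup.eq_of_le_of_card_ge (fun y hy => ?_) (card_conj w _).ge
        rw [mem_conj] at hy
        have := hn _ hy
        have e : w * (w⁻¹ * y * w) * w⁻¹ = y := by group
        rwa [e] at this
      mv := by
        rintro ⟨ν, i⟩ hn w hw x hx
        by_contra hwx
        -- a factor
        obtain ⟨b, y, hy, hwy⟩ : ∃ b : Bool, ∃ y ∈ MulAut.conj (ν : G) • B (bif b then σ i else i),
            w * y ≠ y * w := by
          by_contra hcon
          push Not at hcon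
          apply hwx
          have h3 : MulAut.conj (ν : G) • (B i ⊔ B (σ i)) ≤ centralizer ({w} : Set G) := by
            rw [smul_sup]
            exact sup_le (fun y hy => mem_centralizer_singleton_iff.2 (hcon false y hy).symm)
              (fun y hy => mem_centralizer_singleton_iff.2 (hcon true y hy).symm)
          exact (mem_centralizer_singleton_iff.1 (h3 hx)).symm
        obtain ⟨μ, hμ, j, u, hu, huy⟩ := hpr.exists_ne hw hwy
        obtain ⟨u₁, hu₁, u₂, hu₂, hu₁1, hu₂1, hu₁₂⟩ := h.two_elts le_rfl μ j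
        have hEW : MulAut.conj μ • B j ≤ E := (h.fac.le' μ j).trans (hpr.le μ hμ)
        have hap := fun {v : G} (hv : v ∈ MulAut.conj μ • B j) (hv1 : v ≠ 1) =>
          (hpr.apart hμ ν.2 hu hy huy hv hv1).1
        -- the image of the factor
        have himg : ∀ v ∈ MulAut.conj μ • B j, v ≠ 1 → ∀ c : Bool,
            MulAut.conj v • MulAut.conj (ν : G) • B (bif c then σ i else i) =
              MulAut.conj (ν : G) • B i ∨
            MulAut.conj v • MulAut.conj (ν : G) • B (bif c then σ i else i) =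
              MulAut.conj (ν : G) • B (σ i) := by
          intro v hv hv1 c
          obtain ⟨s, hs', hs1⟩ := h.fac.bne (by norm_num) (ν : G) (bif c then σ i else i)
          have h3 : v * s * v⁻¹ ∈ MulAut.conj (ν : G) • (B i ⊔ B (σ i)) :=
            hn v (hEW hv) s (hFσ ν i c hs')
          have h4 : v * s * v⁻¹ ∈ MulAut.conj (v * (ν : G)) • B (bif c then σ i else i) := by
            rw [← conj_conj]; exact mem_conj_of_mem hs'
          have h5 : v * s * v⁻¹ ≠ 1 := by
            intro h0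
            apply hs1
            have : s = v⁻¹ * (v * s * v⁻¹) * v := by group
            rw [this, h0]; group
          obtain ⟨l, hl, hl'⟩ := h.nf hNF (mul_mem (h2 (hEW hv)) ν.2) ν.2 h4 h5 (hUβ (ν, i) h3)
          rw [conj_conj, hl']
          rcases h.fac.two_mem hl h5 h3 with h6 | h6
          · left; rw [h6]
          · right; rw [h6]
        have hsw : ∀ v ∈ MulAut.conj μ • B j, v ≠ 1 →
            MulAut.conj v • MulAut.conj (ν : G) • B (bif b then σ i else i) =
              MulAut.conj (ν : G) • B (bif !b then σ i else i) := by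
          intro v hv hv1
          have h3 := himg v hv hv1 b
          have h4 := hap hv hv1
          cases b
          · exact h3.resolve_left h4
          · exact h3.resolve_right h4
        have hsw' : MulAut.conj u₂ • MulAut.conj (ν : G) • B (bif !b then σ i else i) =
              MulAut.conj (ν : G) • B (bif b then σ i else i) := by
          have h3 := himg u₂ hu₂ hu₂1 (!b)
          have h4 := hsw u₂ hu₂ hu₂1
          have h5 : MulAut.conj u₂ • MulAut.conj (ν : G) • B (bif !b then σ i else i) ≠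
              MulAut.conj (ν : G) • B (bif !b then σ i else i) := by
            intro h5
            have h6 := h5.trans h4.symm
            have h7 := congrArg (fun A => MulAut.conj u₂⁻¹ • A) h6
            simp only [conj_conj, inv_mul_cancel_left] at h7
            have h8 := h.fac.inj' (by norm_num) h7
            cases b
            · exact hs.ne i h8
            · exact hs.ne i h8.symm
          cases b
          · exact h3.resolve_right h5
          · exact h3.resolve_left h5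
        refine hap (mul_mem hu₂ hu₁) hu₁₂ ?_
        rw [← conj_conj, hsw u₁ hu₁ hu₁1, hsw'] }
  have hcν : ∀ (ν : G) (x y : G), ν * (x * y) * ν⁻¹ = (ν * x * ν⁻¹) * (ν * y * ν⁻¹) := fun ν x y => by group
  have T : FourPair.Pair E (V U X) X (o2 X) (N := X × I)
      (fun β => MulAut.conj (β.1 : G) • (B β.2 ⊔ B (σ β.2)))
      (fun β b => MulAut.conj (β.1 : G) • B (bif b then σ β.2 else β.2))
      (fun β => (β.1 : G) * (z β.2 * z (σ β.2)) * (β.1 : G)⁻¹) Z₀ :=
    { side := hside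
      card4 := fun β b => by rw [card_conj, h.fac.card]
      zU := fun β => mem_conj_of_mem (mul_mem (mem_sup_left (hzB _)) (mem_sup_right (hzB _)))
      zF := by
        rintro ⟨ν, i⟩ b hb
        rw [mem_conj] at hb
        have e : (ν : G)⁻¹ * ((ν : G) * (z i * z (σ i)) * (ν : G)⁻¹) * ν = z i * z (σ i) := by group
        rw [e] at hb
        cases b
        · have h3 := h.fac.comp (hs.ne i).symm (hzB i) hb (hzB (σ i)) (one_mem _) (by rw [mul_one])
          exact hz1 _ h3.2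
        · have h3 := h.fac.comp (hs.ne i).symm (hzB i) (one_mem _) (hzB (σ i)) hb (by rw [one_mul])
          exact hz1 _ h3.1
      zZ := fun β => (mem_normalizer_iff.1 (hXZ β.1.2) _).1 (hζ β.2)
      ZW := inf_le_left.trans XD.U_le_W
      ZQ := fun t ht x hx => mem_centralizer_iff.1 hx.2 t ht
      Zin := by
        rintro ⟨ν, i⟩ x hx hxZ
        rw [mem_conj] at hx
        have hxZ' : (ν : G)⁻¹ * x * ν ∈ Z₀ := by
          have := (mem_normalizer_iff.1 (hXZ (inv_mem ν.2)) x).1 hxZ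
          rwa [inv_inv] at this
        obtain ⟨a, ha, b, hb, hab⟩ := h.fac.sup_comm' hx
        have hZt : ∀ t ∈ o2 X, (t * a * t⁻¹) * (t * b * t⁻¹) = a * b := by
          intro t ht
          have h3 := mem_centralizer_iff.1 hxZ'.2 t ht
          rw [hab] at h3
          rw [← hcν, h3, mul_inv_cancel_right]
        have ha' : a = 1 ∨ a = z i := by
          refine hzu i a ha fun t ht htB => ?_
          have h3 := h.fac.comp (hs.ne i).symm (conj_mem htB ha) ha
            (conj_mem (h.sg_fix hs ht htB) hb) hb (hZt t ht)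
          have h4 := h3.1
          rw [mul_inv_eq_iff_eq_mul] at h4
          exact h4
        obtain ⟨t, ht, htB⟩ := hs.ex i
        have h3 : t * a * t⁻¹ ∈ B (σ i) := htB ▸ mem_conj_of_mem ha
        have h4 : t * b * t⁻¹ ∈ B i := h.sg_inv hs ht htB ▸ mem_conj_of_mem hb
        have h5 := h.fac.comp (hs.ne i).symm h4 ha h3 hb (by
          rw [hcB _ h4 _ h3]; exact hZt t ht)
        have hx' : x = (ν : G) * (a * b) * (ν : G)⁻¹ := by rw [← hab]; group
        rcases ha' with ha' | ha'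
        · have h6 : b = 1 := by rw [← h5.2, ha']; group
          rw [hx', ha', h6]
          have e : (ν : G) * (1 * 1) * (ν : G)⁻¹ = 1 := by group
          rw [e]; exact one_mem _
        · have h6 : b = z (σ i) := by
            rw [← h5.2, ha']
            exact hzX t (h.SX (h.QX ht)) i (σ i) htB
          rw [hx', ha', h6]
          exact mem_zpowers _
      perm := by
        rintro x hx ⟨ν, i⟩
        refine ⟨(⟨x * ν, mul_mem hx ν.2⟩, i), fun u hu => ?_, fun b => ⟨b, fun u hu => ?_⟩, by group⟩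
        · show _ ∈ MulAut.conj (x * (ν : G)) • _
          rw [← conj_conj]; exact mem_conj_of_mem hu
        · show _ ∈ MulAut.conj (x * (ν : G)) • _
          rw [← conj_conj]; exact mem_conj_of_mem hu
      trans := by
        rintro ⟨ν, i⟩ ⟨μ, j⟩
        obtain ⟨s, hsX, hsB⟩ := htr i j
        have hsB' := h.sg_X hs hsX hsB
        have key : ∀ {A C : Subgroup G}, MulAut.conj s • A = C → ∀ u ∈ MulAut.conj (ν : G) • A,
            (μ * s * (ν : G)⁻¹) * u * (μ * s * (ν : G)⁻¹)⁻¹ ∈ MulAut.conj (μ : G) • C := by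
          intro A C hAC u hu
          rw [mem_conj] at hu ⊢
          rw [← hAC, mem_conj]
          have e : s⁻¹ * ((μ : G)⁻¹ * (μ * s * (ν : G)⁻¹ * u * (μ * s * (ν : G)⁻¹)⁻¹) * μ) * s =
              (ν : G)⁻¹ * u * ν := by group
          rwa [e]
        refine ⟨μ * s * (ν : G)⁻¹, mul_mem (mul_mem μ.2 hsX) (inv_mem ν.2), ?_, fun b => ⟨b, ?_⟩, ?_⟩
        · refine key ?_
          rw [smul_sup, hsB, hsB']
        · refine key ?_
          cases b
          · exact hsB
          · exact hsB'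
        · have h3 := hzX s hsX i j hsB
          have h4 := hzX s hsX _ _ hsB'
          show μ * s * (ν : G)⁻¹ * ((ν : G) * (z i * z (σ i)) * (ν : G)⁻¹) * (μ * s * (ν : G)⁻¹)⁻¹ =
            (μ : G) * (z j * z (σ j)) * (μ : G)⁻¹
          rw [← h3, ← h4]
          group
      d8 := by
        rintro ⟨ν, i⟩
        obtain ⟨t, htX, htB, htc, y, hy, hty⟩ := hT i
        have hBσ : MulAut.conj t • B (σ i) = B (σ i) := h.sg_X hs htX htB
        refine ⟨ν * t * (ν : G)⁻¹, mul_mem (mul_mem ν.2 htX) (inv_mem ν.2), ?_, ?_, ?_, ?_⟩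
        · intro b u hu
          rw [mem_conj] at hu ⊢
          have e : (ν : G)⁻¹ * (ν * t * (ν : G)⁻¹ * u * (ν * t * (ν : G)⁻¹)⁻¹) * ν =
              t * ((ν : G)⁻¹ * u * ν) * t⁻¹ := by group
          rw [e]
          cases b
          · exact conj_mem htB hu
          · exact conj_mem hBσ hu
        · intro u hu
          have h3 := htc _ (mem_conj.1 hu)
          have h4 := congrArg (fun y => (ν : G) * y * (ν : G)⁻¹) h3
          simpa [mul_assoc] using h4
        · have h3 := hzX t htX i i htB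
          have h4 := hzX t htX _ _ hBσ
          show ν * t * (ν : G)⁻¹ * ((ν : G) * (z i * z (σ i)) * (ν : G)⁻¹) * (ν * t * (ν : G)⁻¹)⁻¹ =
            (ν : G) * (z i * z (σ i)) * (ν : G)⁻¹
          calc _ = (ν : G) * ((t * z i * t⁻¹) * (t * z (σ i) * t⁻¹)) * (ν : G)⁻¹ := by group
            _ = _ := by rw [h3, h4]
        · refine ⟨ν * y * (ν : G)⁻¹, mem_conj_of_mem hy, fun h3 => hty ?_⟩
          have h4 := congrArg (fun y => (ν : G)⁻¹ * y * ν) h3
          simpa [mul_assoc] using h4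
      NF := by
        rintro ⟨ν, i⟩ b ⟨μ, j⟩ u hu hu1 huμ
        obtain ⟨l, hl, -⟩ := h.nf hNF ν.2 μ.2 hu hu1 (hUβ (μ, j) huμ)
        rcases h.fac.two_mem hl hu1 huμ with h6 | h6
        · exact ⟨false, h6 ▸ hl⟩
        · exact ⟨true, h6 ▸ hl⟩
      NF2 := by
        rintro ⟨ν, i⟩ ⟨μ, j⟩ hz hb
        have hle : MulAut.conj (μ : G) • (B j ⊔ B (σ j)) ⊔ Z₀ ≤ MulAut.conj (μ : G) • U :=
          sup_le (hUβ (μ, j)) (hZν μ μ.2)
        obtain ⟨u₀, hu₀, hu₀1, hu₀μ⟩ := hb false
        obtain ⟨u₁, hu₁, hu₁1, hu₁μ⟩ := hb true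
        obtain ⟨l₀, -, hl₀⟩ := h.nf hNF ν.2 μ.2 hu₀ hu₀1 (hle hu₀μ)
        obtain ⟨l₁, -, hl₁⟩ := h.nf hNF ν.2 μ.2 hu₁ hu₁1 (hle hu₁μ)
        change MulAut.conj (ν : G) • B i = _ at hl₀
        change MulAut.conj (ν : G) • B (σ i) = _ at hl₁
        change (ν : G) * (z i * z (σ i)) * (ν : G)⁻¹ = (μ : G) * (z j * z (σ j)) * (μ : G)⁻¹ at hz
        have hl : l₀ ≠ l₁ := by
          rintro rfl
          exact hs.ne i (h.fac.inj' (by norm_num) (hl₁.trans hl₀.symm))
        rw [hcν, hcν] at hz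
        have hx₀ : (ν : G) * z i * (ν : G)⁻¹ ∈ MulAut.conj (μ : G) • B l₀ := hl₀ ▸ mem_conj_of_mem (hzB i)
        have hx₁ : (ν : G) * z (σ i) * (ν : G)⁻¹ ∈ MulAut.conj (μ : G) • B l₁ :=
          hl₁ ▸ mem_conj_of_mem (hzB (σ i))
        have hn : ∀ l, (ν : G) * z l * (ν : G)⁻¹ ≠ 1 := by
          intro l h0
          apply hz1 l
          have : z l = (ν : G)⁻¹ * ((ν : G) * z l * (ν : G)⁻¹) * ν := by group
          rw [this, h0]; group
        have hy₀ := mem_conj_of_mem (g := (μ : G)) (hzB j)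
        have hy₁ := mem_conj_of_mem (g := (μ : G)) (hzB (σ j))
        have k₀ := h.fac.four hx₀ (hn i) hx₁ hy₀ hy₁ hz
        have k₁ := h.fac.four hx₁ (hn (σ i)) hx₀ hy₀ hy₁ (by
          rw [← hz]
          exact h.fac.comm' (h.fac.le' _ _ hx₁) (h.fac.le' _ _ hx₀))
        have key : ∀ l, l = j ∨ l = σ j → MulAut.conj (μ : G) • B l ≤ MulAut.conj (μ : G) • (B j ⊔ B (σ j)) := by
          rintro l (rfl | rfl)
          · exact conj_le_iff.2 le_sup_left
          · exact conj_le_iff.2 le_sup_right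
        show MulAut.conj (ν : G) • (B i ⊔ B (σ i)) ≤ _
        rw [smul_sup, hl₀, hl₁]
        exact sup_le (key _ (k₀.resolve_left hl)) (key _ (k₁.resolve_left hl.symm)) }
  refine T.main (h.cen_le' h2) (hne' hne) ?_ (h.sq_le' h2)
  -- `r ≤ |W₁ : C_{W₁}(E)|`
  exact h.r_le h2

/-- **THEOREM OM for `|U_i| = 4`.** -/
theorem no_four [Finite G] (h : Hyp I B U 4 S P X)
    (htr : ∀ i j, ∃ s ∈ X, MulAut.conj s • B i = B j)
    (hT : ∀ i j, i ≠ j → ∃ t ∈ X, MulAut.conj t • B i = B i ∧ (∀ u ∈ B j, t * u = u * t) ∧ ∃ u ∈ B i, t * u ≠ u * t)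
    (hNF : ∀ i, ∀ x ∈ X, ∀ u ∈ B i, u ≠ 1 → u ∈ MulAut.conj x • U → ∃ j, u ∈ MulAut.conj x • B j) : False := by
  -- the orbits
  by_cases hfix : ∀ i, ∀ t ∈ o2 X, MulAut.conj t • B i = B i
  · exact h.no_fix hfix
  by_cases h3 : ∀ i i₁, ∃ j, j ≠ i ∧ j ≠ i₁ ∧ ∃ t ∈ o2 X, MulAut.conj t • B i = B j
  · exact h.no_orbit_three le_rfl htr h3
  push Not at hfix h3
  obtain ⟨i₀, t₀, ht₀, ht₀B⟩ := hfix
  obtain ⟨k₀, k₁, hk⟩ := h3
  have hperm : ∀ i, ∀ t ∈ o2 X, ∃ j, MulAut.conj t • B i = B j := fun i t ht =>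
    h.fac.perm t (conj_eq_iff.2 ((h.SP.trans h.nP) (h.QX ht))) i
  -- transport
  have key : ∀ i j, (∃ t ∈ o2 X, MulAut.conj t • B i = B j) → ∀ x ∈ X, ∀ i' j', MulAut.conj x • B i = B i' →
      MulAut.conj x • B j = B j' → ∃ t ∈ o2 X, MulAut.conj t • B i' = B j' := by
    rintro i j ⟨t, ht, htB⟩ x hx i' j' hi hj
    refine ⟨x * t * x⁻¹, conj_mem_o2 hx ht, ?_⟩
    rw [← hi, ← hj, ← htB, conj_conj, conj_conj]
    congr 2
    group
  have hmove : ∀ i, ∃ j, j ≠ i ∧ ∃ t ∈ o2 X, MulAut.conj t • B i = B j := by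
    intro i
    obtain ⟨x, hx, hxB⟩ := htr i₀ i
    refine ?_
    obtain ⟨j, hj⟩ := hperm i _ (conj_mem_o2 hx ht₀)
    refine ⟨j, ?_, _, conj_mem_o2 hx ht₀, hj⟩
    rintro rfl
    apply ht₀B
    rw [← hxB, conj_conj] at hj
    have h4 := congrArg (fun A => MulAut.conj x⁻¹ • A) hj
    simp only [conj_conj] at h4
    have e1 : x⁻¹ * (x * t₀ * x⁻¹ * x) = t₀ := by group
    rw [e1, inv_mul_cancel, map_one, one_smul] at h4
    exact h4
  choose σ hσ hσ' using hmove
  have hk' : ∀ j, j ≠ k₀ → (∃ t ∈ o2 X, MulAut.conj t • B k₀ = B j) → j = σ k₀ := by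
    have h4 : ∀ j, j ≠ k₀ → (∃ t ∈ o2 X, MulAut.conj t • B k₀ = B j) → j = k₁ := by
      rintro j hj ⟨t, ht, htB⟩
      by_contra hj₁
      exact hk j hj hj₁ t ht htB
    intro j hj hjt
    rw [h4 j hj hjt, h4 (σ k₀) (hσ k₀) (hσ' k₀)]
  have huniq : ∀ i j, j ≠ i → (∃ t ∈ o2 X, MulAut.conj t • B i = B j) → j = σ i := by
    intro i j hj hjt
    obtain ⟨x, hx, hxB⟩ := htr i k₀
    -- the images of `j` and `σ i`
    have himg : ∀ l, (∃ t ∈ o2 X, MulAut.conj t • B i = B l) → ∃ l', MulAut.conj x • B l = B l' ∧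
        ∃ t ∈ o2 X, MulAut.conj t • B k₀ = B l' := by
      rintro l ⟨t, ht, htB⟩
      obtain ⟨l', hl'⟩ := hperm k₀ _ (conj_mem_o2 hx ht)
      refine ⟨l', ?_, _, conj_mem_o2 hx ht, hl'⟩
      rw [← hl', ← htB, ← hxB, conj_conj, conj_conj]
      congr 2
      group
    obtain ⟨j', hj', hjt'⟩ := himg j hjt
    obtain ⟨s', hs', hst'⟩ := himg (σ i) (hσ' i)
    have h5 : j' ≠ k₀ := by
      rintro rfl
      exact hj (h.fac.inj' (by norm_num) (hj'.trans hxB.symm))
    have h6 : s' ≠ k₀ := by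
      rintro rfl
      exact hσ i (h.fac.inj' (by norm_num) (hs'.trans hxB.symm))
    have h7 : j' = s' := (hk' j' h5 hjt').trans (hk' s' h6 hst').symm
    subst h7
    exact h.fac.inj' (by norm_num) (hj'.trans hs'.symm)
  have hs : Sg X B σ :=
    { ne := hσ
      inv := by
        intro i
        symm
        refine huniq (σ i) i (hσ i).symm ?_
        obtain ⟨t, ht, htB⟩ := hσ' i
        exact ⟨t⁻¹, inv_mem ht, by rw [← htB, conj_conj, inv_mul_cancel, map_one, one_smul]⟩
      ex := hσ'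
      orb := by
        intro i t ht
        obtain ⟨j, hj⟩ := hperm i t ht
        by_cases hji : j = i
        · left; rw [hj, hji]
        · right; rw [hj, huniq i j hji ⟨t, ht, hj⟩] }
  exact h.no_pair hs htr (fun i => hT i (σ i) (hσ i).symm) hNF

end Hyp

end Cfsg.Agent.Omega.OmThm
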