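import Cfsg.Agent.Omega.OmThm.TT

/-!
# LEMMA GL (bb OMEGA #19952 (2)), helper223

`L` finite elementary abelian, `PP` a set of points of order `q` meeting pairwise trivially which cover `L`, `T p` groups
of transvections `1 + η` with centre `p` (fields as in `TT.Dat`); adjacency is symmetric.

* `Geo.line`: if all `|T p| = q`, or if any two points are adjacent, then the group generated by the `1 + η` which
  centralise the point `c` is transitive on the subgroups `c + w`, `w` a neighbour of `c`;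
* `Geo.gen`: the `c + w` generate `L`;
* `Geo.gl`: **LEMMA GL**: one `c + w` in the class `ℒ` ==> the members of `ℒ` containing `c` generate `L`.
-/

set_option autoImplicit false

namespace Cfsg.Agent.Omega.OmThm.GL

open Cfsg.Agent.Omega.OmThm.TT

variable {L : Type*} [AddCommGroup L]

/-- The data: transvection groups whose centres are the points, every vector is in a point. -/
structure Geo (PP : Set (AddSubgroup L)) (T : AddSubgroup L → AddSubgroup (L →+ L)) (q : ℕ) : Prop where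
  two : ∀ v : L, v + v = 0
  card : ∀ p ∈ PP, Nat.card p = q
  ne : ∀ p ∈ PP, ∃ v ∈ p, v ≠ 0
  ti : ∀ p ∈ PP, ∀ x ∈ PP, ∀ v ∈ p, v ∈ x → v ≠ 0 → p = x
  im : ∀ p ∈ PP, ∀ η ∈ T p, ∀ v, η v ∈ p
  ker : ∀ p ∈ PP, ∀ η ∈ T p, ∀ v ∈ p, η v = 0
  move : ∀ p ∈ PP, ∀ η ∈ T p, ∀ x ∈ PP, ∃ y ∈ PP, ∀ u ∈ x, u + η u ∈ y
  reg : ∀ x ∈ PP, ∀ ψ ∈ T x, ∀ b, ψ b ≠ 0 → ∀ a ∈ x, ∃ ψ' ∈ T x, ψ' b = a ∧ ∀ v, ψ v = 0 → ψ' v = 0
  symm : ∀ p ∈ PP, ∀ x ∈ PP, Adj T p x → Adj T x p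
  all : ∀ v : L, v ≠ 0 → ∃ p ∈ PP, v ∈ p

/-- `1 + η` -/
abbrev tr (η : L →+ L) : L →+ L := AddMonoidHom.id L + η

/-- The transvection data of `TT.Dat`, if every vector is in a point. -/
theorem _root_.Cfsg.Agent.Omega.OmThm.TT.Dat.geo [Finite L] {PP : Set (AddSubgroup L)}
    {T : AddSubgroup L → AddSubgroup (L →+ L)} {q : ℕ} (D : Dat PP T q) (all : ∀ v : L, v ≠ 0 → ∃ p ∈ PP, v ∈ p) :
    Geo PP T q where
  two := D.two
  card := D.card
  ne := D.ne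
  ti := D.ti
  im := D.im
  ker := D.ker
  move := fun p hp η hη x hx => by
    obtain ⟨y, hy, h, -⟩ := D.move p hp η hη x hx
    exact ⟨y, hy, h⟩
  reg := D.reg
  symm := fun _ hp _ hx h => D.symm hp hx h
  all := all

namespace Geo

variable {PP : Set (AddSubgroup L)} {T : AddSubgroup L → AddSubgroup (L →+ L)} {q : ℕ} (D : Geo PP T q)
include D

theorem eq_of_add {u v : L} (h : u + v = 0) : u = v := by
  rw [← add_left_inj v, h, D.two]

theorem inj {p x : AddSubgroup L} (hp : p ∈ PP) (hx : x ∈ PP) {η : L →+ L} (hη : η ∈ T p) {b : L} (hb : b ∈ x)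
    (hb0 : b ≠ 0) (h : η b = 0) : ∀ v ∈ x, η v = 0 := by
  intro v hv
  by_cases hpx : p = x
  · subst hpx
    exact D.ker p hp η hη v hv
  · obtain ⟨y, hy, h1⟩ := D.move p hp η hη x hx
    have hby : b ∈ y := by simpa [h] using h1 b hb
    have hxy := D.ti x hx y hy b hb hby hb0
    subst hxy
    have h2 : η v ∈ x := by simpa using x.sub_mem (h1 v hv) hv
    by_contra h0
    exact hpx (D.ti p hp x hx _ (D.im p hp η hη v) h2 h0)

theorem inj' {p x : AddSubgroup L} (hp : p ∈ PP) (hx : x ∈ PP) {η : L →+ L} (hη : η ∈ T p) {b : L} (hb : b ∈ x)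
    (h : η b ≠ 0) {v : L} (hv : v ∈ x) (hv0 : v ≠ 0) : η v ≠ 0 :=
  fun h0 => h (D.inj hp hx hη hv hv0 h0 b hb)

theorem adj_ne {p x : AddSubgroup L} (hp : p ∈ PP) (h : Adj T p x) : p ≠ x := by
  rintro rfl
  obtain ⟨η, hη, v, hv, h0⟩ := h
  exact h0 (D.ker p hp η hη v hv)

/-- `1 + η` maps the point `w` to the point `w'` if it maps one vector `≠ 0` into it -/
theorem map_eq {y w w' : AddSubgroup L} (hy : y ∈ PP) (hw : w ∈ PP) (hw' : w' ∈ PP) {η : L →+ L} (hη : η ∈ T y)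
    {b : L} (hb : b ∈ w) (hb0 : b ≠ 0) (h : b + η b ∈ w') : w.map (tr η) = w' := by
  have hsq : ∀ v, η (η v) = 0 := fun v => D.ker y hy η hη _ (D.im y hy η hη v)
  have hinv : ∀ v, (v + η v) + η (v + η v) = v := by
    intro v
    rw [map_add, hsq, add_zero, add_assoc, D.two, add_zero]
  have h0 : b + η b ≠ 0 := by
    intro h0
    have := hinv b
    rw [h0, map_zero, add_zero] at this
    exact hb0 this.symm
  obtain ⟨z, hz, hz1⟩ := D.move y hy η hη w hw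
  obtain rfl := D.ti z hz w' hw' _ (hz1 b hb) h h0
  obtain ⟨x, hx, hx1⟩ := D.move y hy η hη z hz
  have h1 := hx1 _ (hz1 b hb)
  rw [hinv] at h1
  obtain rfl := D.ti x hx w hw b h1 hb hb0
  ext v
  rw [AddSubgroup.mem_map]
  constructor
  · rintro ⟨u, hu, rfl⟩
    exact hz1 u hu
  · intro hv
    exact ⟨v + η v, hx1 v hv, hinv v⟩

/-- the image of `c + w` -/
theorem map_sup {y c w w' : AddSubgroup L} (hy : y ∈ PP) (hw : w ∈ PP) (hw' : w' ∈ PP) {η : L →+ L} (hη : η ∈ T y)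
    (hk : ∀ v ∈ c, η v = 0) {b : L} (hb : b ∈ w) (hb0 : b ≠ 0) (h : b + η b ∈ w') :
    (c ⊔ w).map (tr η) = c ⊔ w' := by
  rw [AddSubgroup.map_sup, D.map_eq hy hw hw' hη hb hb0 h]
  congr 1
  ext v
  rw [AddSubgroup.mem_map]
  constructor
  · rintro ⟨u, hu, rfl⟩
    show u + η u ∈ c
    rwa [hk u hu, add_zero]
  · intro hv
    refine ⟨v, hv, ?_⟩
    show v + η v = v
    rw [hk v hv, add_zero]

variable [Finite L]

/-- `|T c| = q`: all elements `≠ 0` of `T c` have the same kernel -/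
theorem ker_le {c : AddSubgroup L} (hc : c ∈ PP) (hT : Nat.card (T c) = q) {ψ : L →+ L} (hψ : ψ ∈ T c) {b : L}
    (hb : ψ b ≠ 0) {η : L →+ L} (hη : η ∈ T c) {v : L} (hv : ψ v = 0) : η v = 0 := by
  have hf : ∀ a : c, ∃ ψ' ∈ T c, ψ' b = a ∧ ∀ v, ψ v = 0 → ψ' v = 0 := fun a => D.reg c hc ψ hψ b hb a a.2
  choose f hf1 hf2 hf3 using hf
  have : Finite (L →+ L) := Finite.of_injective (fun f : L →+ L => (f : L → L)) DFunLike.coe_injective
  let g : c → T c := fun a => ⟨f a, hf1 a⟩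
  have hg : Function.Injective g := by
    intro a a' h
    apply Subtype.ext
    rw [← hf2 a, ← hf2 a']
    exact DFunLike.congr_fun (congrArg Subtype.val h) b
  have hbij : Function.Bijective g := hg.bijective_of_nat_card_le (by rw [hT, D.card c hc])
  obtain ⟨a, ha⟩ := hbij.2 ⟨η, hη⟩
  have h1 : f a = η := congrArg Subtype.val ha
  rw [← h1]
  exact hf3 a v hv

/-- a vector `≠ 0` of the point `w` can be mapped to any vector of `c` by `φ`, read backwards -/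
theorem exists_pre {c w : AddSubgroup L} (hc : c ∈ PP) (hw : w ∈ PP) {φ : L →+ L} (hφ : φ ∈ T c) {b : L}
    (hb : b ∈ w) (h0 : φ b ≠ 0) {a : L} (ha : a ∈ c) : ∃ v ∈ w, φ v = a := by
  let f : w → c := fun v => ⟨φ v, D.im c hc φ hφ v⟩
  have hinj : Function.Injective f := by
    intro u v he
    have he' : φ u = φ v := congrArg Subtype.val he
    apply Subtype.ext
    by_contra hne
    refine D.inj' hc hw hφ hb h0 (w.sub_mem u.2 v.2) (sub_ne_zero.2 hne) ?_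
    rw [map_sub, he', sub_self]
  have hbij : Function.Bijective f := hinj.bijective_of_nat_card_le (by rw [D.card c hc, D.card w hw])
  obtain ⟨v, hv⟩ := hbij.2 ⟨a, ha⟩
  exact ⟨v, v.2, congrArg Subtype.val hv⟩

/-! ### `|T c| = q` -/

/-- adjacent neighbours -/
theorem step {c w w' : AddSubgroup L} (hc : c ∈ PP) (hT : Nat.card (T c) = q) (hw : w ∈ PP) (hw' : w' ∈ PP)
    (h1 : Adj T c w) (h1' : Adj T c w') (h2 : Adj T w w') :
    ∃ y ∈ PP, ∃ η ∈ T y, (∀ v ∈ c, η v = 0) ∧ (c ⊔ w).map (tr η) = c ⊔ w' := by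
  obtain ⟨φ, hφ, b, hb, hb0⟩ := h1
  obtain ⟨φ', hφ', b', hb', hb0'⟩ := h1'
  have hbne : b ≠ 0 := by rintro rfl; exact hb0 (map_zero _)
  have h3 : φ b' ≠ 0 := fun h => hb0' (D.ker_le hc hT hφ hb0 hφ' h)
  obtain ⟨b'', hb'', h4⟩ := D.exists_pre hc hw' hφ hb' h3 (D.im c hc φ hφ b)
  have hne'' : b'' ≠ 0 := by
    rintro rfl
    rw [map_zero] at h4
    exact hb0 h4.symm
  have hy0 : b + b'' ≠ 0 := by
    intro h0
    have h5 := D.eq_of_add h0
    exact D.adj_ne hw h2 (D.ti w hw w' hw' b hb (h5 ▸ hb'') hbne)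
  obtain ⟨y, hy, hyb⟩ := D.all _ hy0
  have hφy : ∀ v ∈ y, φ v = 0 := D.inj hc hy hφ hyb hy0 (by rw [map_add, h4, D.two])
  have hyc : ∀ ψ ∈ T y, ∀ v ∈ c, ψ v = 0 := by
    intro ψ hψ v hv
    by_contra h0
    obtain ⟨φ₁, hφ₁, u, hu, hu0⟩ := D.symm y hy c hc ⟨ψ, hψ, v, hv, h0⟩
    exact hu0 (D.ker_le hc hT hφ hb0 hφ₁ (hφy u hu))
  obtain ⟨ψ, hψ, v, hv, hv0⟩ := h2
  have h6 : ψ (b + b'') ≠ 0 := by
    rw [map_add, D.ker w hw ψ hψ b hb, zero_add]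
    exact D.inj' hw hw' hψ hv hv0 hb'' hne''
  obtain ⟨τ, hτ, u, hu, hu0⟩ := D.symm w hw y hy ⟨ψ, hψ, _, hyb, h6⟩
  have h7 : τ b ≠ 0 := D.inj' hy hw hτ hu hu0 hb hbne
  obtain ⟨τ', hτ', h8, -⟩ := D.reg y hy τ hτ b h7 _ hyb
  refine ⟨y, hy, τ', hτ', hyc τ' hτ', D.map_sup hy hw hw' hτ' (hyc τ' hτ') hb hbne ?_⟩
  rw [h8, ← add_assoc, D.two, zero_add]
  exact hb''

theorem line_q {c w w' : AddSubgroup L} (hc : c ∈ PP) (hT : Nat.card (T c) = q) (hw : w ∈ PP) (hw' : w' ∈ PP)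
    (h1 : Adj T c w) (h1' : Adj T c w') (ℒ : AddSubgroup L → Prop)
    (hℒ : ∀ y ∈ PP, ∀ η ∈ T y, (∀ v ∈ c, η v = 0) → ∀ U, ℒ U → ℒ (U.map (tr η))) (h0 : ℒ (c ⊔ w)) :
    ℒ (c ⊔ w') := by
  by_cases h2 : Adj T w w'
  · obtain ⟨y, hy, η, hη, hk, h3⟩ := D.step hc hT hw hw' h1 h1' h2
    rw [← h3]
    exact hℒ y hy η hη hk _ h0
  · obtain ⟨φ, hφ, b', hb', hb0'⟩ := h1'
    have hbne : b' ≠ 0 := by rintro rfl; exact hb0' (map_zero _)
    have hcc : φ (φ b') = 0 := D.ker c hc φ hφ _ (D.im c hc φ hφ b')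
    obtain ⟨w'', hw'', h3⟩ := D.move c hc φ hφ w' hw'
    have hb'' : b' + φ b' ∈ w'' := h3 b' hb'
    have hφb : φ (b' + φ b') ≠ 0 := by rwa [map_add, hcc, add_zero]
    have hne'' : b' + φ b' ≠ 0 := by
      intro h
      rw [h, map_zero] at hφb
      exact hφb rfl
    have h4 : Adj T c w'' := ⟨φ, hφ, _, hb'', hφb⟩
    have h5 : Adj T w w'' := by
      obtain ⟨ψ, hψ, v, hv, hv0⟩ := D.symm c hc w hw h1
      refine ⟨ψ, hψ, _, hb'', ?_⟩
      have h6 : ψ b' = 0 := by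
        by_contra h
        exact h2 ⟨ψ, hψ, b', hb', h⟩
      rw [map_add, h6, zero_add]
      exact D.inj' hw hc hψ hv hv0 (D.im c hc φ hφ b') hb0'
    obtain ⟨y, hy, η, hη, hk, h7⟩ := D.step hc hT hw hw'' h1 h4 h5
    have h8 : ℒ (c ⊔ w'') := by
      rw [← h7]
      exact hℒ y hy η hη hk _ h0
    have h9 : (c ⊔ w'').map (tr φ) = c ⊔ w' := by
      refine D.map_sup hc hw'' hw' hφ (D.ker c hc φ hφ) hb'' hne'' ?_
      rw [map_add, hcc, add_zero, add_assoc, D.two, add_zero]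
      exact hb'
    rw [← h9]
    exact hℒ c hc φ hφ (D.ker c hc φ hφ) _ h8

/-! ### all points adjacent -/

/-- `K(c,x) = c + x` -/
theorem mem_sup (hall : ∀ p ∈ PP, ∀ x ∈ PP, p ≠ x → Adj T p x) {c x : AddSubgroup L} (hc : c ∈ PP) (hx : x ∈ PP)
    (hne : c ≠ x) {v : L} (hv : ∀ η ∈ T c, (∀ u ∈ x, η u = 0) → η v = 0) : v ∈ c ⊔ x := by
  obtain ⟨η, hη, b, hb, hb0⟩ := hall c hc x hx hne
  have hbne : b ≠ 0 := by rintro rfl; exact hb0 (map_zero _)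
  obtain ⟨v₁, hv₁, h1⟩ := D.exists_pre hc hx hη hb hb0 (D.im c hc η hη v)
  have h2 : η (v - v₁) = 0 := by rw [map_sub, h1, sub_self]
  have h3 : v - v₁ ∈ c := by
    by_cases h0 : v - v₁ = 0
    · rw [h0]; exact c.zero_mem
    obtain ⟨u, hu, hvu⟩ := D.all _ h0
    by_cases hcu : c = u
    · rwa [hcu]
    exfalso
    obtain ⟨τ, hτ, d, hd, hd0⟩ := hall c hc u hu hcu
    have h4 : τ (v - v₁) ≠ 0 := D.inj' hc hu hτ hd hd0 hvu h0
    obtain ⟨ψ, hψ, h5, h6⟩ := D.reg c hc η hη b hb0 (τ b) (D.im c hc τ hτ b)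
    have h7 : ∀ u ∈ x, (τ - ψ) u = 0 := by
      refine D.inj hc hx ((T c).sub_mem hτ hψ) hb hbne ?_
      rw [AddMonoidHom.sub_apply, h5, sub_self]
    have h8 := hv (τ - ψ) ((T c).sub_mem hτ hψ) h7
    have h9 : (τ - ψ) (v - v₁) = 0 := by rw [map_sub, h8, h7 v₁ hv₁, sub_zero]
    rw [AddMonoidHom.sub_apply, h6 _ h2, sub_zero] at h9
    exact h4 h9
  have h10 : v = (v - v₁) + v₁ := by abel
  rw [h10]
  exact AddSubgroup.add_mem_sup h3 hv₁

theorem line_all (hall : ∀ p ∈ PP, ∀ x ∈ PP, p ≠ x → Adj T p x) {c w w' : AddSubgroup L} (hc : c ∈ PP)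
    (hw : w ∈ PP) (hw' : w' ∈ PP) (h1 : c ≠ w) (h1' : c ≠ w') (ℒ : AddSubgroup L → Prop)
    (hℒ : ∀ y ∈ PP, ∀ η ∈ T y, (∀ v ∈ c, η v = 0) → ∀ U, ℒ U → ℒ (U.map (tr η))) (h0 : ℒ (c ⊔ w)) :
    ℒ (c ⊔ w') := by
  -- a point with a vector `≠ 0` in `c + w` lies in `c + w`
  have key : ∀ y ∈ PP, ∀ d ∈ y, d ≠ 0 → d ∈ c ⊔ w → y ≤ c ⊔ w := by
    intro y hy d hd hd0 hdw v hv
    refine D.mem_sup hall hc hw h1 fun η hη hk => ?_
    obtain ⟨c₁, hc₁, w₁, hw₁, rfl⟩ := AddSubgroup.mem_sup.1 hdw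
    refine D.inj hc hy hη hd hd0 ?_ v hv
    rw [map_add, D.ker c hc η hη c₁ hc₁, hk w₁ hw₁, add_zero]
  by_cases hle : w' ≤ c ⊔ w
  · -- the same line
    have h2 : w ≤ c ⊔ w' := by
      intro v hv
      refine D.mem_sup hall hc hw' h1' fun η hη hk => ?_
      obtain ⟨b', hb', hb0'⟩ := D.ne w' hw'
      obtain ⟨c₁, hc₁, b, hb, h3⟩ := AddSubgroup.mem_sup.1 (hle hb')
      have hb0 : b ≠ 0 := by
        rintro rfl
        rw [add_zero] at h3
        subst h3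
        exact h1' (D.ti c hc w' hw' _ hc₁ hb' hb0')
      refine D.inj hc hw hη hb hb0 ?_ v hv
      have h4 := hk b' hb'
      rwa [← h3, map_add, D.ker c hc η hη c₁ hc₁, zero_add] at h4
    have h3 : c ⊔ w' = c ⊔ w := le_antisymm (sup_le le_sup_left hle) (sup_le le_sup_left h2)
    rwa [h3]
  · obtain ⟨b', hb', hbn'⟩ := Set.not_subset.1 hle
    obtain ⟨b, hb, hb0⟩ := D.ne w hw
    have hb'' : b' ∉ c ⊔ w := hbn'
    have hy0 : b + b' ≠ 0 := by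
      intro h
      rw [← D.eq_of_add h] at hb''
      exact hb'' (AddSubgroup.mem_sup_right hb)
    obtain ⟨y, hy, hyb⟩ := D.all _ hy0
    have hb1 : b' = (b + b') + b := by rw [add_comm b b', add_assoc, D.two, add_zero]
    have hyn : ¬ y ≤ c ⊔ w := by
      intro h
      apply hb''
      rw [hb1]
      exact AddSubgroup.add_mem _ (h hyb) (AddSubgroup.mem_sup_right hb)
    have hyc : y ≠ c := by
      rintro rfl
      exact hyn le_sup_left
    have h2 : ∃ η ∈ T y, (∀ v ∈ c, η v = 0) ∧ η b ≠ 0 := by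
      by_contra hcon
      push Not at hcon
      have h3 : b ∈ y ⊔ c := D.mem_sup hall hy hc hyc hcon
      obtain ⟨y₁, hy₁, c₁, hc₁, h4⟩ := AddSubgroup.mem_sup.1 h3
      have hy₁0 : y₁ ≠ 0 := by
        rintro rfl
        rw [zero_add] at h4
        subst h4
        exact h1 (D.ti c hc w hw _ hc₁ hb hb0)
      refine hyn (key y hy y₁ hy₁ hy₁0 ?_)
      have h5 : y₁ = c₁ + b := by rw [← h4, add_comm y₁ c₁, ← add_assoc, D.two, zero_add]
      rw [h5]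
      exact AddSubgroup.add_mem_sup hc₁ hb
    obtain ⟨η, hη, hk, hηb⟩ := h2
    obtain ⟨η', hη', h3, h4⟩ := D.reg y hy η hη b hηb _ hyb
    have h5 : (c ⊔ w).map (tr η') = c ⊔ w' := by
      refine D.map_sup hy hw hw' hη' (fun v hv => h4 v (hk v hv)) hb hb0 ?_
      rw [h3, ← add_assoc, D.two, zero_add]
      exact hb'
    rw [← h5]
    exact hℒ y hy η' hη' (fun v hv => h4 v (hk v hv)) _ h0

/-- **transitivity on the lines `c + w`** -/
theorem line (h : (∀ p ∈ PP, Nat.card (T p) = q) ∨ ∀ p ∈ PP, ∀ x ∈ PP, p ≠ x → Adj T p x) {c w w' : AddSubgroup L}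
    (hc : c ∈ PP) (hw : w ∈ PP) (hw' : w' ∈ PP) (h1 : Adj T c w) (h1' : Adj T c w') (ℒ : AddSubgroup L → Prop)
    (hℒ : ∀ y ∈ PP, ∀ η ∈ T y, (∀ v ∈ c, η v = 0) → ∀ U, ℒ U → ℒ (U.map (tr η))) (h0 : ℒ (c ⊔ w)) :
    ℒ (c ⊔ w') := by
  rcases h with h | h
  · exact D.line_q hc (h c hc) hw hw' h1 h1' ℒ hℒ h0
  · exact D.line_all h hc hw hw' (D.adj_ne hc h1) (D.adj_ne hc h1') ℒ hℒ h0

omit [Finite L] in
/-- the `c + w`, `w` a neighbour of `c`, generate -/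
theorem gen {c : AddSubgroup L} {z : AddSubgroup L} (hz : z ∈ PP) (hcz : Adj T c z) {S : AddSubgroup L}
    (hS : ∀ w ∈ PP, Adj T c w → w ≤ S) : S = ⊤ := by
  rw [eq_top_iff]
  intro v _
  by_cases hv0 : v = 0
  · rw [hv0]; exact S.zero_mem
  obtain ⟨x, hx, hvx⟩ := D.all v hv0
  by_cases hcx : Adj T c x
  · exact hS x hx hcx hvx
  obtain ⟨φ, hφ, d, hd, hd0⟩ := hcz
  have h1 : φ v = 0 := by
    by_contra h
    exact hcx ⟨φ, hφ, v, hvx, h⟩
  have h2 : φ (v + d) ≠ 0 := by rwa [map_add, h1, zero_add]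
  have h3 : v + d ≠ 0 := by
    intro h
    rw [h, map_zero] at h2
    exact h2 rfl
  obtain ⟨w, hw, hvw⟩ := D.all _ h3
  have h4 : v = (v + d) + d := by rw [add_assoc, D.two, add_zero]
  rw [h4]
  exact S.add_mem (hS w hw ⟨φ, hφ, _, hvw, h2⟩ hvw) (hS z hz ⟨φ, hφ, d, hd, hd0⟩ hd)

/-- `V = c + w` from the order -/
theorem eq_sup {c w V : AddSubgroup L} (hc : c ∈ PP) (hw : w ∈ PP) (hne : c ≠ w) (hcV : c ≤ V) (hwV : w ≤ V)
    (hV : Nat.card V ≤ q * q) : V = c ⊔ w := by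
  have h1 : c ⊔ w ≤ V := sup_le hcV hwV
  let f : c × w → (c ⊔ w : AddSubgroup L) := fun a => ⟨a.1 + a.2, AddSubgroup.add_mem_sup a.1.2 a.2.2⟩
  have hf : Function.Injective f := by
    rintro ⟨a, b⟩ ⟨a', b'⟩ h
    have h2 : (a : L) + b = a' + b' := congrArg Subtype.val h
    have h3 : (a : L) - a' = b' - b := by
      rw [sub_eq_sub_iff_add_eq_add, h2, add_comm]
    have h4 : (a : L) - a' = 0 := by
      by_contra h5
      exact hne (D.ti c hc w hw _ (c.sub_mem a.2 a'.2) (h3 ▸ w.sub_mem b'.2 b.2) h5)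
    have h6 : (b' : L) - b = 0 := by rw [← h3, h4]
    exact Prod.ext (Subtype.ext (sub_eq_zero.1 h4)) (Subtype.ext (sub_eq_zero.1 h6).symm)
  have h2 := Nat.card_le_card_of_injective f hf
  rw [Nat.card_prod, D.card c hc, D.card w hw] at h2
  exact (AddSubgroup.eq_of_le_of_card_ge h1 (hV.trans h2)).symm

/-- **LEMMA GL** -/
theorem gl (h : (∀ p ∈ PP, Nat.card (T p) = q) ∨ ∀ p ∈ PP, ∀ x ∈ PP, p ≠ x → Adj T p x) {c w : AddSubgroup L}
    (hc : c ∈ PP) (hw : w ∈ PP) (h1 : Adj T c w) (ℒ : AddSubgroup L → Prop)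
    (hℒ : ∀ y ∈ PP, ∀ η ∈ T y, (∀ v ∈ c, η v = 0) → ∀ U, ℒ U → ℒ (U.map (tr η))) {V : AddSubgroup L} (h0 : ℒ V)
    (hcV : c ≤ V) (hwV : w ≤ V) (hV : Nat.card V ≤ q * q) {S : AddSubgroup L} (hS : ∀ U, ℒ U → c ≤ U → U ≤ S) :
    S = ⊤ := by
  obtain rfl := D.eq_sup hc hw (D.adj_ne hc h1) hcV hwV hV
  refine D.gen hw h1 fun w' hw' h1' => ?_
  exact le_sup_right.trans (hS _ (D.line h hc hw hw' h1 h1' ℒ hℒ h0) le_sup_left)

end Geo

end Cfsg.Agent.Omega.OmThm.GL
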