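import Cfsg.Agent.Omega.OmThm.Crit

/-!
# THEOREM OM (A): `|U_i| ≥ 8` is impossible

bb OMEGA #15139, blueprints/OMEGA-NO3S-Om-helper12.md.

* `Hyp I B U q S P X` : the hypotheses of THEOREM OM;
* `Hyp.pr` : if `W ≤ X^g`, `W^g ≤ X` (`W = ⟨U^X⟩`), then `(W^g, W)` is a pair `Pr`;
* `Hyp.numbers` : `|W^g : C(W)| = 2^m r`, `r² ≤ |W : C_W(W^g)|`, `q^m ≤ |W : C_W(W^g ∩ O₂(X))|`;
* `Hyp.lt` : the claim `|W^g : C(W)| < |W : C_W(W^g)|` for `8 ≤ q`;
* `Hyp.false_of_lt` : the claim for all `g` is contradictory;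
* `Hyp.no_eight` : **THEOREM OM (A)**.
-/

set_option autoImplicit false

namespace Cfsg.Agent.Omega.OmThm

open Subgroup Cfsg.Agent.Omega.NoFF.Basic Cfsg.Agent.ZN Cfsg.Agent.MinSimple.VModule
open scoped Pointwise commutatorElement

variable {G : Type*} [Group G] {I : Type*} {B : I → Subgroup G} {U : Subgroup G} {q : ℕ} {S P X : Subgroup G}

variable (I B U q S P X) in
/-- **The hypotheses of THEOREM OM.** -/
structure Hyp : Prop extends CD S P X U where
  fac : Fac I B U q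
  S2 : IsPGroup 2 S
  gen : X ≤ oddGen X ⊔ S
  syl : ∀ T : Subgroup G, T ≤ X → IsPGroup 2 T → ∃ x ∈ X, T ≤ MulAut.conj x • S
  nX : ¬ X ≤ normalizer (U : Set G)
  /-- (H4): some `t ∈ O₂(X)` normalises some `U_i` and does not centralise it -/
  h4 : ∃ i, ∃ x ∈ B i, ∃ t ∈ o2 X, MulAut.conj t • B i = B i ∧ t * x ≠ x * t
  no : NoOv X (V U X)

namespace Hyp

variable (h : Hyp I B U q S P X)
include h

theorem W_comm : ∀ x ∈ V U X, ∀ y ∈ V U X, x * y = y * x :=
  fun x hx y hy => (mem_centralizer_iff.1 (h.toCD.W_ab hx) y hy).symm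

theorem W_sq : ∀ x ∈ V U X, x * x = 1 := by
  let E : Subgroup G :=
    { carrier := {x | x ∈ V U X ∧ x * x = 1}
      one_mem' := ⟨one_mem _, one_mul 1⟩
      mul_mem' := by
        intro x y ⟨hx, hx2⟩ ⟨hy, hy2⟩
        refine ⟨mul_mem hx hy, ?_⟩
        calc x * y * (x * y) = x * (y * x) * y := by group
          _ = x * (x * y) * y := by rw [h.W_comm x hx y hy]
          _ = (x * x) * (y * y) := by group
          _ = 1 := by rw [hx2, hy2, one_mul]
      inv_mem' := by
        rintro x ⟨hx, hx2⟩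
        exact ⟨inv_mem hx, by rw [← mul_inv_rev, hx2, inv_one]⟩ }
  have h1 : V U X ≤ E := V_le fun x hx u hu => by
    refine ⟨Z_le_V hx hu, ?_⟩
    have h2 := h.fac.sq _ (mem_conj.1 hu)
    have e : u * u = x * (x⁻¹ * u * x * (x⁻¹ * u * x)) * x⁻¹ := by group
    rw [e, h2]; group
  exact fun x hx => (h1 hx).2

theorem xd : XD S X U where
  S2 := h.S2
  SX := h.SX
  gen := h.gen
  QS := h.QX
  SU := h.SP.trans h.nP
  comm := h.W_comm
  sq := h.W_sq
  nU := h.nX

/-- (H4) gives a noncentral chief factor in `[W, Q]`. -/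
theorem noncentral : ∃ c ∈ (⁅V U X, o2 X⁆ : Subgroup G), ∃ x ∈ oddGen X, c * x ≠ x * c := by
  obtain ⟨i, x, hx, t, ht, htB, hne⟩ := h.h4
  by_contra hcon
  push Not at hcon
  have hc1 : x * t * x⁻¹ * t⁻¹ ∈ (⁅V U X, o2 X⁆ : Subgroup G) := by
    have := commutator_mem_commutator (XD.U_le_W (X := X) (h.fac.le i hx)) ht
    rwa [commutatorElement_def] at this
  have hc2 : x * t * x⁻¹ * t⁻¹ ∈ B i := by
    have : x * t * x⁻¹ * t⁻¹ = x * (t * x⁻¹ * t⁻¹) := by group
    rw [this]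
    exact mul_mem hx (conj_mem htB (inv_mem hx))
  have hc3 : x * t * x⁻¹ * t⁻¹ ≠ 1 := by
    intro h0
    apply hne
    rw [mul_inv_eq_one, mul_inv_eq_iff_eq_mul] at h0
    exact h0.symm
  apply h.nX
  refine h.gen.trans (sup_le (fun y hy => ?_) (h.SP.trans h.nP))
  exact conj_eq_iff.1 (h.fac.nor i _ hc2 hc3 y (hcon _ hc1 y hy).symm).2

variable {g : G}

/-- the pair `(W^g, W)` -/
theorem pr (h1 : V U X ≤ MulAut.conj g • X) (h2 : MulAut.conj g • V U X ≤ X) :
    Pr I B U q (MulAut.conj g • V U X) (V U X) {k | ∃ x ∈ X, k = g * x} (X : Set G) where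
  fac := h.fac
  gen := conj_V_le fun x hx =>
    le_iSup (fun k : {k | ∃ x ∈ X, k = g * x} => MulAut.conj (k : G) • U) ⟨g * x, x, hx, rfl⟩
  gen' := V_le fun x hx => le_iSup (fun k : (X : Set G) => MulAut.conj (k : G) • U) ⟨x, hx⟩
  le := by
    rintro _ ⟨x, hx, rfl⟩
    exact conj_Z_le hx
  le' x hx := Z_le_V hx
  comm x hx y hy := by
    have := h.W_comm _ (mem_conj.1 hx) _ (mem_conj.1 hy)
    have h3 := congrArg (fun t => g * t * g⁻¹) this
    simpa [mul_assoc] using h3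
  comm' := h.W_comm
  nor y hy := by
    have h3 := mem_conj.1 (h1 hy)
    have h4 := conj_V_mul (Z := U) (P := X) (g := g) h3
    rw [conj_conj]
    rwa [show g * (g⁻¹ * y * g) = y * g by group] at h4
  nor' x hx := conj_eq_iff.2 (XD.X_le_normalizer_W (h2 hx))

theorem sq_conj : ∀ e ∈ MulAut.conj g • V U X, e * e = 1 := by
  intro e he
  have h3 := h.W_sq _ (mem_conj.1 he)
  have e1 : e * e = g * (g⁻¹ * e * g * (g⁻¹ * e * g)) * g⁻¹ := by group
  rw [e1, h3]; group

/-- `C_E(W) ≤ O₂(X)` for a 2-subgroup `E` of `X`. -/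
theorem cen_le {E : Subgroup G} (hE : IsPGroup 2 E) (hEX : E ≤ X) :
    centralizer (V U X : Set G) ⊓ E ≤ o2 X := by
  obtain ⟨x, hx, hxE⟩ := h.syl E hEX hE
  rintro e ⟨he1, he2⟩
  have h1 : x⁻¹ * e * x ∈ S := mem_conj.1 (hxE he2)
  have h2 : x⁻¹ * e * x ∈ centralizer (V U X : Set G) := by
    rw [mem_centralizer_iff]
    intro w hw
    have hxw : x * w * x⁻¹ ∈ V U X := conj_mem (conj_eq_iff.2 (XD.X_le_normalizer_W hx)) hw
    have h3 := mem_centralizer_iff.1 he1 _ hxw
    have h4 := congrArg (fun t => x⁻¹ * t * x) h3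
    simpa [mul_assoc] using h4
  have h3 := h.coreX ⟨h1, h2⟩
  have h4 := (mem_normalizer_iff.1 (le_normalizer_o2 X hx) _).1 h3
  have h5 : x * (x⁻¹ * e * x) * x⁻¹ = e := by group
  rwa [h5] at h4

theorem two_conj : IsPGroup 2 ↥(MulAut.conj g • V U X) := by
  intro e
  refine ⟨1, Subtype.ext ?_⟩
  have := h.sq_conj _ e.2
  simp only [pow_one, Subgroup.coe_pow, Subgroup.coe_one]
  rw [pow_two]
  exact this

/-- **The numbers.** -/
theorem numbers [Finite G] (hq : 2 ≤ q) (h1 : V U X ≤ MulAut.conj g • X) (h2 : MulAut.conj g • V U X ≤ X) :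
    ∃ m r, (centralizer (V U X : Set G)).relIndex (MulAut.conj g • V U X) = 2 ^ m * r ∧
      r = (o2 X).relIndex (MulAut.conj g • V U X) ∧
      2 ^ m = (centralizer (V U X : Set G)).relIndex (MulAut.conj g • V U X ⊓ o2 X) ∧
      r * r ≤ (centralizer ((MulAut.conj g • V U X : Subgroup G) : Set G)).relIndex (V U X) ∧
      q ^ m ≤ (centralizer ((MulAut.conj g • V U X ⊓ o2 X : Subgroup G) : Set G)).relIndex (V U X) := by
  set W := V U X with hW
  set E := MulAut.conj g • W with hE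
  have hpr := h.pr h1 h2
  obtain ⟨m, hm1, hm2⟩ := hpr.chain hq (D := E ⊓ o2 X) inf_le_left (by
    rintro ν hν d ⟨-, hd⟩
    have h3 : ν⁻¹ * d * ν ∈ o2 X := by
      have := (mem_normalizer_iff.1 (le_normalizer_o2 X (inv_mem hν)) d).1 hd
      rwa [inv_inv] at this
    have h4 := conj_eq_iff.2 ((h.SP.trans h.nP) (h.QX h3))
    rw [conj_conj]
    conv_rhs => rw [← h4, conj_conj]
    congr 2
    group)
  refine ⟨m, (o2 X).relIndex E, ?_, rfl, hm1.symm, ?_, hm2⟩
  · have h3 : (centralizer (W : Set G)).relIndex E = (centralizer (W : Set G)).relIndex (E ⊓ o2 X) *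
        (E ⊓ o2 X).relIndex E := relIndex_step (le_inf inf_le_right (h.cen_le h.two_conj h2)) inf_le_left
    rw [h3, hm1, inf_comm, inf_relIndex_right]
  · exact h.xd.sq_le h.no h.noncentral h2 h.sq_conj

/-- **The claim** for `q ≥ 8`. -/
theorem lt [Finite G] (hq : 8 ≤ q) (h1 : V U X ≤ MulAut.conj g • X) (h2 : MulAut.conj g • V U X ≤ X)
    (hne : ¬ V U X ≤ centralizer ((MulAut.conj g • V U X : Subgroup G) : Set G)) :
    (centralizer (V U X : Set G)).relIndex (MulAut.conj g • V U X) <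
      (centralizer ((MulAut.conj g • V U X : Subgroup G) : Set G)).relIndex (V U X) := by
  obtain ⟨m, r, e1, e2, e3, e4, e5⟩ := h.numbers (by omega) h1 h2
  set F := (centralizer ((MulAut.conj g • V U X : Subgroup G) : Set G)).relIndex (V U X) with hF
  have e6 : q ^ m ≤ F := by
    refine e5.trans (relIndex_le_of_le_left (centralizer_le inf_le_left) (relIndex_ne _ _))
  rw [e1]
  by_contra hcon
  push Not at hcon
  have hr : 0 < r := by rw [e2]; exact Nat.pos_of_ne_zero (relIndex_ne _ _)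
  have h3 : r ≤ 2 ^ m := by
    have : r * r ≤ 2 ^ m * r := e4.trans hcon
    exact Nat.le_of_mul_le_mul_right this hr
  have h4 : 8 ^ m ≤ 4 ^ m := by
    calc 8 ^ m ≤ q ^ m := Nat.pow_le_pow_left hq m
      _ ≤ 2 ^ m * r := e6.trans hcon
      _ ≤ 2 ^ m * 2 ^ m := Nat.mul_le_mul_left _ h3
      _ = 4 ^ m := by rw [← mul_pow]; norm_num
  have h5 : m = 0 := by
    by_contra hm
    exact absurd h4 (not_le.2 (Nat.pow_lt_pow_left (by norm_num) hm))
  subst h5
  have h6 : r = 1 := by simp only [pow_zero] at h3; omega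
  rw [h6, pow_zero, one_mul] at e1
  exact hne (comm_symm (relIndex_eq_one.1 e1))

omit h in
theorem conj_relIndex (A C : Subgroup G) (k : G) :
    (centralizer ((MulAut.conj k • A : Subgroup G) : Set G)).relIndex (MulAut.conj k • C) =
      (centralizer (A : Set G)).relIndex C := by
  rw [MinSimple.CosetFam.centralizer_conj]
  exact relIndex_pointwise_smul (MulAut.conj k) _ _

/-- The claim for all critical `g` is contradictory. -/
theorem false_of_lt (hlt : ∀ g : G, V U X ≤ MulAut.conj g • X → MulAut.conj g • V U X ≤ X →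
    ¬ V U X ≤ centralizer ((MulAut.conj g • V U X : Subgroup G) : Set G) →
    (centralizer (V U X : Set G)).relIndex (MulAut.conj g • V U X) <
      (centralizer ((MulAut.conj g • V U X : Subgroup G) : Set G)).relIndex (V U X)) : False := by
  obtain ⟨g, h1, h2, h3⟩ := exists_pair h.toCD
  have h4 := hlt g h1 h2 h3
  have key : ∀ A : Subgroup G, MulAut.conj g • MulAut.conj g⁻¹ • A = A := fun A => by
    rw [conj_conj, mul_inv_cancel, map_one, one_smul]
  have key' : ∀ A : Subgroup G, MulAut.conj g⁻¹ • MulAut.conj g • A = A := fun A => by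
    rw [conj_conj, inv_mul_cancel, map_one, one_smul]
  have h5 := hlt g⁻¹ (by
    have h6 := conj_le_iff (g := g⁻¹) |>.2 h2
    rwa [key'] at h6) (by
    have h6 := conj_le_iff (g := g⁻¹) |>.2 h1
    rwa [key'] at h6) (fun h6 => h3 (by
    have h7 := conj_le_centralizer (g := g) h6
    rw [key] at h7
    exact comm_symm h7))
  rw [← conj_relIndex (V U X) _ g, ← conj_relIndex (MulAut.conj g⁻¹ • V U X) _ g, key] at h5
  omega

/-- **THEOREM OM (A)**: `|U_i| ≥ 8` is impossible. -/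
theorem no_eight [Finite G] (hq : 8 ≤ q) : False := h.false_of_lt fun _ => h.lt hq

end Hyp

end Cfsg.Agent.Omega.OmThm
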