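import Cfsg.Agent.Omega.OmThm.TT
import Mathlib.Data.Set.Card

/-!
# LEMMA SP (bb OMEGA #19952 (1))

The setting of LEMMA TT (`OmThm/TT.lean`) with `|T p| = q ≥ 4`: `L` is a finite elementary abelian 2-group, `PP` a set of
subgroups (points) of order `q` which meet pairwise trivially, `T p` an additive group of order `q` of endomorphisms `η`
with `η(L) ≤ p`, `η(p) = 0`, such that `1 + η` permutes the points. `Adj T p x` : `T p` does not kill `x`.

* `Dat.kerT` : the nonzero elements of `T p` have the same kernel `perp T p`;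
* `Dat.symm` : adjacency is symmetric; `Dat.add_point` : if `x`, `y` are adjacent, every vector of `x + y` is in a point;
* `Dat.exists_point_add` : the same for all points if the graph is connected (`conn`) and no sum of two nonzero vectors
  of different points is killed by all `T w` (`nk`);
* `Dat.mem_point` : **every vector `≠ 0` is in a point**; `Dat.common` : diameter 2;
* `Dat.perp_inj` : `perp p = perp x` implies `p = x`; `Dat.perp_add` : `L = perp c + z` for adjacent `c`, `z`.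

Pure linear algebra.
-/

set_option autoImplicit false

namespace Cfsg.Agent.Omega.OmThm.SP

open TT (Adj)

variable {L : Type*} [AddCommGroup L]

/-- the vectors killed by `T p` -/
def perp (T : AddSubgroup L → AddSubgroup (L →+ L)) (p : AddSubgroup L) : AddSubgroup L where
  carrier := {v | ∀ η ∈ T p, η v = 0}
  zero_mem' := fun η _ => map_zero η
  add_mem' := fun {a b} ha hb η hη => by rw [map_add, ha η hη, hb η hη, add_zero]
  neg_mem' := fun {a} ha η hη => by rw [map_neg, ha η hη, neg_zero]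

theorem mem_perp {T : AddSubgroup L → AddSubgroup (L →+ L)} {p : AddSubgroup L} {v : L} :
    v ∈ perp T p ↔ ∀ η ∈ T p, η v = 0 := Iff.rfl

/-- The data of LEMMA SP. -/
structure Dat (PP : Set (AddSubgroup L)) (T : AddSubgroup L → AddSubgroup (L →+ L)) (q : ℕ) : Prop where
  two : ∀ v : L, v + v = 0
  hq : 3 ≤ q
  card : ∀ p ∈ PP, Nat.card p = q
  ti : ∀ p ∈ PP, ∀ x ∈ PP, ∀ v ∈ p, v ∈ x → v ≠ 0 → p = x
  im : ∀ p ∈ PP, ∀ η ∈ T p, ∀ v, η v ∈ p
  ker : ∀ p ∈ PP, ∀ η ∈ T p, ∀ v ∈ p, η v = 0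
  move : ∀ p ∈ PP, ∀ η ∈ T p, ∀ x ∈ PP, ∃ y ∈ PP, (∀ u ∈ x, u + η u ∈ y) ∧ (∀ v ∈ y, v + η v ∈ x) ∧
    (∀ τ ∈ T x, ∃ τ' ∈ T y, ∀ v, τ' v = τ (v + η v) + η (τ (v + η v))) ∧
    ∀ τ ∈ T y, ∃ τ' ∈ T x, ∀ v, τ' v = τ (v + η v) + η (τ (v + η v))
  cl : ∀ p ∈ PP, ∀ x ∈ PP, ∀ φ ∈ T p, ∀ ψ ∈ T x, (∀ v ∈ p, ψ v = 0) → φ.comp ψ ∈ T p
  reg : ∀ x ∈ PP, ∀ ψ ∈ T x, ∀ b, ψ b ≠ 0 → ∀ a ∈ x, ∃ ψ' ∈ T x, ψ' b = a ∧ ∀ v, ψ v = 0 → ψ' v = 0
  cardT : ∀ p ∈ PP, Nat.card (T p) = q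

namespace Dat

variable {PP : Set (AddSubgroup L)} {T : AddSubgroup L → AddSubgroup (L →+ L)} {q : ℕ} (D : Dat PP T q)
include D

theorem neg_eq (v : L) : -v = v := neg_eq_of_add_eq_zero_left (D.two v)

theorem eq_of_add {u v : L} (h : u + v = 0) : u = v := by
  rw [← neg_eq_iff_add_eq_zero, D.neg_eq] at h; exact h

theorem add_eq_zero {u v : L} : u + v = 0 ↔ u = v := ⟨D.eq_of_add, fun h => by rw [h, D.two]⟩

theorem ne {p : AddSubgroup L} (hp : p ∈ PP) : ∃ v ∈ p, v ≠ 0 := by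
  by_contra hcon
  push Not at hcon
  have h1 : p = ⊥ := (AddSubgroup.eq_bot_iff_forall p).2 hcon
  have h2 := D.card p hp
  rw [h1, AddSubgroup.card_bot] at h2
  have := D.hq
  omega

theorem neT {p : AddSubgroup L} (hp : p ∈ PP) : ∃ φ ∈ T p, φ ≠ 0 := by
  by_contra hcon
  push Not at hcon
  have h1 : T p = ⊥ := (AddSubgroup.eq_bot_iff_forall (T p)).2 hcon
  have h2 := D.cardT p hp
  rw [h1, AddSubgroup.card_bot] at h2
  have := D.hq
  omega

/-- (1) -/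
theorem inj {p x : AddSubgroup L} (hp : p ∈ PP) (hx : x ∈ PP) {η : L →+ L} (hη : η ∈ T p) {b : L} (hb : b ∈ x)
    (hb0 : b ≠ 0) (h : η b = 0) : ∀ v ∈ x, η v = 0 := by
  intro v hv
  by_cases hpx : p = x
  · subst hpx
    exact D.ker p hp η hη v hv
  · obtain ⟨y, hy, h1, -⟩ := D.move p hp η hη x hx
    have hby : b ∈ y := by simpa [h] using h1 b hb
    have hxy := D.ti x hx y hy b hb hby hb0
    subst hxy
    have h2 : η v ∈ x := by simpa using x.sub_mem (h1 v hv) hv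
    by_contra h0
    exact hpx (D.ti p hp x hx _ (D.im p hp η hη v) h2 h0)

theorem adj_ne {p x : AddSubgroup L} (hp : p ∈ PP) (h : Adj T p x) : p ≠ x := by
  rintro rfl
  obtain ⟨η, hη, v, hv, h0⟩ := h
  exact h0 (D.ker p hp η hη v hv)

variable [Finite L]

/-- the nonzero elements of `T p` have the same kernel -/
theorem kerT {p : AddSubgroup L} (hp : p ∈ PP) {φ : L →+ L} (hφ : φ ∈ T p) (h0 : φ ≠ 0) {v : L} (hv : φ v = 0) :
    v ∈ perp T p := by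
  intro ψ hψ
  by_contra hne
  let f : T p → p := fun η => ⟨η.1 v, D.im p hp η.1 η.2 v⟩
  have hsurj : Function.Surjective f := by
    intro a
    obtain ⟨ψ', hψ', h1, -⟩ := D.reg p hp ψ hψ v hne a a.2
    exact ⟨⟨ψ', hψ'⟩, Subtype.ext h1⟩
  have : Finite (L →+ L) := Finite.of_injective (fun f : L →+ L => (f : L → L)) DFunLike.coe_injective
  have hbij : Function.Bijective f := hsurj.bijective_of_nat_card_le (by rw [D.cardT p hp, D.card p hp])
  have h1 : f ⟨φ, hφ⟩ = f ⟨0, (T p).zero_mem⟩ := Subtype.ext (by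
    show φ v = (0 : L →+ L) v
    rw [hv, AddMonoidHom.zero_apply])
  exact h0 (congrArg Subtype.val (hbij.1 h1))

theorem kerT_iff {p : AddSubgroup L} (hp : p ∈ PP) {φ : L →+ L} (hφ : φ ∈ T p) (h0 : φ ≠ 0) {v : L} :
    φ v = 0 ↔ v ∈ perp T p := ⟨D.kerT hp hφ h0, fun h => h φ hφ⟩

omit [Finite L] in
/-- `T p` does not kill `v ∈ x`, `v ≠ 0`, if `p` and `x` are adjacent -/
theorem notMem_perp {p x : AddSubgroup L} (hp : p ∈ PP) (hx : x ∈ PP) (h : Adj T p x) {v : L} (hv : v ∈ x)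
    (hv0 : v ≠ 0) : v ∉ perp T p := by
  intro h1
  obtain ⟨η, hη, b, hb, hb0⟩ := h
  exact hb0 (D.inj hp hx hη hv hv0 (h1 η hη) b hb)

omit [Finite L] in
theorem adj_iff {p x : AddSubgroup L} (hp : p ∈ PP) (hx : x ∈ PP) {v : L} (hv : v ∈ x) (hv0 : v ≠ 0) :
    Adj T p x ↔ v ∉ perp T p := by
  refine ⟨fun h => D.notMem_perp hp hx h hv hv0, fun h => ?_⟩
  rw [mem_perp] at h
  push Not at h
  obtain ⟨η, hη, h1⟩ := h
  exact ⟨η, hη, v, hv, h1⟩

omit D [Finite L] in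
theorem mem_perp_of_not {p x : AddSubgroup L} (h : ¬ Adj T p x) {v : L} (hv : v ∈ x) : v ∈ perp T p := by
  intro η hη
  by_contra h0
  exact h ⟨η, hη, v, hv, h0⟩

theorem apply_ne {p x : AddSubgroup L} (hp : p ∈ PP) (hx : x ∈ PP) (h : Adj T p x) {φ : L →+ L} (hφ : φ ∈ T p)
    (h0 : φ ≠ 0) {v : L} (hv : v ∈ x) (hv0 : v ≠ 0) : φ v ≠ 0 := fun h1 =>
  D.notMem_perp hp hx h hv hv0 (D.kerT hp hφ h0 h1)

/-- (a) adjacency is symmetric -/
theorem symm {p x : AddSubgroup L} (hp : p ∈ PP) (hx : x ∈ PP) (h : Adj T p x) : Adj T x p := by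
  by_contra hcon
  have hk : ∀ ψ ∈ T x, ∀ v ∈ p, ψ v = 0 := fun ψ hψ v hv => mem_perp_of_not hcon hv ψ hψ
  obtain ⟨φ, hφ, hφ0⟩ := D.neT hp
  obtain ⟨ψ, hψ, hψ0⟩ := D.neT hx
  obtain ⟨u, hu⟩ : ∃ u, ψ u ≠ 0 := by
    by_contra hc
    push Not at hc
    exact hψ0 (by ext v; exact hc v)
  have h1 := D.cl p hp x hx φ hφ ψ hψ (hk ψ hψ)
  have h2 : φ.comp ψ ≠ 0 := fun h3 => D.apply_ne hp hx h hφ hφ0 (D.im x hx ψ hψ u) hu (DFunLike.congr_fun h3 u)
  obtain ⟨v, hv, hv0⟩ := D.ne hx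
  refine D.notMem_perp hp hx h hv hv0 (D.kerT hp h1 h2 ?_)
  show φ (ψ v) = 0
  rw [D.ker x hx ψ hψ v hv, map_zero]

theorem symm_iff {p x : AddSubgroup L} (hp : p ∈ PP) (hx : x ∈ PP) : Adj T p x ↔ Adj T x p :=
  ⟨D.symm hp hx, D.symm hx hp⟩

/-- `x`, `y` adjacent, `b ∈ y` nonzero: some `η ∈ T x` maps `b` to `a ∈ x` -/
theorem exists_map {x y : AddSubgroup L} (hx : x ∈ PP) (hy : y ∈ PP) (h : Adj T x y) {a b : L} (ha : a ∈ x)
    (hb : b ∈ y) (hb0 : b ≠ 0) : ∃ η ∈ T x, η b = a := by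
  obtain ⟨φ, hφ, hφ0⟩ := D.neT hx
  obtain ⟨η, hη, h1, -⟩ := D.reg x hx φ hφ b (D.apply_ne hx hy h hφ hφ0 hb hb0) a ha
  exact ⟨η, hη, h1⟩

omit [Finite L] in
theorem add_ne {x y : AddSubgroup L} (hx : x ∈ PP) (hy : y ∈ PP) (hxy : x ≠ y) {a b : L} (ha : a ∈ x) (hb : b ∈ y)
    (ha0 : a ≠ 0) : a + b ≠ 0 := fun h => hxy (D.ti x hx y hy a ha (by rw [D.eq_of_add h]; exact hb) ha0)

/-- (b) -/
theorem add_point {x y : AddSubgroup L} (hx : x ∈ PP) (hy : y ∈ PP) (h : Adj T x y) {a b : L} (ha : a ∈ x)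
    (hb : b ∈ y) (hb0 : b ≠ 0) : ∃ u ∈ PP, a + b ∈ u := by
  obtain ⟨η, hη, h1⟩ := D.exists_map hx hy h ha hb hb0
  obtain ⟨u, hu, h2, -⟩ := D.move x hx η hη y hy
  refine ⟨u, hu, ?_⟩
  have := h2 b hb
  rwa [h1, add_comm] at this

/-- (c) -/
theorem add_of {p x z : AddSubgroup L} (hp : p ∈ PP) (hx : x ∈ PP) (hz : z ∈ PP) (hpx : ¬ Adj T p x)
    (hzp : Adj T z p) (hzx : Adj T z x) {a b : L} (ha : a ∈ p) (ha0 : a ≠ 0) (hb : b ∈ x) (hb0 : b ≠ 0)
    (hv : a + b ∉ perp T z) : ∃ u ∈ PP, a + b ∈ u := by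
  obtain ⟨c, hc, hc0⟩ := D.ne hz
  obtain ⟨η, hη, h1⟩ := D.exists_map hz hp hzp hc ha ha0
  have hη0 : η ≠ 0 := by rintro rfl; exact hc0 (by rw [← h1]; rfl)
  obtain ⟨y, hy, h2, -, h3, -⟩ := D.move z hz η hη p hp
  have hay : a + c ∈ y := by have := h2 a ha; rwa [h1] at this
  obtain ⟨w, hw, hbw⟩ := D.add_point hz hx hzx hc hb hb0
  have hzp' := D.adj_ne hz hzp
  have hzx' := D.adj_ne hz hzx
  have hbc0 : c + b ≠ 0 := D.add_ne hz hx hzx' hc hb hc0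
  have hyw : Adj T y w := by
    obtain ⟨τ, hτ, hτ0⟩ := D.neT hp
    obtain ⟨τ', hτ', h4⟩ := h3 τ hτ
    refine ⟨τ', hτ', c + b, hbw, ?_⟩
    rw [h4]
    have e1 : c + b + η (c + b) = (c + η b) + b := by
      rw [map_add, D.ker z hz η hη c hc]; abel
    have hd : c + η b ∈ z := z.add_mem hc (D.im z hz η hη b)
    have hd0 : c + η b ≠ 0 := by
      intro h0
      apply hv
      refine D.kerT hz hη hη0 ?_
      rw [map_add, h1]
      exact h0
    have e2 : τ (c + b + η (c + b)) = τ (c + η b) := by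
      rw [e1, map_add, mem_perp_of_not hpx hb τ hτ, add_zero]
    have hpz : Adj T p z := D.symm hz hp hzp
    have h5 : τ (c + η b) ≠ 0 := D.apply_ne hp hz hpz hτ hτ0 hd hd0
    rw [e2]
    intro h6
    have h7 := D.eq_of_add h6
    exact hzp' (D.ti z hz p hp _ (D.im z hz η hη (τ (c + η b))) (by rw [← h7]; exact D.im p hp τ hτ _)
      (by rw [← h7]; exact h5))
  obtain ⟨u, hu, h4⟩ := D.add_point hy hw hyw hay hbw hbc0
  refine ⟨u, hu, ?_⟩
  have e : a + c + (c + b) = a + b := by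
    calc a + c + (c + b) = a + (c + c) + b := by abel
      _ = a + b := by rw [D.two, add_zero]
  rwa [e] at h4

/-- (d), the essential case -/
theorem step {p x z w : AddSubgroup L} (hp : p ∈ PP) (hx : x ∈ PP) (hz : z ∈ PP) (hw : w ∈ PP)
    (hpx : ¬ Adj T p x) (hzp : Adj T z p) (hzx : Adj T z x) (hwp : Adj T w p) (hwx : ¬ Adj T w x) {v : L}
    (hv : v ∉ perp T w)
    (hk : ∀ y ∈ PP, Adj T y p → Adj T y x → v ∈ perp T y) : False := by
  have hxp : ¬ Adj T x p := fun h => hpx (D.symm hx hp h)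
  have hxw : ¬ Adj T x w := fun h => hwx (D.symm hx hw h)
  have hpw : Adj T p w := D.symm hw hp hwp
  -- w. l. o. g. `z` and `w` are adjacent
  obtain ⟨z, hz, hzp, hzx, hwz⟩ : ∃ z ∈ PP, Adj T z p ∧ Adj T z x ∧ Adj T w z := by
    by_cases hwz : Adj T w z
    · exact ⟨z, hz, hzp, hzx, hwz⟩
    obtain ⟨τ, hτ, hτ0⟩ := D.neT hp
    obtain ⟨z', hz', h1, -⟩ := D.move p hp τ hτ z hz
    obtain ⟨c, hc, hc0⟩ := D.ne hz
    have hpz : Adj T p z := D.symm hz hp hzp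
    have hτc : τ c ≠ 0 := D.apply_ne hp hz hpz hτ hτ0 hc hc0
    have hτcp : τ c ∈ p := D.im p hp τ hτ c
    have hc' := h1 c hc
    refine ⟨z', hz', D.symm hp hz' ⟨τ, hτ, c + τ c, hc', ?_⟩, ?_, ?_⟩
    · rw [map_add, D.ker p hp τ hτ _ hτcp, add_zero]
      exact hτc
    · obtain ⟨σ, hσ, hσ0⟩ := D.neT hx
      refine D.symm hx hz' ⟨σ, hσ, c + τ c, hc', ?_⟩
      rw [map_add, mem_perp_of_not hxp hτcp σ hσ, add_zero]
      exact D.apply_ne hx hz (D.symm hz hx hzx) hσ hσ0 hc hc0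
    · obtain ⟨φ, hφ, hφ0⟩ := D.neT hw
      refine ⟨φ, hφ, c + τ c, hc', ?_⟩
      rw [map_add, mem_perp_of_not hwz hc φ hφ, zero_add]
      exact D.apply_ne hw hp hwp hφ hφ0 hτcp hτc
  have hzw : Adj T z w := D.symm hw hz hwz
  have hzw' := D.adj_ne hz hzw
  obtain ⟨c, hc, hc0⟩ := D.ne hz
  obtain ⟨τ, hτ, hτ0⟩ := D.neT hp
  have key : ∀ η ∈ T w, η ≠ 0 → τ c = τ (η c) := by
    intro η hη hη0
    obtain ⟨y, hy, h1, -, h3, -⟩ := D.move w hw η hη z hz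
    have hc' := h1 c hc
    have hηc : η c ∈ w := D.im w hw η hη c
    have hyv : v ∉ perp T y := by
      obtain ⟨ρ, hρ, hρ0⟩ := D.neT hz
      obtain ⟨ρ', hρ', h4⟩ := h3 ρ hρ
      intro h5
      have h6 := h5 ρ' hρ'
      rw [h4, map_add, hk z hz hzp hzx ρ hρ, zero_add] at h6
      have hηv : η v ≠ 0 := fun h0 => hv (D.kerT hw hη hη0 h0)
      have h7 : ρ (η v) ≠ 0 := D.apply_ne hz hw hzw hρ hρ0 (D.im w hw η hη v) hηv
      have h8 := D.eq_of_add h6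
      exact hzw' (D.ti z hz w hw _ (D.im z hz ρ hρ (η v)) (by rw [h8]; exact D.im w hw η hη _) h7)
    have hyx : Adj T y x := by
      obtain ⟨σ, hσ, hσ0⟩ := D.neT hx
      refine D.symm hx hy ⟨σ, hσ, c + η c, hc', ?_⟩
      rw [map_add, mem_perp_of_not hxw hηc σ hσ, add_zero]
      exact D.apply_ne hx hz (D.symm hz hx hzx) hσ hσ0 hc hc0
    have hyp : ¬ Adj T y p := fun h => hyv (hk y hy h hyx)
    have h9 : ¬ Adj T p y := fun h => hyp (D.symm hp hy h)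
    have h10 := mem_perp_of_not h9 hc' τ hτ
    rw [map_add] at h10
    exact D.eq_of_add h10
  -- two different nonzero elements of `T w`
  obtain ⟨η₁, hη₁, hη₁0, η₂, hη₂, hη₂0, hne⟩ : ∃ η₁ ∈ T w, η₁ ≠ 0 ∧ ∃ η₂ ∈ T w, η₂ ≠ 0 ∧ η₁ ≠ η₂ := by
    obtain ⟨η₁, hη₁, hη₁0⟩ := D.neT hw
    refine ⟨η₁, hη₁, hη₁0, ?_⟩
    by_contra hcon
    push Not at hcon
    have : Finite (L →+ L) := Finite.of_injective (fun f : L →+ L => (f : L → L)) DFunLike.coe_injective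
    have h1 : ((T w : AddSubgroup (L →+ L)) : Set (L →+ L)) ⊆ {0, η₁} := by
      intro η hη
      by_cases h0 : η = 0
      · exact Or.inl h0
      · exact Or.inr (hcon η hη h0).symm
    have h2 : ((T w : AddSubgroup (L →+ L)) : Set (L →+ L)).ncard ≤ 2 :=
      (Set.ncard_le_ncard h1).trans (Set.ncard_insert_le _ _ |>.trans (by simp))
    have h3 : ((T w : AddSubgroup (L →+ L)) : Set (L →+ L)).ncard = q := D.cardT w hw
    have := D.hq
    omega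
  have h1 := (key η₁ hη₁ hη₁0).symm.trans (key η₂ hη₂ hη₂0)
  have h2 : τ (η₁ c - η₂ c) = 0 := by rw [map_sub, h1, sub_self]
  have h3 : η₁ c - η₂ c = 0 := by
    by_contra h0
    exact D.apply_ne hp hw hpw hτ hτ0 (w.sub_mem (D.im w hw η₁ hη₁ c) (D.im w hw η₂ hη₂ c)) h0 h2
  exact D.apply_ne hw hz hwz ((T w).sub_mem hη₁ hη₂) (sub_ne_zero.2 hne) hc hc0 (by
    rw [AddMonoidHom.sub_apply]; exact h3)

/-- (d) -/
theorem exists_common_ne {p x z w : AddSubgroup L} (hp : p ∈ PP) (hx : x ∈ PP) (hz : z ∈ PP) (hw : w ∈ PP)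
    (hpx : ¬ Adj T p x) (hzp : Adj T z p) (hzx : Adj T z x) {a b : L} (ha : a ∈ p) (hb : b ∈ x)
    (hv : a + b ∉ perp T w) : ∃ y ∈ PP, Adj T y p ∧ Adj T y x ∧ a + b ∉ perp T y := by
  by_contra hcon
  push Not at hcon
  by_cases hwp : Adj T w p <;> by_cases hwx : Adj T w x
  · exact hv (hcon w hw hwp hwx)
  · exact D.step hp hx hz hw hpx hzp hzx hwp hwx hv hcon
  · exact D.step hx hp hz hw (fun h => hpx (D.symm hx hp h)) hzx hzp hwx hwp hv
      (fun y hy h1 h2 => hcon y hy h2 h1)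
  · exact hv ((perp T w).add_mem (mem_perp_of_not hwp ha) (mem_perp_of_not hwx hb))

/-- (e) diameter 2 -/
theorem common (conn : ∀ p ∈ PP, ∀ x ∈ PP, Relation.ReflTransGen (fun a b => a ∈ PP ∧ b ∈ PP ∧ Adj T a b) p x)
    {p x : AddSubgroup L} (hp : p ∈ PP) (hx : x ∈ PP) :
    p = x ∨ Adj T p x ∨ ∃ z ∈ PP, Adj T z p ∧ Adj T z x := by
  have h := conn p hp x hx
  clear hx
  induction h with
  | refl => exact Or.inl rfl
  | @tail y x _ h2 ih =>
    obtain ⟨hy, hx, hyx⟩ := h2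
    by_cases hpx : Adj T p x
    · exact Or.inr (Or.inl hpx)
    rcases ih with rfl | h3 | ⟨z, hz, hzp, hzy⟩
    · exact absurd hyx hpx
    · exact Or.inr (Or.inr ⟨y, hy, D.symm hp hy h3, hyx⟩)
    · by_cases hzx : Adj T z x
      · exact Or.inr (Or.inr ⟨z, hz, hzp, hzx⟩)
      by_cases hpy : Adj T p y
      · exact Or.inr (Or.inr ⟨y, hy, D.symm hp hy hpy, hyx⟩)
      obtain ⟨a, ha, ha0⟩ := D.ne hz
      obtain ⟨b, hb, hb0⟩ := D.ne hy
      obtain ⟨u, hu, hab⟩ := D.add_point hz hy hzy ha hb hb0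
      refine Or.inr (Or.inr ⟨u, hu, D.symm hp hu ?_, D.symm hx hu ?_⟩)
      · obtain ⟨τ, hτ, hτ0⟩ := D.neT hp
        refine ⟨τ, hτ, a + b, hab, ?_⟩
        rw [map_add, mem_perp_of_not hpy hb τ hτ, add_zero]
        exact D.apply_ne hp hz (D.symm hz hp hzp) hτ hτ0 ha ha0
      · obtain ⟨σ, hσ, hσ0⟩ := D.neT hx
        refine ⟨σ, hσ, a + b, hab, ?_⟩
        have hxz : ¬ Adj T x z := fun h => hzx (D.symm hx hz h)
        rw [map_add, mem_perp_of_not hxz ha σ hσ, zero_add]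
        exact D.apply_ne hx hy (D.symm hy hx hyx) hσ hσ0 hb hb0

section conn

variable (conn : ∀ p ∈ PP, ∀ x ∈ PP, Relation.ReflTransGen (fun a b => a ∈ PP ∧ b ∈ PP ∧ Adj T a b) p x)
  (nk : ∀ p ∈ PP, ∀ x ∈ PP, p ≠ x → ∀ a ∈ p, a ≠ 0 → ∀ b ∈ x, b ≠ 0 → ∃ w ∈ PP, a + b ∉ perp T w)
include conn nk

/-- the sum of two vectors of different points is in a point -/
theorem exists_point_add {p x : AddSubgroup L} (hp : p ∈ PP) (hx : x ∈ PP) {a b : L} (ha : a ∈ p) (ha0 : a ≠ 0)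
    (hb : b ∈ x) (hb0 : b ≠ 0) : ∃ u ∈ PP, a + b ∈ u := by
  by_cases hpx : p = x
  · subst hpx
    exact ⟨p, hp, p.add_mem ha hb⟩
  by_cases hadj : Adj T p x
  · exact D.add_point hp hx hadj ha hb hb0
  rcases D.common conn hp hx with h | h | ⟨z, hz, hzp, hzx⟩
  · exact absurd h hpx
  · exact absurd h hadj
  · obtain ⟨w, hw, hv⟩ := nk p hp x hx hpx a ha ha0 b hb hb0
    obtain ⟨y, hy, hyp, hyx, hv'⟩ := D.exists_common_ne hp hx hz hw hadj hzp hzx ha hb hv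
    exact D.add_of hp hx hy hadj hyp hyx ha ha0 hb hb0 hv'

/-- **every vector `≠ 0` of the group generated by the points is in a point** -/
theorem mem_point {v : L} (hv : v ∈ ⨆ p ∈ PP, p) (hv0 : v ≠ 0) : ∃ x ∈ PP, v ∈ x := by
  let U : AddSubgroup L :=
    { carrier := {v | v = 0 ∨ ∃ x ∈ PP, v ∈ x}
      zero_mem' := Or.inl rfl
      add_mem' := by
        rintro a b (rfl | ⟨x, hx, ha⟩) (rfl | ⟨y, hy, hb⟩)
        · left; simp
        · right; exact ⟨y, hy, by rwa [zero_add]⟩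
        · right; exact ⟨x, hx, by rwa [add_zero]⟩
        · by_cases ha0 : a = 0
          · right; exact ⟨y, hy, by rwa [ha0, zero_add]⟩
          by_cases hb0 : b = 0
          · right; exact ⟨x, hx, by rwa [hb0, add_zero]⟩
          right
          exact D.exists_point_add conn nk hx hy ha ha0 hb hb0
      neg_mem' := by
        rintro a ha
        rw [Set.mem_ofPred_eq, D.neg_eq]
        exact ha }
  have hU : (⨆ p ∈ PP, p) ≤ U := iSup₂_le fun p hp v hv => Or.inr ⟨p, hp, hv⟩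
  exact (hU hv).resolve_left hv0

end conn

/-- `φ` maps `x` onto `p` if `p`, `x` are adjacent -/
theorem exists_preim {p x : AddSubgroup L} (hp : p ∈ PP) (hx : x ∈ PP) (h : Adj T p x) {φ : L →+ L} (hφ : φ ∈ T p)
    (h0 : φ ≠ 0) {a : L} (ha : a ∈ p) : ∃ b ∈ x, φ b = a := by
  let f : x → p := fun v => ⟨φ v, D.im p hp φ hφ v⟩
  have hinj : Function.Injective f := by
    intro u v he
    have he' : φ u = φ v := congrArg Subtype.val he
    apply Subtype.ext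
    by_contra hne
    refine D.apply_ne hp hx h hφ h0 (x.sub_mem u.2 v.2) (sub_ne_zero.2 hne) ?_
    rw [map_sub, he', sub_self]
  have hbij : Function.Bijective f := hinj.bijective_of_nat_card_le (by rw [D.card p hp, D.card x hx])
  obtain ⟨b, hb⟩ := hbij.2 ⟨a, ha⟩
  exact ⟨b, b.2, congrArg Subtype.val hb⟩

/-- `L = perp c + z` for adjacent `c`, `z` -/
theorem perp_add {c z : AddSubgroup L} (hc : c ∈ PP) (hz : z ∈ PP) (h : Adj T c z) (v : L) :
    ∃ u ∈ perp T c, ∃ b ∈ z, v = u + b := by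
  obtain ⟨φ, hφ, h0⟩ := D.neT hc
  obtain ⟨b, hb, h1⟩ := D.exists_preim hc hz h hφ h0 (D.im c hc φ hφ v)
  refine ⟨v - b, D.kerT hc hφ h0 (by rw [map_sub, h1, sub_self]), b, hb, by abel⟩

/-- (f) -/
theorem perp_inj (hall : ∀ v : L, v ≠ 0 → ∃ x ∈ PP, v ∈ x) {c x : AddSubgroup L} (hc : c ∈ PP) (hx : x ∈ PP)
    (h : perp T c = perp T x) : c = x := by
  by_contra hne
  have hcx : ¬ Adj T c x := by
    intro h1
    obtain ⟨v, hv, hv0⟩ := D.ne hx
    refine D.notMem_perp hc hx h1 hv hv0 ?_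
    rw [h]
    exact fun η hη => D.ker x hx η hη v hv
  obtain ⟨φ, hφ, hφ0⟩ := D.neT hc
  obtain ⟨u, hu⟩ : ∃ u, φ u ≠ 0 := by
    by_contra hcon
    push Not at hcon
    exact hφ0 (by ext v; exact hcon v)
  have hu0 : u ≠ 0 := by rintro rfl; exact hu (map_zero _)
  obtain ⟨z, hz, huz⟩ := hall u hu0
  have hcz : Adj T c z := ⟨φ, hφ, u, huz, hu⟩
  have hxz : Adj T x z := by
    rw [D.adj_iff hx hz huz hu0, ← h]
    exact D.notMem_perp hc hz hcz huz hu0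
  obtain ⟨ψ, hψ, hψ0⟩ := D.neT hz
  obtain ⟨a, ha, ha0⟩ := D.ne hc
  obtain ⟨b, hb, hb1⟩ := D.exists_preim hz hx (D.symm hx hz hxz) hψ hψ0 (D.im z hz ψ hψ a)
  have hab0 : a + b ≠ 0 := D.add_ne hc hx hne ha hb ha0
  obtain ⟨y, hy, haby⟩ := hall _ hab0
  have hψab : ψ (a + b) = 0 := by rw [map_add, hb1, D.two]
  have hyz : ¬ Adj T y z := by
    intro h1
    exact (D.adj_iff hz hy haby hab0).1 (D.symm hy hz h1) (D.kerT hz hψ hψ0 hψab)
  -- `T y` kills `perp T c`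
  have hkill : ∀ v ∈ perp T c, v ∈ perp T y := by
    intro v hv
    by_cases hv0 : v = 0
    · rw [hv0]; exact (perp T y).zero_mem
    obtain ⟨w, hw, hvw⟩ := hall v hv0
    have h1 : ¬ Adj T c w := fun h2 => (D.adj_iff hc hw hvw hv0).1 h2 hv
    have h2 : ¬ Adj T x w := fun h3 => (D.adj_iff hx hw hvw hv0).1 h3 (by rw [← h]; exact hv)
    have h3 : ¬ Adj T w c := fun h4 => h1 (D.symm hw hc h4)
    have h4 : ¬ Adj T w x := fun h5 => h2 (D.symm hw hx h5)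
    have h5 : a + b ∈ perp T w := (perp T w).add_mem (mem_perp_of_not h3 ha) (mem_perp_of_not h4 hb)
    have h6 : ¬ Adj T w y := fun h7 => (D.adj_iff hw hy haby hab0).1 h7 h5
    exact mem_perp_of_not (fun h7 => h6 (D.symm hy hw h7)) hvw
  obtain ⟨ρ, hρ, hρ0⟩ := D.neT hy
  apply hρ0
  ext v
  obtain ⟨u', hu', b', hb', rfl⟩ := D.perp_add hc hz hcz v
  rw [map_add, hkill u' hu' ρ hρ, mem_perp_of_not hyz hb' ρ hρ, add_zero]
  rfl

end Dat

end Cfsg.Agent.Omega.OmThm.SP
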