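import Mathlib.GroupTheory.Coset.Card
import Mathlib.Algebra.Group.Subgroup.Finite
import Mathlib.SetTheory.Cardinal.Finite
import Mathlib.Algebra.Group.Hom.Basic
import Mathlib.Algebra.Group.Subgroup.Lattice
import Mathlib.Tactic.Abel
import Mathlib.SetTheory.Cardinal.NatCard

/-!
# LEMMA TT (bb OMEGA #17612)

`L` is a finite elementary abelian 2-group, `PP` a set of subgroups (points) of order `q` which meet pairwise trivially,
`T p` (for a point `p`) an additive group of endomorphisms `η` with `η(L) ≤ p`, `η(p) = 0`, such that `1 + η` permutes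
the points.  If `|T p| > q` and there is no 'radical' (field `rad`), then 'adjacent or equal' is an equivalence
relation on `PP` (`Dat.clique`), for each class the union of the points is a subgroup `U p` (`Dat.U`), and `L` is
the direct sum of these (`Dat.iSup_U`, `Dat.U_inf`); `8 ≤ |U p|` (`Dat.eight_le`).

Pure linear algebra, no transvection theorem.
-/

set_option autoImplicit false

namespace Cfsg.Agent.Omega.OmThm.TT

variable {L : Type*} [AddCommGroup L]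

/-- `p` and `x` are adjacent: some `η ∈ T p` is not zero on `x`. -/
def Adj (T : AddSubgroup L → AddSubgroup (L →+ L)) (p x : AddSubgroup L) : Prop := ∃ η ∈ T p, ∃ v ∈ x, η v ≠ 0

/-- some `η ∈ T p` kills `x` and does not kill `w` -/
def Dis (T : AddSubgroup L → AddSubgroup (L →+ L)) (p x w : AddSubgroup L) : Prop :=
  ∃ η ∈ T p, (∀ v ∈ x, η v = 0) ∧ ∃ v ∈ w, η v ≠ 0

/-- The data of LEMMA TT. -/
structure Dat (PP : Set (AddSubgroup L)) (T : AddSubgroup L → AddSubgroup (L →+ L)) (q : ℕ) : Prop where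
  two : ∀ v : L, v + v = 0
  card : ∀ p ∈ PP, Nat.card p = q
  ne : ∀ p ∈ PP, ∃ v ∈ p, v ≠ 0
  ti : ∀ p ∈ PP, ∀ x ∈ PP, ∀ v ∈ p, v ∈ x → v ≠ 0 → p = x
  im : ∀ p ∈ PP, ∀ η ∈ T p, ∀ v, η v ∈ p
  ker : ∀ p ∈ PP, ∀ η ∈ T p, ∀ v ∈ p, η v = 0
  move : ∀ p ∈ PP, ∀ η ∈ T p, ∀ x ∈ PP, ∃ y ∈ PP, (∀ u ∈ x, u + η u ∈ y) ∧ (∀ v ∈ y, v + η v ∈ x) ∧
    (∀ τ ∈ T x, ∃ τ' ∈ T y, ∀ v, τ' v = τ (v + η v) + η (τ (v + η v))) ∧
    ∀ τ ∈ T y, ∃ τ' ∈ T x, ∀ v, τ' v = τ (v + η v) + η (τ (v + η v))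
  cl : ∀ p ∈ PP, ∀ x ∈ PP, ∀ φ ∈ T p, ∀ ψ ∈ T x, (∀ v ∈ p, ψ v = 0) → φ.comp ψ ∈ T p
  reg : ∀ x ∈ PP, ∀ ψ ∈ T x, ∀ b, ψ b ≠ 0 → ∀ a ∈ x, ∃ ψ' ∈ T x, ψ' b = a ∧ ∀ v, ψ v = 0 → ψ' v = 0
  cardT : ∀ p ∈ PP, ∀ x ∈ PP, Nat.card (T p) = Nat.card (T x)
  big : ∀ p ∈ PP, q < Nat.card (T p)
  span : (⨆ p ∈ PP, p) = (⊤ : AddSubgroup L)
  rad : ∀ p ∈ PP, ∀ x ∈ PP, ∀ η ∈ T p, ∀ η' ∈ T x, (∀ v, ∀ y ∈ PP, ∀ τ ∈ T y, τ (η v + η' v) = 0) →
    ∀ v, η v + η' v = 0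

namespace Dat

variable {PP : Set (AddSubgroup L)} {T : AddSubgroup L → AddSubgroup (L →+ L)} {q : ℕ} (D : Dat PP T q)
include D

theorem neg_eq (v : L) : -v = v := neg_eq_of_add_eq_zero_left (D.two v)

theorem eq_of_add {u v : L} (h : u + v = 0) : u = v := by
  rw [← neg_eq_iff_add_eq_zero, D.neg_eq] at h; exact h

theorem add_eq_zero {u v : L} : u + v = 0 ↔ u = v := ⟨D.eq_of_add, fun h => by rw [h, D.two]⟩

/-- (1) -/
theorem inj {p x : AddSubgroup L} (hp : p ∈ PP) (hx : x ∈ PP) {η : L →+ L} (hη : η ∈ T p) {b : L} (hb : b ∈ x)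
    (hb0 : b ≠ 0) (h : η b = 0) : ∀ v ∈ x, η v = 0 := by
  intro v hv
  by_cases hpx : p = x
  · subst hpx
    exact D.ker p hp η hη v hv
  · obtain ⟨y, hy, h1, -⟩ := D.move p hp η hη x hx
    have hby : b ∈ y := by simpa [h] using h1 b hb
    have hxy := D.ti x hx y hy b hb hby hb0
    subst hxy
    have h2 : η v ∈ x := by simpa using x.sub_mem (h1 v hv) hv
    by_contra h0
    exact hpx (D.ti p hp x hx _ (D.im p hp η hη v) h2 h0)

/-- if some `η ∈ T p` does not kill `x`, it is injective on `x` -/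
theorem inj' {p x : AddSubgroup L} (hp : p ∈ PP) (hx : x ∈ PP) {η : L →+ L} (hη : η ∈ T p) {b : L} (hb : b ∈ x)
    (h : η b ≠ 0) {v : L} (hv : v ∈ x) (hv0 : v ≠ 0) : η v ≠ 0 :=
  fun h0 => h (D.inj hp hx hη hv hv0 h0 b hb)

theorem adj_ne {p x : AddSubgroup L} (hp : p ∈ PP) (h : Adj T p x) : p ≠ x := by
  rintro rfl
  obtain ⟨η, hη, v, hv, h0⟩ := h
  exact h0 (D.ker p hp η hη v hv)

omit D in
theorem adj_of_dis {p x w : AddSubgroup L} (h : Dis T p x w) : Adj T p w := by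
  obtain ⟨η, hη, -, v, hv, h0⟩ := h
  exact ⟨η, hη, v, hv, h0⟩

variable [Finite L]

/-- (2) adjacency is symmetric -/
theorem symm {p x : AddSubgroup L} (hp : p ∈ PP) (hx : x ∈ PP) (h : Adj T p x) : Adj T x p := by
  by_contra hcon
  have hk : ∀ ψ ∈ T x, ∀ v ∈ p, ψ v = 0 := by
    intro ψ hψ v hv
    by_contra h0
    exact hcon ⟨ψ, hψ, v, hv, h0⟩
  obtain ⟨φ, hφ, b, hb, h0⟩ := h
  let f : T x → T p := fun ψ => ⟨φ.comp ψ.1, D.cl p hp x hx φ hφ ψ.1 ψ.2 (hk ψ.1 ψ.2)⟩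
  have hinj : Function.Injective f := by
    intro ψ₁ ψ₂ he
    have he' : φ.comp ψ₁.1 = φ.comp ψ₂.1 := congrArg Subtype.val he
    apply Subtype.ext
    ext v
    have h1 : φ (ψ₁.1 v) = φ (ψ₂.1 v) := DFunLike.congr_fun he' v
    by_contra hne
    refine D.inj' hp hx hφ hb h0 (x.sub_mem (D.im x hx _ ψ₁.2 v) (D.im x hx _ ψ₂.2 v)) (sub_ne_zero.2 hne) ?_
    rw [map_sub, h1, sub_self]
  have : Finite (L →+ L) := Finite.of_injective (fun f : L →+ L => (f : L → L)) DFunLike.coe_injective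
  have hbij : Function.Bijective f := hinj.bijective_of_nat_card_le (le_of_eq (D.cardT p hp x hx))
  obtain ⟨ψ, hψ⟩ := hbij.2 ⟨φ, hφ⟩
  have h1 : φ.comp ψ.1 = φ := congrArg Subtype.val hψ
  apply h0
  rw [← h1]
  show φ (ψ.1 b) = 0
  rw [D.ker x hx _ ψ.2 b hb, map_zero]

/-- (3) -/
theorem tri {p x y : AddSubgroup L} (hp : p ∈ PP) (hy : y ∈ PP) (h : Adj T p y) (h2 : Dis T p y x) :
    Dis T y p x := by
  obtain ⟨ψ, hψ, c, hc, hc0⟩ := D.symm hp hy h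
  obtain ⟨η, hη, hk, b, hb, hb0⟩ := h2
  refine ⟨ψ.comp η, D.cl y hy p hp ψ hψ η hη hk, fun v hv => ?_, b, hb, ?_⟩
  · show ψ (η v) = 0
    rw [D.ker p hp η hη v hv, map_zero]
  · exact D.inj' hy hp hψ hc hc0 (D.im p hp η hη b) hb0

omit [Finite L] in
/-- the condition `W(p;x) ≰ W(p;w)` is symmetric in `x` and `w` for neighbours `x`, `w` of `p` -/
theorem dis_symm {p x w : AddSubgroup L} (hp : p ∈ PP) (hx : Adj T p x) (hwP : w ∈ PP) (h : Dis T p x w) :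
    Dis T p w x := by
  obtain ⟨φ, hφ, b, hb, hb0⟩ := hx
  obtain ⟨η, hη, hk, c, hc, hc0⟩ := h
  have hcne : c ≠ 0 := by rintro rfl; exact hc0 (map_zero _)
  obtain ⟨η', hη', h1, h2⟩ := D.reg p hp η hη c hc0 (φ c) (D.im p hp φ hφ c)
  refine ⟨φ - η', (T p).sub_mem hφ hη', D.inj hp hwP ((T p).sub_mem hφ hη') hc hcne ?_, b, hb, ?_⟩
  · rw [AddMonoidHom.sub_apply, h1, sub_self]
  · rw [AddMonoidHom.sub_apply, h2 b (hk b hb), sub_zero]
    exact hb0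

omit [Finite L] in
/-- an element of `T p` which kills all points is zero -/
theorem exists_ne {η : L →+ L} (h : η ≠ 0) : ∃ x ∈ PP, ∃ v ∈ x, η v ≠ 0 := by
  by_contra hcon
  push Not at hcon
  apply h
  have h1 : (⊤ : AddSubgroup L) ≤ η.ker := by
    rw [← D.span]
    exact iSup₂_le fun x hx v hv => hcon x hx v hv
  ext v
  exact h1 (AddSubgroup.mem_top v)

/-- (4) -/
theorem exists_dis {p x : AddSubgroup L} (hp : p ∈ PP) (hx : x ∈ PP) : ∃ y ∈ PP, Dis T p x y := by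
  obtain ⟨b, hb, hb0⟩ := D.ne x hx
  let f : T p → p := fun η => ⟨η.1 b, D.im p hp η.1 η.2 b⟩
  have hf : ¬ Function.Injective f := by
    intro hinj
    have h1 := Nat.card_le_card_of_injective f hinj
    have h2 := D.big p hp
    rw [D.card p hp] at h1
    omega
  rw [Function.Injective] at hf
  push Not at hf
  obtain ⟨η₁, η₂, he, hne⟩ := hf
  have he' : η₁.1 b = η₂.1 b := congrArg Subtype.val he
  have hd : η₁.1 - η₂.1 ≠ 0 := fun h0 => hne (Subtype.ext (sub_eq_zero.1 h0))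
  obtain ⟨y, hy, v, hv, hv0⟩ := D.exists_ne hd
  refine ⟨y, hy, η₁.1 - η₂.1, (T p).sub_mem η₁.2 η₂.2,
    D.inj hp hx ((T p).sub_mem η₁.2 η₂.2) hb hb0 ?_, v, hv, hv0⟩
  rw [AddMonoidHom.sub_apply, he', sub_self]

/-- (5) -/
theorem not_dis {p p' p'' : AddSubgroup L} (hp : p ∈ PP) (hp' : p' ∈ PP) (h1 : Adj T p p') (h : ¬ Adj T p p'') :
    ¬ Dis T p' p p'' :=
  fun h2 => h (adj_of_dis (D.tri hp' hp (D.symm hp hp' h1) h2))

/-- (6), the first half: a second common neighbour -/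
theorem exists_second {p p' p'' : AddSubgroup L} (hp : p ∈ PP) (hp' : p' ∈ PP) (hp'' : p'' ∈ PP) (h1 : Adj T p p')
    (h2 : Adj T p'' p') (h : ¬ Adj T p p'') : ∃ y ∈ PP, Dis T p p' y ∧ Adj T p'' y := by
  obtain ⟨y, hy, ψ, hψ, hk, hv⟩ := D.exists_dis hp' hp
  have hk' : ∀ v ∈ p'', ψ v = 0 := by
    intro v hv'
    by_contra h0
    exact D.not_dis hp hp' h1 h ⟨ψ, hψ, hk, v, hv', h0⟩
  exact ⟨y, hy, D.tri hp' hp (D.symm hp hp' h1) ⟨ψ, hψ, hk, hv⟩,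
    adj_of_dis (D.tri hp' hp'' (D.symm hp'' hp' h2) ⟨ψ, hψ, hk', hv⟩)⟩

omit [Finite L] in
/-- one of two different hyperplanes is different from a third one -/
theorem dis_or {p w y x : AddSubgroup L} (hp : p ∈ PP) (hy : y ∈ PP) (h : Dis T p w y) (hx : Adj T p x) :
    Dis T p w x ∨ Dis T p y x := by
  by_contra hcon
  push Not at hcon
  obtain ⟨hc1, hc2⟩ := hcon
  obtain ⟨φ, hφ, b, hb, hb0⟩ := hx
  obtain ⟨η, hη, hk, c, hc, hc0⟩ := h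
  have hcne : c ≠ 0 := by rintro rfl; exact hc0 (map_zero _)
  obtain ⟨η', hη', h1, h2⟩ := D.reg p hp η hη c hc0 (φ c) (D.im p hp φ hφ c)
  have h3 : η' b = 0 := by
    by_contra h0
    exact hc1 ⟨η', hη', fun v hv => h2 v (hk v hv), b, hb, h0⟩
  have h4 : (φ - η') b = 0 := by
    by_contra h0
    refine hc2 ⟨φ - η', (T p).sub_mem hφ hη', D.inj hp hy ((T p).sub_mem hφ hη') hc hcne ?_, b, hb, h0⟩
    rw [AddMonoidHom.sub_apply, h1, sub_self]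
  rw [AddMonoidHom.sub_apply, h3, sub_zero] at h4
  exact hb0 h4

/-- (6) -/
theorem both {p p' p'' x : AddSubgroup L} (hp : p ∈ PP) (hp' : p' ∈ PP) (hp'' : p'' ∈ PP)
    (h1 : Adj T p p') (h2 : Adj T p'' p') (h : ¬ Adj T p p'') (hpx : Adj T p x) : Adj T p'' x := by
  by_contra hcon
  have key : ∀ w ∈ PP, Adj T p w → Adj T p'' w → ¬ Dis T p w x := by
    intro w hw hpw hpw'' hd
    obtain ⟨ψ, hψ, hk, c, hc, hc0⟩ := D.tri hp hw hpw hd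
    have hk' : ∀ v ∈ p'', ψ v = 0 := by
      intro v hv'
      by_contra h0
      exact D.not_dis hp hw hpw h ⟨ψ, hψ, hk, v, hv', h0⟩
    refine D.not_dis hp'' hw hpw'' hcon ⟨ψ, hψ, hk', c, hc, hc0⟩
  obtain ⟨y, hy, hd, hpy⟩ := D.exists_second hp hp' hp'' h1 h2 h
  rcases D.dis_or hp hy hd hpx with h3 | h3
  · exact key p' hp' h1 h2 h3
  · exact key y hy (adj_of_dis hd) hpy h3

/-- `(a, a'')` is killed by `T x`. -/
def _root_.Cfsg.Agent.Omega.OmThm.TT.Rel (T : AddSubgroup L → AddSubgroup (L →+ L)) (x : AddSubgroup L) (a a' : L) : Prop :=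
  ∀ ψ ∈ T x, ψ (a + a') = 0

/-- (8) existence of `θ_x(a)` -/
theorem exists_rel {p p'' x : AddSubgroup L} (hp : p ∈ PP) (hp'' : p'' ∈ PP) (hx : x ∈ PP) (h1 : Adj T p x)
    (h2 : Adj T p'' x) (h : ¬ Adj T p p'') {a : L} (ha : a ∈ p) : ∃ a'' ∈ p'', Rel T x a a'' := by
  have h' : ¬ Adj T p'' p := fun h0 => h (D.symm hp'' hp h0)
  by_cases ha0 : a = 0
  · exact ⟨0, p''.zero_mem, fun ψ _ => by rw [ha0, add_zero, map_zero]⟩
  obtain ⟨ψ₀, hψ₀, c, hc, hc0⟩ := D.symm hp hx h1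
  have hψa : ψ₀ a ≠ 0 := D.inj' hx hp hψ₀ hc hc0 ha ha0
  -- `ψ₀` is not zero on `p''`
  have hk'' : ∃ d ∈ p'', ψ₀ d ≠ 0 := by
    by_contra h0
    push Not at h0
    exact D.not_dis hp'' hx h2 h' ⟨ψ₀, hψ₀, h0, a, ha, hψa⟩
  obtain ⟨d, hd, hd0⟩ := hk''
  let f : p'' → x := fun v => ⟨ψ₀ v, D.im x hx ψ₀ hψ₀ v⟩
  have hinj : Function.Injective f := by
    intro u v he
    have he' : ψ₀ u = ψ₀ v := congrArg Subtype.val he
    apply Subtype.ext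
    by_contra hne
    refine D.inj' hx hp'' hψ₀ hd hd0 (p''.sub_mem u.2 v.2) (sub_ne_zero.2 hne) ?_
    rw [map_sub, he', sub_self]
  have hbij : Function.Bijective f := hinj.bijective_of_nat_card_le (by rw [D.card x hx, D.card p'' hp''])
  obtain ⟨a'', ha''⟩ := hbij.2 ⟨ψ₀ a, D.im x hx ψ₀ hψ₀ a⟩
  have ha2 : ψ₀ a'' = ψ₀ a := congrArg Subtype.val ha''
  have hz : ψ₀ (a + a'') = 0 := by rw [map_add, ha2, D.two]
  refine ⟨a'', a''.2, fun ψ hψ => ?_⟩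
  -- elements killing `a` kill `p` and `p''`
  have hkill : ∀ ψ ∈ T x, ψ a = 0 → ψ (a + a'') = 0 := by
    intro ψ hψ h0
    have h3 := D.inj hx hp hψ ha ha0 h0
    have h4 : ψ a'' = 0 := by
      by_contra h5
      exact D.not_dis hp hx h1 h ⟨ψ, hψ, h3, a'', a''.2, h5⟩
    rw [map_add, h0, h4, add_zero]
  obtain ⟨ψ', hψ', h5, h6⟩ := D.reg x hx ψ₀ hψ₀ a hψa (ψ a) (D.im x hx ψ hψ a)
  have h7 := hkill (ψ - ψ') ((T x).sub_mem hψ hψ') (by rw [AddMonoidHom.sub_apply, h5, sub_self])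
  rw [AddMonoidHom.sub_apply, h6 _ hz, sub_zero] at h7
  exact h7

/-- (9a) -/
theorem rel_of_dis {p p'' x x' : AddSubgroup L} (hp : p ∈ PP) (hx : x ∈ PP) (hx' : x' ∈ PP)
    (h1 : Adj T p x) (h1' : Adj T p x') (h : ¬ Adj T p p'')
    (hd : Dis T x p x') {a a'' : L} (ha : a ∈ p) (ha'' : a'' ∈ p'') (hr : Rel T x a a'') : Rel T x' a a'' := by
  have hxx' : Adj T x x' := adj_of_dis hd
  have hd' : Dis T x' p x := by
    have e1 : Dis T x x' p := D.dis_symm hx (D.symm hp hx h1) hx' hd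
    have e2 : Dis T x' x p := D.tri hx hx' hxx' e1
    exact D.dis_symm hx' (D.symm hx hx' hxx') hp e2
  -- an element killing `p` kills `a + a''`
  have hkill : ∀ z ∈ PP, Adj T p z → ∀ ψ ∈ T z, (∀ v ∈ p, ψ v = 0) → ψ (a + a'') = 0 := by
    intro z hz hpz ψ hψ hk
    have h4 : ψ a'' = 0 := by
      by_contra h5
      exact D.not_dis hp hz hpz h ⟨ψ, hψ, hk, a'', ha'', h5⟩
    rw [map_add, hk a ha, h4, add_zero]
  obtain ⟨b, hb, hb0⟩ := D.ne x hx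
  obtain ⟨b', hb', hb0'⟩ := D.ne x' hx'
  have hne : x ≠ x' := D.adj_ne hx hxx'
  -- `y ∋ b' + b`, the image of `x'` under `1 + ψ'`
  obtain ⟨ψ, hψ, hk, c, hc, hc0⟩ := hd
  obtain ⟨ψ', hψ', h3, h4⟩ := D.reg x hx ψ hψ b' (D.inj' hx hx' hψ hc hc0 hb' hb0') b hb
  obtain ⟨y, hy, e1, e2, e3, e4⟩ := D.move x hx ψ' hψ' x' hx'
  have hby : b' + b ∈ y := by simpa [h3] using e1 b' hb'
  -- `y₁ ∋ b + b'`, the image of `x` under `1 + τ'`
  obtain ⟨τ, hτ, hkt, c', hc', hc0'⟩ := hd'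
  obtain ⟨τ', hτ', h5, h6⟩ := D.reg x' hx' τ hτ b (D.inj' hx' hx hτ hc' hc0' hb hb0) b' hb'
  obtain ⟨y₁, hy₁, f1, f2, f3, f4⟩ := D.move x' hx' τ' hτ' x hx
  have hby₁ : b + b' ∈ y₁ := by simpa [h5] using f1 b hb
  have hyy : y = y₁ := D.ti y hy y₁ hy₁ _ hby (by rwa [add_comm]) fun h0 => by
    have := D.eq_of_add h0
    exact hne (D.ti x hx x' hx' b hb (this ▸ hb') hb0)
  subst hyy
  -- `Rel x → Rel y`
  have hry : Rel T y a a'' := by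
    intro σ hσ
    obtain ⟨σ', hσ', h7⟩ := f4 σ hσ
    have h8 : σ' (a + a'') = 0 := hr σ' hσ'
    have h9 : τ' (a + a'') = 0 := hkill x' hx' h1' τ' hτ' fun v hv => h6 v (hkt v hv)
    rw [h7, h9, add_zero] at h8
    have h10 : σ (a + a'') = τ' (σ (a + a'')) := D.eq_of_add h8
    have h11 : τ' (σ (a + a'')) = τ' (τ' (σ (a + a''))) := congrArg τ' h10
    rw [D.ker x' hx' τ' hτ' _ (D.im x' hx' τ' hτ' _)] at h11
    rw [h10, h11]
  -- `Rel y → Rel x'`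
  intro σ hσ
  obtain ⟨σ', hσ', h7⟩ := e3 σ hσ
  have h8 : σ' (a + a'') = 0 := hry σ' hσ'
  have h9 : ψ' (a + a'') = 0 := hkill x hx h1 ψ' hψ' fun v hv => h4 v (hk v hv)
  rw [h7, h9, add_zero] at h8
  have h10 : σ (a + a'') = ψ' (σ (a + a'')) := D.eq_of_add h8
  have h11 : ψ' (σ (a + a'')) = ψ' (ψ' (σ (a + a''))) := congrArg ψ' h10
  rw [D.ker x hx ψ' hψ' _ (D.im x hx ψ' hψ' _)] at h11
  rw [h10, h11]

/-- (9) -/
theorem rel_of_rel {p p'' x x' : AddSubgroup L} (hp : p ∈ PP) (hx : x ∈ PP) (hx' : x' ∈ PP)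
    (h1 : Adj T p x) (h1' : Adj T p x') (h : ¬ Adj T p p'')
    {a a'' : L} (ha : a ∈ p) (ha'' : a'' ∈ p'') (hr : Rel T x a a'') : Rel T x' a a'' := by
  -- the case of different hyperplanes of `T p`
  have key : ∀ z ∈ PP, ∀ z' ∈ PP, Adj T p z → Adj T p z' → Dis T p z z' →
      Rel T z a a'' → Rel T z' a a'' := by
    intro z hz z' hz' k1 k1' hd hr
    -- `Dis p z z' → Dis z p z'`
    exact D.rel_of_dis hp hz hz' k1 k1' h (D.tri hp hz k1 hd) ha ha'' hr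
  by_cases hd : Dis T p x x'
  · exact key x hx x' hx' h1 h1' hd hr
  · obtain ⟨y, hy, hdy⟩ := D.exists_dis hp hx
    have hpy := adj_of_dis hdy
    have h3 := key x hx y hy h1 hpy hdy hr
    have hdy' : Dis T p x' y := by
      obtain ⟨η, hη, hk, hv⟩ := hdy
      refine ⟨η, hη, fun v hv' => ?_, hv⟩
      by_contra h0
      exact hd ⟨η, hη, hk, v, hv', h0⟩
    exact key y hy x' hx' hpy h1' (D.dis_symm hp h1' hy hdy') h3

/-- (10) killed by all `T x` -/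
def _root_.Cfsg.Agent.Omega.OmThm.TT.RelA (PP : Set (AddSubgroup L)) (T : AddSubgroup L → AddSubgroup (L →+ L))
    (a a' : L) : Prop := ∀ x ∈ PP, ∀ ψ ∈ T x, ψ (a + a') = 0

theorem relA_of_rel {p p'' x : AddSubgroup L} (hp : p ∈ PP) (hp'' : p'' ∈ PP) (hx : x ∈ PP)
    (h1 : Adj T p x) (h2 : Adj T p'' x) (h : ¬ Adj T p p'')
    {a a'' : L} (ha : a ∈ p) (ha'' : a'' ∈ p'') (hr : Rel T x a a'') : RelA PP T a a'' := by
  intro z hz
  by_cases hpz : Adj T p z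
  · exact D.rel_of_rel hp hx hz h1 hpz h ha ha'' hr
  · have hpz'' : ¬ Adj T p'' z := fun h3 =>
      hpz (D.both hp'' hx hp h2 h1 (fun h0 => h (D.symm hp'' hp h0)) h3)
    intro ψ hψ
    have e1 : ψ a = 0 := by
      by_contra h0
      exact hpz (D.symm hz hp ⟨ψ, hψ, a, ha, h0⟩)
    have e2 : ψ a'' = 0 := by
      by_contra h0
      exact hpz'' (D.symm hz hp'' ⟨ψ, hψ, a'', ha'', h0⟩)
    rw [map_add, e1, e2, add_zero]

/-- `W(p;x) = φ W(x;p)` -/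
theorem exists_comp {p x : AddSubgroup L} (hp : p ∈ PP) (hx : x ∈ PP) {φ : L →+ L} (hφ : φ ∈ T p)
    (hφx : ∃ b ∈ x, φ b ≠ 0) {η : L →+ L} (hη : η ∈ T p) (hk : ∀ v ∈ x, η v = 0) :
    ∃ ψ ∈ T x, (∀ v ∈ p, ψ v = 0) ∧ φ.comp ψ = η := by
  obtain ⟨b, hb, hb0⟩ := hφx
  obtain ⟨ψ₀, hψ₀, c, hc, hc0⟩ := D.symm hp hx ⟨φ, hφ, b, hb, hb0⟩
  let A : Type _ := {ψ : L →+ L // ψ ∈ T x ∧ ∀ v ∈ p, ψ v = 0}
  let B : Type _ := {η : L →+ L // η ∈ T p ∧ ∀ v ∈ x, η v = 0}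
  have : Finite (L →+ L) := Finite.of_injective (fun f : L →+ L => (f : L → L)) DFunLike.coe_injective
  have gen : ∀ p ∈ PP, ∀ x ∈ PP, ∀ φ ∈ T p, ∀ b ∈ x, φ b ≠ 0 → ∀ ψ₁ ψ₂ : L →+ L, ψ₁ ∈ T x → ψ₂ ∈ T x →
      φ.comp ψ₁ = φ.comp ψ₂ → ψ₁ = ψ₂ := by
    intro p hp x hx φ hφ b hb hb0 ψ₁ ψ₂ h1 h2 he
    ext v
    have h1' : φ (ψ₁ v) = φ (ψ₂ v) := DFunLike.congr_fun he v
    by_contra hne
    refine D.inj' hp hx hφ hb hb0 (x.sub_mem (D.im x hx _ h1 v) (D.im x hx _ h2 v)) (sub_ne_zero.2 hne) ?_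
    rw [map_sub, h1', sub_self]
  have gen2 : ∀ p ∈ PP, ∀ x ∈ PP, ∀ φ ∈ T p, ∀ ψ ∈ T x, (∀ v ∈ p, ψ v = 0) →
      φ.comp ψ ∈ T p ∧ ∀ v ∈ x, (φ.comp ψ) v = 0 := by
    intro p hp x hx φ hφ ψ hψ hk
    refine ⟨D.cl p hp x hx φ hφ ψ hψ hk, fun v hv => ?_⟩
    show φ (ψ v) = 0
    rw [D.ker x hx ψ hψ v hv, map_zero]
  let f : A → B := fun ψ => ⟨φ.comp ψ.1, gen2 p hp x hx φ hφ ψ.1 ψ.2.1 ψ.2.2⟩
  let g : B → A := fun η => ⟨ψ₀.comp η.1, gen2 x hx p hp ψ₀ hψ₀ η.1 η.2.1 η.2.2⟩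
  have hf : Function.Injective f := fun ψ₁ ψ₂ he =>
    Subtype.ext (gen p hp x hx φ hφ b hb hb0 _ _ ψ₁.2.1 ψ₂.2.1 (congrArg Subtype.val he))
  have hg : Function.Injective g := fun ψ₁ ψ₂ he =>
    Subtype.ext (gen x hx p hp ψ₀ hψ₀ c hc hc0 _ _ ψ₁.2.1 ψ₂.2.1 (congrArg Subtype.val he))
  have hbij : Function.Bijective f := hf.bijective_of_nat_card_le (Nat.card_le_card_of_injective g hg)
  obtain ⟨ψ, hψ⟩ := hbij.2 ⟨η, hη, hk⟩
  exact ⟨ψ.1, ψ.2.1, ψ.2.2, congrArg Subtype.val hψ⟩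

/-- (10a) -/
theorem exists_partner_aux {p p'' x : AddSubgroup L} (hp : p ∈ PP) (hp'' : p'' ∈ PP) (hx : x ∈ PP)
    (h1 : Adj T p x) (h2 : Adj T p'' x) (h : ¬ Adj T p p'') {η : L →+ L} (hη : η ∈ T p)
    (hk : ∀ v ∈ x, η v = 0) : ∃ η'' ∈ T p'', ∀ v, RelA PP T (η v) (η'' v) := by
  have h' : ¬ Adj T p'' p := fun h0 => h (D.symm hp'' hp h0)
  obtain ⟨φ, hφ, b, hb, hb0⟩ := h1
  obtain ⟨ψ, hψ, hkp, rfl⟩ := D.exists_comp hp hx hφ ⟨b, hb, hb0⟩ hη hk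
  have hbne : b ≠ 0 := by rintro rfl; exact hb0 (map_zero _)
  obtain ⟨a'', ha'', hr⟩ := D.exists_rel hp hp'' hx ⟨φ, hφ, b, hb, hb0⟩ h2 h (D.im p hp φ hφ b)
  obtain ⟨σ, hσ, d, hd, hd0⟩ := h2
  obtain ⟨φ'', hφ'', h3, -⟩ := D.reg p'' hp'' σ hσ b (D.inj' hp'' hx hσ hd hd0 hb hbne) a'' ha''
  -- `φ u + φ'' u` is killed for all `u ∈ x`
  have key : ∀ u ∈ x, RelA PP T (φ u) (φ'' u) := by
    obtain ⟨y, hy, e1, -⟩ := D.move p hp φ hφ x hx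
    obtain ⟨z, hz, f1, -⟩ := D.move p'' hp'' φ'' hφ'' y hy
    have hkp'' : ∀ v ∈ p, φ'' v = 0 := by
      intro v hv
      by_contra h0
      exact h' ⟨φ'', hφ'', v, hv, h0⟩
    have hz' : ∀ u ∈ x, u + φ u + φ'' u ∈ z := by
      intro u hu
      have := f1 _ (e1 u hu)
      rwa [map_add, hkp'' _ (D.im p hp φ hφ u), add_zero] at this
    have hbz := hz' b hb
    rw [h3] at hbz
    have hb1 : b + φ b + a'' ≠ 0 := by
      intro h0
      have h4 := congrArg φ h0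
      rw [map_add, map_add, D.ker p hp φ hφ _ (D.im p hp φ hφ b), map_zero] at h4
      have h5 : φ a'' = 0 := by
        by_contra h6
        exact h ⟨φ, hφ, a'', ha'', h6⟩
      rw [h5, add_zero, add_zero] at h4
      exact hb0 h4
    intro u hu
    refine D.relA_of_rel hp hp'' hx ⟨φ, hφ, b, hb, hb0⟩ ⟨σ, hσ, d, hd, hd0⟩ h (D.im p hp φ hφ u)
      (D.im p'' hp'' φ'' hφ'' u) ?_
    intro τ hτ
    have h6 : τ (b + φ b + a'') = 0 := by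
      rw [add_assoc, map_add, D.ker x hx τ hτ b hb, zero_add]
      exact hr τ hτ
    have h7 := D.inj hx hz hτ hbz hb1 h6 _ (hz' u hu)
    rwa [add_assoc, map_add, D.ker x hx τ hτ u hu, zero_add] at h7
  have hkψ'' : ∀ v ∈ p'', ψ v = 0 := by
    intro v hv
    by_contra h0
    exact D.not_dis hp hx ⟨φ, hφ, b, hb, hb0⟩ h ⟨ψ, hψ, hkp, v, hv, h0⟩
  exact ⟨φ''.comp ψ, D.cl p'' hp'' x hx φ'' hφ'' ψ hψ hkψ'', fun v => key (ψ v) (D.im x hx ψ hψ v)⟩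

/-- (10b) -/
theorem exists_partner {p p'' x : AddSubgroup L} (hp : p ∈ PP) (hp'' : p'' ∈ PP) (hx : x ∈ PP)
    (h1 : Adj T p x) (h2 : Adj T p'' x) (h : ¬ Adj T p p'') {η : L →+ L} (hη : η ∈ T p) :
    ∃ η'' ∈ T p'', ∀ v, RelA PP T (η v) (η'' v) := by
  obtain ⟨y, hy, hd⟩ := D.exists_dis hp hx
  have hpy := adj_of_dis hd
  have hpy'' : Adj T p'' y := D.both hp hx hp'' h1 h2 h hpy
  obtain ⟨η₀, hη₀, hk, c, hc, hc0⟩ := hd
  have hcne : c ≠ 0 := by rintro rfl; exact hc0 (map_zero _)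
  obtain ⟨η₁, hη₁, h3, h4⟩ := D.reg p hp η₀ hη₀ c hc0 (η c) (D.im p hp η hη c)
  obtain ⟨ζ₁, hζ₁, g1⟩ := D.exists_partner_aux hp hp'' hx h1 h2 h hη₁ fun v hv => h4 v (hk v hv)
  obtain ⟨ζ₂, hζ₂, g2⟩ := D.exists_partner_aux hp hp'' hy hpy hpy'' h ((T p).sub_mem hη hη₁)
    (D.inj hp hy ((T p).sub_mem hη hη₁) hc hcne (by rw [AddMonoidHom.sub_apply, h3, sub_self]))
  refine ⟨ζ₁ + ζ₂, (T p'').add_mem hζ₁ hζ₂, fun v z hz ψ hψ => ?_⟩
  have e : η v + (ζ₁ + ζ₂) v = (η₁ v + ζ₁ v) + ((η - η₁) v + ζ₂ v) := by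
    rw [AddMonoidHom.sub_apply, AddMonoidHom.add_apply]
    abel
  rw [e, map_add, g1 v z hz ψ hψ, g2 v z hz ψ hψ, add_zero]

/-- **(11) two different points with a common neighbour are adjacent.** -/
theorem clique {p p' p'' : AddSubgroup L} (hp : p ∈ PP) (hp' : p' ∈ PP) (hp'' : p'' ∈ PP) (h1 : Adj T p p')
    (h2 : Adj T p' p'') (hne : p ≠ p'') : Adj T p p'' := by
  by_contra h
  have h2' := D.symm hp' hp'' h2
  obtain ⟨φ, hφ, b, hb, hb0⟩ := h1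
  obtain ⟨φ'', hφ'', hr⟩ := D.exists_partner hp hp'' hp' ⟨φ, hφ, b, hb, hb0⟩ h2' h hφ
  have h3 := D.rad p hp p'' hp'' φ hφ φ'' hφ'' hr b
  have h4 : φ b = φ'' b := D.eq_of_add h3
  exact hne (D.ti p hp p'' hp'' (φ b) (D.im p hp φ hφ b) (h4 ▸ D.im p'' hp'' φ'' hφ'' b) hb0)

/-! ### The classes -/

/-- `x` is in the class of `p` -/
def _root_.Cfsg.Agent.Omega.OmThm.TT.Cls (T : AddSubgroup L → AddSubgroup (L →+ L)) (p x : AddSubgroup L) : Prop :=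
  x = p ∨ Adj T p x

theorem cls_symm {p x : AddSubgroup L} (hp : p ∈ PP) (hx : x ∈ PP) (h : Cls T p x) : Cls T x p := by
  rcases h with h | h
  · exact Or.inl h.symm
  · exact Or.inr (D.symm hp hx h)

theorem cls_trans {p x y : AddSubgroup L} (hp : p ∈ PP) (hx : x ∈ PP) (hy : y ∈ PP) (h : Cls T p x)
    (h2 : Cls T x y) : Cls T p y := by
  rcases h with h | h
  · rwa [← h]
  rcases h2 with h2 | h2
  · rw [h2]; exact Or.inr h
  by_cases hpy : y = p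
  · exact Or.inl hpy
  · exact Or.inr (D.clique hp hx hy h h2 (Ne.symm hpy))

/-- every point has a neighbour -/
theorem exists_adj {p : AddSubgroup L} (hp : p ∈ PP) : ∃ x ∈ PP, Adj T p x := by
  obtain ⟨x, hx, h⟩ := D.exists_dis hp hp
  exact ⟨x, hx, adj_of_dis h⟩

omit [Finite L] in
/-- `a ∈ x`, `b ∈ y`, `x ~ y`: `a + b` lies in a point of the class -/
theorem add_mem_point {x y : AddSubgroup L} (hx : x ∈ PP) (hy : y ∈ PP) (h : Adj T x y) {a b : L} (ha : a ∈ x)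
    (hb : b ∈ y) (hb0 : b ≠ 0) : ∃ z ∈ PP, a + b ∈ z ∧ Adj T x z := by
  obtain ⟨φ, hφ, c, hc, hc0⟩ := h
  have h1 := D.inj' hx hy hφ hc hc0 hb hb0
  obtain ⟨φ', hφ', h2, -⟩ := D.reg x hx φ hφ b h1 a ha
  obtain ⟨z, hz, e1, -⟩ := D.move x hx φ' hφ' y hy
  have h3 : a + b ∈ z := by
    have := e1 b hb
    rwa [h2, add_comm] at this
  refine ⟨z, hz, h3, φ, hφ, a + b, h3, ?_⟩
  rw [map_add, D.ker x hx φ hφ a ha, zero_add]
  exact h1

/-- the union of the points of the class of `p` -/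
def U {p : AddSubgroup L} (hp : p ∈ PP) : AddSubgroup L where
  carrier := {v | ∃ x ∈ PP, v ∈ x ∧ Cls T p x}
  zero_mem' := ⟨p, hp, p.zero_mem, Or.inl rfl⟩
  neg_mem' := by
    rintro v ⟨x, hx, hv, hc⟩
    exact ⟨x, hx, x.neg_mem hv, hc⟩
  add_mem' := by
    rintro a b ⟨x, hx, ha, hc⟩ ⟨y, hy, hb, hc'⟩
    by_cases hb0 : b = 0
    · exact ⟨x, hx, by rwa [hb0, add_zero], hc⟩
    rcases D.cls_trans hx hp hy (D.cls_symm hp hx hc) hc' with h | h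
    · subst h
      exact ⟨y, hy, y.add_mem ha hb, hc⟩
    · obtain ⟨z, hz, h1, h2⟩ := D.add_mem_point hx hy h ha hb hb0
      exact ⟨z, hz, h1, D.cls_trans hp hx hz hc (Or.inr h2)⟩

theorem mem_U {p : AddSubgroup L} (hp : p ∈ PP) {v : L} : v ∈ D.U hp ↔ ∃ x ∈ PP, v ∈ x ∧ Cls T p x := Iff.rfl

theorem le_U {p x : AddSubgroup L} (hp : p ∈ PP) (hx : x ∈ PP) (h : Cls T p x) : x ≤ D.U hp :=
  fun _ hv => ⟨x, hx, hv, h⟩

theorem self_le_U {p : AddSubgroup L} (hp : p ∈ PP) : p ≤ D.U hp := D.le_U hp hp (Or.inl rfl)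

theorem U_eq {p x : AddSubgroup L} (hp : p ∈ PP) (hx : x ∈ PP) (h : Cls T p x) : D.U hp = D.U hx := by
  ext v
  constructor
  · rintro ⟨y, hy, hv, hc⟩
    exact ⟨y, hy, hv, D.cls_trans hx hp hy (D.cls_symm hp hx h) hc⟩
  · rintro ⟨y, hy, hv, hc⟩
    exact ⟨y, hy, hv, D.cls_trans hp hx hy h hc⟩

/-- a point whose intersection with `U p` is not zero is in the class of `p` -/
theorem cls_of_mem {p x : AddSubgroup L} (hp : p ∈ PP) (hx : x ∈ PP) {v : L} (hv : v ∈ x) (hv0 : v ≠ 0)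
    (h : v ∈ D.U hp) : Cls T p x := by
  obtain ⟨y, hy, hvy, hc⟩ := h
  rwa [D.ti x hx y hy v hv hvy hv0]

/-- `T x` kills the other classes -/
theorem kill {p x : AddSubgroup L} (hp : p ∈ PP) (hx : x ∈ PP) (h : ¬ Cls T p x) {η : L →+ L} (hη : η ∈ T x) :
    ∀ v ∈ D.U hp, η v = 0 := by
  rintro v ⟨y, hy, hv, hc⟩
  by_contra h0
  exact h (D.cls_trans hp hy hx hc (D.cls_symm hx hy (Or.inr ⟨η, hη, v, hv, h0⟩)))

/-- a vector of `U p` which is killed by all `T x`, `x` in the class of `p`, is zero -/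
theorem eq_zero_of_kill {p : AddSubgroup L} (hp : p ∈ PP) {v : L} (hv : v ∈ D.U hp)
    (h : ∀ x ∈ PP, Cls T p x → ∀ η ∈ T x, η v = 0) : v = 0 := by
  by_contra hv0
  obtain ⟨y, hy, hvy, hc⟩ := hv
  obtain ⟨x, hx, ⟨η, hη, w, hw, hw0⟩⟩ := D.exists_adj hy
  have hxy := D.symm hy hx ⟨η, hη, w, hw, hw0⟩
  obtain ⟨τ, hτ, c, hcy, hc0⟩ := hxy
  exact D.inj' hx hy hτ hcy hc0 hvy hv0 (h x hx (D.cls_trans hp hy hx hc (Or.inr ⟨η, hη, w, hw, hw0⟩)) τ hτ)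

/-- **the sum of the `U p` is direct** -/
theorem U_inf {p : AddSubgroup L} (hp : p ∈ PP) :
    D.U hp ⊓ (⨆ x, ⨆ (hx : x ∈ PP), ⨆ (_ : ¬ Cls T p x), D.U hx) = ⊥ := by
  rw [eq_bot_iff]
  rintro v ⟨hv, hv2⟩
  rw [AddSubgroup.mem_bot]
  refine D.eq_zero_of_kill hp hv fun y hy hc η hη => ?_
  have h1 : (⨆ x, ⨆ (hx : x ∈ PP), ⨆ (_ : ¬ Cls T p x), D.U hx) ≤ η.ker := by
    refine iSup_le fun x => iSup_le fun hx => iSup_le fun hn => ?_
    intro w hw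
    exact D.kill hx hy (fun h0 => hn (D.cls_trans hp hy hx hc (D.cls_symm hx hy h0))) hη w hw
  exact h1 hv2

theorem iSup_U : (⨆ x, ⨆ (hx : x ∈ PP), D.U hx) = ⊤ := by
  rw [eq_top_iff, ← D.span]
  exact iSup₂_le fun p hp => (D.self_le_U hp).trans (le_iSup₂_of_le p hp le_rfl)

/-- **`|U p| ≥ 8`** -/
theorem eight_le {p : AddSubgroup L} (hp : p ∈ PP) : 8 ≤ Nat.card (D.U hp) := by
  obtain ⟨x, hx, hpx⟩ := D.exists_adj hp
  obtain ⟨y, hy, hd⟩ := D.exists_dis hp hx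
  have hpy := adj_of_dis hd
  obtain ⟨η, hη, hk, w, hw, hw0⟩ := hd
  obtain ⟨a, ha, ha0⟩ := D.ne p hp
  obtain ⟨b, hb, hb0⟩ := D.ne x hx
  obtain ⟨τ, hτ, c, hc, hc0⟩ := D.symm hp hx hpx
  have hτa : τ a ≠ 0 := D.inj' hx hp hτ hc hc0 ha ha0
  -- three subgroups
  have double : ∀ A : AddSubgroup L, ∀ f : L →+ L, (∃ v ∈ A, f v ≠ 0) →
      2 * Nat.card (A ⊓ f.ker : AddSubgroup L) ≤ Nat.card A := by
    rintro A f ⟨v, hv, hv0⟩
    let g : (A ⊓ f.ker : AddSubgroup L) × Bool → A := fun z => ⟨z.1.1 + (bif z.2 then v else 0), by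
      refine A.add_mem z.1.2.1 ?_
      cases z.2
      · exact A.zero_mem
      · exact hv⟩
    have hg : Function.Injective g := by
      rintro ⟨z, i⟩ ⟨z', i'⟩ he
      have he' : z.1 + (bif i then v else 0) = z'.1 + (bif i' then v else 0) := congrArg Subtype.val he
      have h1 : f z.1 = 0 := z.2.2
      have h1' : f z'.1 = 0 := z'.2.2
      have h2 := congrArg f he'
      rw [map_add, map_add, h1, h1', zero_add, zero_add] at h2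
      have hii : i = i' := by
        cases i <;> cases i' <;> simp at h2 <;> first | rfl | (exact absurd h2 hv0) | exact absurd h2.symm hv0
      subst hii
      have hzz := add_right_cancel he'
      exact Prod.ext (Subtype.ext hzz) rfl
    have := Nat.card_le_card_of_injective g hg
    rw [Nat.card_prod] at this
    simp only [Nat.card_eq_fintype_card (α := Bool), Fintype.card_bool] at this
    omega
  have h1 := double (D.U hp) η ⟨w, D.le_U hp hy (Or.inr hpy) hw, hw0⟩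
  have h2 := double (D.U hp ⊓ η.ker) τ ⟨a, ⟨D.self_le_U hp ha, D.ker p hp η hη a ha⟩, hτa⟩
  have h3 : 2 ≤ Nat.card ((D.U hp ⊓ η.ker) ⊓ τ.ker : AddSubgroup L) := by
    have hbm : b ∈ (D.U hp ⊓ η.ker) ⊓ τ.ker :=
      ⟨⟨D.le_U hp hx (Or.inr hpx) hb, hk b hb⟩, D.ker x hx τ hτ b hb⟩
    by_contra hlt
    have h4 : Nat.card ((D.U hp ⊓ η.ker) ⊓ τ.ker : AddSubgroup L) = 1 := by
      have : 0 < Nat.card ((D.U hp ⊓ η.ker) ⊓ τ.ker : AddSubgroup L) := Nat.card_pos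
      omega
    have h5 := (Nat.card_eq_one_iff_unique.1 h4).1
    exact hb0 (congrArg Subtype.val (Subsingleton.elim (⟨b, hbm⟩ : ((D.U hp ⊓ η.ker) ⊓ τ.ker : AddSubgroup L))
      ⟨0, zero_mem _⟩))
  omega

end Dat

end Cfsg.Agent.Omega.OmThm.TT
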